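import Cfsg.Agent.H749.TwoCmp
import Cfsg.Agent.H113.PSL.Three

/-!
# Harish-Chandra induction from the stabiliser of a singular point (helper113)

`exists_hc_van` : helper749's `exists_hc_stab` with an arbitrary vanishing hypothesis for the orthogonal disjoint `W'`;
`van_torus` : the vanishing hypothesis for `k = 1`, `θ ≠ 1`, `ψ` trivial;
`van_cusp` : the vanishing hypothesis for `k = 1`, `ψ = ψ₀ ∘ ρ`, `ψ₀` cuspidal;
`exists_one`, `exists_one_cusp` : the resulting irreducible characters.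
-/

set_option autoImplicit false
set_option linter.unusedSectionVars false
set_option linter.style.haveILetI false

open scoped ComplexConjugate
open Cfsg

namespace Cfsg.Agent.H113.Two.HcOne

open Cfsg.Agent.OddOrderCharacters.Clifford Cfsg.Agent.Characters MulAction Module Cfsg.Agent.H53.HC
open Cfsg.Agent.H477.HC Cfsg.Agent.H749.Two Cfsg.Agent.H113.PSL.Hyper Cfsg.Agent.H113.PSL.Para
open Cfsg.Agent.H113.PSL.Three (isIrr_linDet)

universe u v w

variable {K : Type u} [Field K] {V : Type v} [AddCommGroup V] [Module K V] {X : Type w} [AddCommGroup X] [Module K X]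
variable {F : CForm K V} {F' : CForm K X} {j : X →ₗ[K] V} {W₀ : Submodule K V}

/-- **Harish-Chandra induction of `c ⊗ ψ₁`**, `ψ₁` an irreducible character of the stabiliser of `W₀` trivial on
`F.TT W₀`. -/
theorem exists_hc_van [Finite K] [FiniteDimensional K V] [Finite V] {k : ℕ} {Z : Kˣ → Prop} {c : GL (Fin k) K → ℂ}
    (hc : Cus K k F.σ Z c) (hW₀ : W₀ ∈ F.Om k) {ψ₁ : stabW F.iso.subtype W₀ → ℂ} (hψ : IsIrrCharacter _ ψ₁)
    (hT : ∀ g : stabW F.iso.subtype W₀, (g : F.iso) ∈ F.TT W₀ → ψ₁ g = ψ₁ 1)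
    (hW : ∀ W' ∈ F.Om k, W₀ ≤ F.perp W' → W₀ ⊓ W' = ⊥ → F.Van c (psf F W₀ ψ₁) W₀ W') :
    ∃ χ : F.iso → ℂ, IsIrrCharacter F.iso χ ∧ χ 1 = dg F k * ψ₁ 1 ∧
      ∀ (z : F.iso) (a : Kˣ), (∀ v, (z : V ≃ₗ[K] V) v = (a : K) • v) →
        (∀ hs : z ∈ stabW F.iso.subtype W₀, c (Matrix.GeneralLinearGroup.scalar (Fin k) a) * ψ₁ ⟨z, hs⟩ = c 1 * ψ₁ 1) →
        χ z = χ 1 := by
  classical
  have := finite_Om F k
  have := finite_iso F
  let _ := Fintype.ofFinite (F.Om k)
  let _ := Fintype.ofFinite F.iso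
  have hcl := Core.isIrr_isClassFunction hc.irr
  have hcl1 := Core.isIrr_isClassFunction hψ
  obtain ⟨W₁, hW₁, hopp⟩ := F.exists_opp hW₀
  have hψT : ∀ W ∈ F.Om k, ∀ g ∈ F.TT W, psf F W₀ ψ₁ g W = psf F W₀ ψ₁ 1 W := by
    intro W hWk g hg
    obtain ⟨x, hx⟩ := F.trans_Om hW₀ hWk
    have h1 := TT_conj hx hg
    have h2 : x⁻¹ * 1 * x ∈ stabW F.iso.subtype W₀ := by
      rw [mul_one, inv_mul_cancel]; exact Subgroup.one_mem _
    rw [psf_eq hcl1 hx h1.1, psf_eq hcl1 hx h2, hT _ h1]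
    congr 1
    apply Subtype.ext
    change 1 = x⁻¹ * 1 * x
    group
  have hirr : IsIrrCharacter (stabW F.iso.subtype W₀) (fun g => psf F W₀ ψ₁ g W₀) := by
    have : (fun g : stabW F.iso.subtype W₀ => psf F W₀ ψ₁ g W₀) = ψ₁ := by
      funext g
      exact psf_self hcl1 g
    rw [this]; exact hψ
  have hval1 : ∀ W ∈ F.Om k, psf F W₀ ψ₁ 1 W = ψ₁ 1 := by
    intro W hWk
    obtain ⟨x, hx⟩ := F.trans_Om hW₀ hWk
    have h2 : x⁻¹ * 1 * x ∈ stabW F.iso.subtype W₀ := by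
      rw [mul_one, inv_mul_cancel]; exact Subgroup.one_mem _
    rw [psf_eq hcl1 hx h2]
    congr 1
    apply Subtype.ext
    change x⁻¹ * 1 * x = 1
    group
  refine ⟨F.hc c (psf F W₀ ψ₁), F.isIrr_hc hc.irr hc.cusp hc.dual (psf_conj hcl1) hψT hW₀
    (fun W hWk => F.trans_Om hW₀ hWk) (F.isIrr_stab hc.irr hψT hW₀ hW₁ hopp hirr)
    (fun W' hW' h1 h2 => hW W' hW' h1 h2), ?_, fun z a hz h => ?_⟩
  · rw [F.hc_one hcl _ hval1, hc.deg]
    unfold dg
    push_cast
    ring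
  · unfold CForm.hc
    refine Finset.sum_congr rfl fun W _ => ?_
    have hfix : ∀ U : Submodule K V, U.map (F.iso.subtype z : V →ₗ[K] V) = U := fun U =>
      map_eq_of_le F.iso.subtype fun w hw => by
        change (z : V ≃ₗ[K] V) w ∈ U
        rw [hz]; exact U.smul_mem _ hw
    have h' : W.1.map (F.iso.subtype 1 : V →ₗ[K] V) = W.1 := Submodule.map_id _
    rw [hval1 W.1 W.2, flagTerm_of F.iso.subtype c (hfix W.1), flagTerm_of F.iso.subtype c h',
      cl_eq hcl (finBasisOfFinrankEq K W.1 W.2.2)]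
    have e2 : res (F.iso.subtype 1) W.1 h' = 1 := by
      ext w
      rfl
    rw [e2, cl_one hcl (finBasisOfFinrankEq K W.1 W.2.2), ← h (hfix W₀)]
    obtain ⟨x, hx⟩ := F.trans_Om hW₀ W.2
    have hzx : x⁻¹ * z * x = z := by
      apply Subtype.ext
      ext v
      change ((x⁻¹ : F.iso) : V ≃ₗ[K] V) ((z : V ≃ₗ[K] V) ((x : V ≃ₗ[K] V) v)) = (z : V ≃ₗ[K] V) v
      rw [hz, hz, map_smul]
      congr 1
      exact (x : V ≃ₗ[K] V).symm_apply_apply v
    have hzs : x⁻¹ * z * x ∈ stabW F.iso.subtype W₀ := by rw [hzx]; exact hfix W₀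
    rw [psf_eq hcl1 hx hzs]
    congr 2
    · ext i j
      rw [coe_glE, LinearMap.toMatrix_apply]
      have e2 : (res (F.iso.subtype z) W.1 (hfix W.1) : W.1 →ₗ[K] W.1) (finBasisOfFinrankEq K W.1 W.2.2 j) =
          (a : K) • (finBasisOfFinrankEq K W.1 W.2.2 j) := Subtype.ext (hz _)
      rw [e2, map_smul, Finsupp.smul_apply, Basis.repr_self, smul_eq_mul, Matrix.GeneralLinearGroup.coe_scalar,
        Matrix.scalar_apply, Matrix.diagonal_apply, Finsupp.single_apply]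
      by_cases hij : i = j
      · simp [hij]
      · rw [if_neg hij, if_neg (Ne.symm hij), mul_zero]
    · exact Subtype.ext hzx

/-- the pointwise stabiliser -/
def fixP (F : CForm K V) (W : Submodule K V) : Subgroup F.iso where
  carrier := {g | ∀ w ∈ W, (g : V ≃ₗ[K] V) w = w}
  one_mem' := fun _ _ => rfl
  mul_mem' := by
    intro x y hx hy w hw
    rw [Subgroup.coe_mul, LinearEquiv.mul_apply, hy w hw, hx w hw]
  inv_mem' := by
    intro x hx w hw
    have h1 : ((x⁻¹ : F.iso) : V ≃ₗ[K] V) ((x : V ≃ₗ[K] V) w) = w := (x : V ≃ₗ[K] V).symm_apply_apply w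
    rwa [hx w hw] at h1

theorem mem_fixP {W : Submodule K V} {g : F.iso} : g ∈ fixP F W ↔ ∀ w ∈ W, (g : V ≃ₗ[K] V) w = w := Iff.rfl

theorem fixP_le [FiniteDimensional K V] {W : Submodule K V} : fixP F W ≤ stabW F.iso.subtype W := fun g hg =>
  map_eq_of_le F.iso.subtype fun w hw => by
    change (g : V ≃ₗ[K] V) w ∈ W
    rw [hg w hw]; exact hw

/-- **`W₀ ⟂ W'` of dimension one, `θ ≠ 1`, `ψ` trivial** -/
theorem van_torus [Finite K] [FiniteDimensional K V] [Finite V] {c : GL (Fin 1) K → ℂ} (hc : IsIrrCharacter _ c)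
    (hc1 : c 1 = 1) (hne : c ≠ 1) {ψ : F.iso → Submodule K V → ℂ}
    (hψ : ∀ (g : F.iso) (W : Submodule K V), W ∈ F.Om 1 → W.map (F.iso.subtype g : V →ₗ[K] V) = W → ψ g W = 1)
    {W' : Submodule K V} (hW₀ : W₀ ∈ F.Om 1)
    (hW' : W' ∈ F.Om 1) (hperp : W₀ ≤ F.perp W') (h0 : W₀ ⊓ W' = ⊥) : F.Van c ψ W₀ W' := by
  classical
  have hcf := Core.isIrr_isClassFunction hc
  let b₀ : Basis (Fin 1) K W₀ := finBasisOfFinrankEq K W₀ hW₀.2
  have b₁ : Basis (Fin 1) K W' := finBasisOfFinrankEq K W' hW'.2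
  have hf0 : b₀.coord 0 ≠ 0 := by
    intro h
    have h1 : b₀.coord 0 (b₀ 0) = 1 := by simp
    rw [h] at h1
    simp at h1
  obtain ⟨b, hb, hb1, hb2⟩ := CForm.exists_sing_dual (F := F) (W' := W') hW₀.1 hperp (b₀.coord 0) (fun w hw => by
    have : (w : V) ∈ W₀ ⊓ W' := ⟨w.2, hw⟩
    rw [h0] at this
    have e : w = 0 := Subtype.ext ((Submodule.mem_bot K).1 this)
    rw [e, map_zero]) hf0
  have hspan : ∀ w : W₀, ∃ t : K, w = t • b₀ 0 := fun w => ⟨b₀.repr w 0, by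
    have := b₀.sum_repr w
    rw [Fin.sum_univ_one] at this
    exact this.symm⟩
  have he : F.B (b₀ 0) b = 1 := by
    rw [← hb1]
    simp
  have hts : F.TS (K ∙ b) := by
    constructor
    · intro w hw
      obtain ⟨t, rfl⟩ := Submodule.mem_span_singleton.1 hw
      rw [F.Q_smul, hb.1, mul_zero]
    · intro w hw w' hw'
      obtain ⟨t, rfl⟩ := Submodule.mem_span_singleton.1 hw
      obtain ⟨t', rfl⟩ := Submodule.mem_span_singleton.1 hw'
      rw [F.B_smul_left, F.B_smul_right, hb.2, mul_zero, mul_zero]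
  have hlevi := F.exists_levi hW₀.1 hts (fun w hw h => by
      obtain ⟨t, ht⟩ := hspan ⟨w, hw⟩
      have ht' : w = t • (b₀ 0 : V) := congrArg Subtype.val ht
      have h1 := h b (Submodule.mem_span_singleton_self b)
      rw [ht', F.B_smul_left, he, mul_one] at h1
      rw [ht', h1, zero_smul])
    (fun w' hw' h => by
      obtain ⟨t, rfl⟩ := Submodule.mem_span_singleton.1 hw'
      have h1 := h (b₀ 0) (b₀ 0).2
      rw [F.B_smul_right, he, mul_one] at h1
      have h2 : t = 0 := by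
        have := F.σσ t
        rw [h1, map_zero] at this
        exact this.symm
      rw [h2, zero_smul])
  let L : Subgroup F.iso := stabW F.iso.subtype W₀ ⊓ fixP F W'
  refine ⟨L, inf_le_left, inf_le_right.trans fixP_le, fun {_} => ?_⟩
  have hfinW : Finite (W₀ ≃ₗ[K] W₀) :=
    Finite.of_injective (fun e : W₀ ≃ₗ[K] W₀ => (e : W₀ → W₀)) DFunLike.coe_injective
  letI : Fintype (W₀ ≃ₗ[K] W₀) := Fintype.ofFinite _
  letI : Fintype (GL (Fin 1) K) := Fintype.ofFinite _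
  let f : L →* (W₀ ≃ₗ[K] W₀) := (resHom F.iso.subtype W₀).comp (Subgroup.inclusion inf_le_left)
  have hf : Function.Surjective f := by
    intro a
    obtain ⟨g, hg1, -, hg3, hg4⟩ := hlevi a
    refine ⟨⟨g, hg4.1.1, fun w' hw' => ?_⟩, ?_⟩
    · refine hg3 w' (fun w hw => F.B_eq_zero (hperp hw w' hw')) fun w hw => ?_
      obtain ⟨t, rfl⟩ := Submodule.mem_span_singleton.1 hw
      rw [F.B_smul_right, hb2 w' hw', mul_zero]
    · ext w
      exact hg1 w
  have e1 : ∀ l : L, (flagTerm F.iso.subtype c l W₀ * ψ l W₀) * conj (flagTerm F.iso.subtype c l W' * ψ l W') =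
      (fun a : W₀ ≃ₗ[K] W₀ => cl c a) (f l) := by
    intro l
    have hl1 : W₀.map (F.iso.subtype (l : F.iso) : V →ₗ[K] V) = W₀ := l.2.1
    have hl2 : W'.map (F.iso.subtype (l : F.iso) : V →ₗ[K] V) = W' := fixP_le l.2.2
    rw [flagTerm_of F.iso.subtype c hl1, flagTerm_of F.iso.subtype c hl2, hψ _ _ hW₀ hl1, hψ _ _ hW' hl2]
    have e2 : res (F.iso.subtype (l : F.iso)) W' hl2 = 1 := by
      ext w
      exact l.2.2 w w.2
    rw [e2, cl_one hcf b₁, hc1, mul_one, mul_one, map_one, mul_one]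
    rfl
  rw [Finset.sum_congr rfl fun l _ => e1 l, sum_comp_hom f hf (fun a : W₀ ≃ₗ[K] W₀ => cl c a)]
  have h3 : ∑ a : W₀ ≃ₗ[K] W₀, cl c a = ∑ A : GL (Fin 1) K, c A := by
    refine Fintype.sum_equiv (glE b₀).toEquiv _ _ fun a => ?_
    rw [cl_eq hcf b₀]
    rfl
  have h4 := Core.classInner_irr_ne hc (Core.isIrr_one (G := GL (Fin 1) K)) hne
  rw [Core.classInner_def] at h4
  rw [h3]
  rcases mul_eq_zero.1 h4 with h5 | h5
  · exact absurd h5 (inv_ne_zero card_ne_zero')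
  · rw [show ∑ A : GL (Fin 1) K, c A = 0 by simpa using h5, mul_zero]

/-- the unipotent radical of the stabiliser of a totally singular subspace -/
def rad (F : CForm K V) (W : Submodule K V) : Subgroup F.iso := fixP F W ⊓ F.TT W

/-- changing the complement -/
theorem Cmp.change (h : Cmp F F' j W₀) (δ : X →ₗ[K] V) (hδ : ∀ x, δ x ∈ W₀) : Cmp F F' (j + δ) W₀ where
  σσ := h.σσ
  ts := h.ts
  jB x y := by
    rw [LinearMap.add_apply, LinearMap.add_apply, F.B_add_left, F.B_add_right, F.B_add_right, h.jB,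
      h.j1 x _ (hδ y), F.B_eq_zero (h.j1 y _ (hδ x)), h.ts.2 _ (hδ x) _ (hδ y)]
    ring
  jQ x := by
    rw [LinearMap.add_apply, F.Q_add, h.jQ, h.ts.1 _ (hδ x), h.j1 x _ (hδ x), F.T_zero]
    ring
  j1 x := (F.perp W₀).add_mem (h.j1 x) (h.ts.le_perp (hδ x))
  j2 v hv := by
    obtain ⟨w, hw, x, rfl⟩ := h.j2 v hv
    exact ⟨w - δ x, W₀.sub_mem hw (hδ x), x, by rw [LinearMap.add_apply]; abel⟩

/-- **`W₀ ⟂ W'`, `ψ₀` cuspidal** -/
theorem van_cusp [Finite K] [FiniteDimensional K V] [Finite V] [FiniteDimensional K X] (h : Cmp F F' j W₀) {k : ℕ}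
    {c : GL (Fin k) K → ℂ} (hcf : IsClassFunction _ c) {ρ : stabW F.iso.subtype W₀ →* F'.iso}
    (hρ : ∀ (g : stabW F.iso.subtype W₀) x, ((g : F.iso) : V ≃ₗ[K] V) (j x) - j ((ρ g : X ≃ₗ[K] X) x) ∈ W₀)
    {ψ₀ : F'.iso → ℂ} (hψ₀ : ∀ U ∈ F'.Om k, ∀ [Fintype (rad F' U)], ∑ u : rad F' U, ψ₀ u = 0)
    {ψ : F.iso → Submodule K V → ℂ} (hψT : ∀ W ∈ F.Om k, ∀ g ∈ F.TT W, ψ g W = ψ 1 W)
    (hψ : ∀ g : stabW F.iso.subtype W₀, ψ g W₀ = ψ₀ (ρ g))
    {W' : Submodule K V} (hW₀ : W₀ ∈ F.Om k)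
    (hW' : W' ∈ F.Om k) (hperp : W₀ ≤ F.perp W') (h0 : W₀ ⊓ W' = ⊥) : F.Van c ψ W₀ W' := by
  classical
  obtain ⟨r, hr, hrj, hrW⟩ := h.exists_proj
  have hWp : W' ≤ F.perp W₀ := fun w' hw' w hw => F.B_eq_zero (hperp hw w' hw')
  have hπ : ∀ v ∈ F.perp W₀, v - j (r v) ∈ W₀ := by
    intro v hv
    obtain ⟨w, hw, x, rfl⟩ := h.j2 v hv
    rw [map_add, hrW w hw, hrj, zero_add, add_sub_cancel_right]
    exact hw
  have hrinj : ∀ w' ∈ W', r w' = 0 → w' = 0 := by
    intro w' hw' h1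
    have h2 := hπ w' (hWp hw')
    rw [h1, map_zero, sub_zero] at h2
    have : w' ∈ W₀ ⊓ W' := ⟨h2, hw'⟩
    rw [h0] at this
    exact (Submodule.mem_bot K).1 this
  -- the new complement
  obtain ⟨δ, hδ, hδ'⟩ : ∃ δ : X →ₗ[K] V, (∀ x, δ x ∈ W₀) ∧ ∀ w' ∈ W', w' = j (r w') + δ (r w') := by
    let π : W' →ₗ[K] X := r.comp W'.subtype
    let t : W' →ₗ[K] W₀ :=
      { toFun := fun w' => ⟨(w' : V) - j (r w'), hπ _ (hWp w'.2)⟩
        map_add' := fun a b => by
          apply Subtype.ext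
          change ((a : V) + b) - j (r ((a : V) + b)) = ((a : V) - j (r a)) + ((b : V) - j (r b))
          rw [map_add, map_add]; abel
        map_smul' := fun a b => by
          apply Subtype.ext
          change (a • (b : V)) - j (r (a • (b : V))) = a • ((b : V) - j (r b))
          rw [map_smul, map_smul, smul_sub] }
    obtain ⟨s, hs⟩ := exists_factor π t (fun w' hw' => by
      have : w' = 0 := Subtype.ext (hrinj w' w'.2 hw')
      rw [this]; exact Submodule.zero_mem _)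
    refine ⟨W₀.subtype.comp s, fun x => (s x).2, fun w' hw' => ?_⟩
    have h1 : ((s (π ⟨w', hw'⟩) : W₀) : V) = w' - j (r w') := congrArg Subtype.val (hs ⟨w', hw'⟩)
    change w' = j (r w') + ((s (π ⟨w', hw'⟩) : W₀) : V)
    rw [h1]; abel
  have h' := Cmp.change h δ hδ
  set j' := j + δ with hj'
  have hj'x : ∀ x, j' x = j x + δ x := fun x => rfl
  have hrj' : ∀ x, r (j' x) = x := by
    intro x
    rw [hj'x, map_add, hrj, hrW _ (hδ x), add_zero]
  have hWj : ∀ w' ∈ W', j' (r w') = w' := fun w' hw' => by rw [hj'x]; exact (hδ' w' hw').symm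
  -- the image of `W'`
  let U : Submodule K X := W'.map r
  have hU : U ∈ F'.Om k := by
    refine ⟨⟨?_, ?_⟩, ?_⟩
    · rintro _ ⟨w', hw', rfl⟩
      rw [← h'.jQ, hWj w' hw']
      exact hW'.1.1 w' hw'
    · rintro _ ⟨w', hw', rfl⟩ _ ⟨w'', hw'', rfl⟩
      rw [← h'.jB, hWj w' hw', hWj w'' hw'']
      exact hW'.1.2 w' hw' w'' hw''
    · rw [← hW'.2]
      have hinj : Function.Injective (r.domRestrict W') := by
        rw [injective_iff_map_eq_zero]
        intro w hw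
        exact Subtype.ext (hrinj w w.2 hw)
      have e : U = LinearMap.range (r.domRestrict W') := by
        ext x
        constructor
        · rintro ⟨w', hw', rfl⟩
          exact ⟨⟨w', hw'⟩, rfl⟩
        · rintro ⟨w', rfl⟩
          exact ⟨w', w'.2, rfl⟩
      rw [e]
      exact LinearMap.finrank_range_of_inj hinj
  have hρr : ∀ (g : stabW F.iso.subtype W₀) v, v ∈ F.perp W₀ → (ρ g : X ≃ₗ[K] X) (r v) = r (((g : F.iso) : V ≃ₗ[K] V) v) := by
    intro g v hv
    have h1 := hrW _ (hρ g (r v))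
    rw [map_sub, hrj, sub_eq_zero] at h1
    rw [← h1]
    have h2 : ((g : F.iso) : V ≃ₗ[K] V) (v - j (r v)) ∈ W₀ := by
      have h3 : W₀.map (F.iso.subtype (g : F.iso) : V →ₗ[K] V) = W₀ := g.2
      have : F.iso.subtype (g : F.iso) (v - j (r v)) ∈ W₀.map (F.iso.subtype (g : F.iso) : V →ₗ[K] V) :=
        ⟨_, hπ v hv, rfl⟩
      rwa [h3] at this
    have h3 := hrW _ h2
    rw [map_sub, map_sub, sub_eq_zero] at h3
    exact h3.symm
  -- the subgroup
  let L : Subgroup F.iso := fixP F W₀ ⊓ (fixP F W' ⊓ F.TT W')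
  have hL0 : L ≤ stabW F.iso.subtype W₀ := inf_le_left.trans fixP_le
  refine ⟨L, hL0, (inf_le_right.trans inf_le_left).trans fixP_le, fun {_} => ?_⟩
  have hfinX : Finite X := Module.finite_of_finite K
  have hfinXi : Finite (X ≃ₗ[K] X) := Finite.of_injective (fun e : X ≃ₗ[K] X => (e : X → X)) DFunLike.coe_injective
  letI : Fintype (rad F' U) := Fintype.ofFinite _
  have hmem : ∀ l : L, ρ ⟨l, hL0 l.2⟩ ∈ rad F' U := by
    intro l
    constructor
    · rintro _ ⟨w', hw', rfl⟩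
      rw [hρr _ _ (hWp hw')]
      change r ((l : F.iso).1 w') = r w'
      rw [l.2.2.1 w' hw']
    · refine F'.mem_TT_of hU.1 fun x hx => ?_
      have h1 : j' x ∈ F.perp W' := by
        intro w' hw'
        rw [← hWj w' hw', h'.jB]
        exact hx _ ⟨w', hw', rfl⟩
      have h2 := l.2.2.2.2 _ h1
      have h3 := hρr ⟨l, hL0 l.2⟩ (j' x) (h'.j1 x)
      rw [hrj'] at h3
      rw [h3]
      refine ⟨_, h2, ?_⟩
      rw [map_sub, hrj']
  let f : L →* rad F' U := (ρ.comp (Subgroup.inclusion hL0)).codRestrict (rad F' U) hmem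
  have hf : Function.Surjective f := by
    rintro ⟨b, hb⟩
    obtain ⟨r', hr', hrj'', hrW'⟩ := h'.exists_proj
    have hr'W' : ∀ w' ∈ W', r' w' = r w' := by
      intro w' hw'
      conv_lhs => rw [← hWj w' hw']
      exact hrj'' _
    have hjr : ∀ v y, F.B (j' y) (v - j' (r' v)) = 0 := by
      intro v y
      rw [F.B_sub_right, hr', h'.jB, sub_self]
    have hjr' : ∀ v y, F.B (v - j' (r' v)) (j' y) = 0 := fun v y => F.B_eq_zero (hjr v y)
    let m : V →ₗ[K] V := (LinearMap.id - j'.comp r') + j'.comp (((b : X ≃ₗ[K] X) : X →ₗ[K] X).comp r')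
    have hm : ∀ v, m v = (v - j' (r' v)) + j' ((b : X ≃ₗ[K] X) (r' v)) := fun v => rfl
    obtain ⟨gb, hgb⟩ := F.exists_iso m (fun v u => by
        have e1 : F.B v u = F.B ((v - j' (r' v)) + j' (r' v)) ((u - j' (r' u)) + j' (r' u)) := by
          rw [sub_add_cancel, sub_add_cancel]
        rw [hm, hm, e1, F.B_add_left, F.B_add_right, F.B_add_right, F.B_add_left, F.B_add_right, F.B_add_right,
          hjr', hjr, hjr', hjr, h'.jB, h'.jB, F'.iso_B])
      (fun v => by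
        have e1 : F.Q v = F.Q ((v - j' (r' v)) + j' (r' v)) := by rw [sub_add_cancel]
        rw [hm, e1, F.Q_add, F.Q_add, hjr', hjr', h'.jQ, h'.jQ, F'.iso_Q])
    have hg0 : ∀ w ∈ W₀, (gb : V ≃ₗ[K] V) w = w := by
      intro w hw
      rw [hgb, hm, hrW' w hw, map_zero, map_zero, map_zero, sub_zero, add_zero]
    have hg1 : ∀ w ∈ W', (gb : V ≃ₗ[K] V) w = w := by
      intro w hw
      have h1 : (b : X ≃ₗ[K] X) (r w) = r w := hb.1 _ ⟨w, hw, rfl⟩
      rw [hgb, hm, hr'W' w hw, h1, sub_add_cancel]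
    have hg2 : gb ∈ F.TT W' := by
      refine F.mem_TT_of hW'.1 fun v hv => ?_
      have h1 : r' v ∈ F'.perp U := by
        rintro _ ⟨w', hw', rfl⟩
        refine F'.B_eq_zero ?_
        rw [← hr', hWj w' hw']
        exact F.B_eq_zero (hv w' hw')
      obtain ⟨w', hw', hw''⟩ := hb.2.2 _ h1
      have h2 : (gb : V ≃ₗ[K] V) v - v = w' := by
        rw [hgb, hm, ← hWj w' hw', hw'', map_sub]
        change v - j' (r' v) + j' (b.1 (r' v)) - v = j' (b.1 (r' v)) - j' (r' v)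
        abel
      rw [h2]; exact hw'
    refine ⟨⟨gb, hg0, hg1, hg2⟩, ?_⟩
    apply Subtype.ext
    change ρ ⟨gb, _⟩ = b
    apply Subtype.ext
    ext x
    have h1 := hrW _ (hρ ⟨gb, fixP_le hg0⟩ x)
    rw [map_sub, hrj, sub_eq_zero] at h1
    rw [← h1]
    change r ((gb : V ≃ₗ[K] V) (j x)) = _
    have h2 : j x = j' x - δ x := by rw [hj'x]; abel
    rw [h2, map_sub, hg0 _ (hδ x), map_sub, hrW _ (hδ x), sub_zero, hgb, hm, hrj'', sub_self, zero_add, hrj']
  have b₀ : Basis (Fin k) K W₀ := finBasisOfFinrankEq K W₀ hW₀.2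
  have b₁ : Basis (Fin k) K W' := finBasisOfFinrankEq K W' hW'.2
  have e1 : ∀ l : L, (flagTerm F.iso.subtype c l W₀ * ψ l W₀) * conj (flagTerm F.iso.subtype c l W' * ψ l W') =
      (fun a : rad F' U => ψ₀ a * (c 1 * conj (c 1 * ψ 1 W'))) (f l) := by
    intro l
    have hl1 : W₀.map (F.iso.subtype (l : F.iso) : V →ₗ[K] V) = W₀ := fixP_le l.2.1
    have hl2 : W'.map (F.iso.subtype (l : F.iso) : V →ₗ[K] V) = W' := fixP_le l.2.2.1
    rw [flagTerm_of F.iso.subtype c hl1, flagTerm_of F.iso.subtype c hl2, hψT _ hW' _ l.2.2.2]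
    have e2 : res (F.iso.subtype (l : F.iso)) W' hl2 = 1 := by
      ext w
      exact l.2.2.1 w w.2
    have e3 : res (F.iso.subtype (l : F.iso)) W₀ hl1 = 1 := by
      ext w
      exact l.2.1 w w.2
    rw [e2, e3, cl_one hcf b₁, cl_one hcf b₀, hψ ⟨l, hL0 l.2⟩]
    change _ = ψ₀ (ρ ⟨l, hL0 l.2⟩) * _
    ring
  rw [Finset.sum_congr rfl fun l _ => e1 l,
    sum_comp_hom f hf (fun a : rad F' U => ψ₀ a * (c 1 * conj (c 1 * ψ 1 W'))), ← Finset.sum_mul, hψ₀ U hU, zero_mul,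
    mul_zero]

section one

variable (K)

/-- linear characters as cuspidal data -/
theorem cusOne [Finite K] (σ : K →+* K) {θ : Kˣ →* ℂˣ} (hθ : ∃ z : Kˣ, θ (z * Units.map (σ : K →* K) z) ≠ 1) :
    Cus K 1 σ (fun _ => False) (linDet θ 1) where
  irr := by
    classical
    letI : Fintype K := Fintype.ofFinite K
    exact isIrr_linDet θ
  cusp := by
    intro D h0 h1
    exfalso
    have h2 : finrank K D ≠ 0 := fun h => h0 (Submodule.finrank_eq_zero.1 h)
    have h3 := Submodule.finrank_lt h1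
    rw [finrank_fin_fun] at h3
    omega
  dual := by
    obtain ⟨z, hz⟩ := hθ
    intro h
    apply hz
    have h1 := congrFun h (Matrix.GeneralLinearGroup.scalar (Fin 1) z)
    have e1 : Matrix.GeneralLinearGroup.det (Matrix.GeneralLinearGroup.scalar (Fin 1) z) = z := by
      apply Units.ext
      rw [Matrix.GeneralLinearGroup.val_det_apply, Matrix.GeneralLinearGroup.coe_scalar]
      simp
    have e2 : Matrix.GeneralLinearGroup.det (((Matrix.GeneralLinearGroup.map σ).comp (invT 1))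
        (Matrix.GeneralLinearGroup.scalar (Fin 1) z)) = (Units.map (σ : K →* K) z)⁻¹ := by
      apply Units.ext
      rw [Matrix.GeneralLinearGroup.val_det_apply, MonoidHom.comp_apply]
      change (Matrix.map _ σ).det = _
      rw [invT_val, ← map_inv, Matrix.GeneralLinearGroup.coe_scalar]
      simp
    unfold linDet at h1
    rw [Function.comp_apply, e1, e2] at h1
    have h2 := Units.ext h1
    rw [map_mul, ← h2, map_inv, inv_mul_cancel]
  scal := fun _ h => h.elim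
  deg := by
    unfold linDet
    rw [map_one, map_one]
    simp

end one

theorem dg_one [Finite K] : dg F 1 = Nat.card (F.Om 1) := by
  unfold dg
  simp

/-- `D_1` -/
theorem exists_one [Finite K] [FiniteDimensional K V] [Finite V] (hW₀ : W₀ ∈ F.Om 1) {θ : Kˣ →* ℂˣ}
    (hθ : ∃ z : Kˣ, θ (z * Units.map (F.σ : K →* K) z) ≠ 1) :
    ∃ χ : F.iso → ℂ, IsIrrCharacter F.iso χ ∧ χ 1 = Nat.card (F.Om 1) ∧
      ∀ (z : F.iso) (a : Kˣ), (∀ v, (z : V ≃ₗ[K] V) v = (a : K) • v) → θ a = 1 → χ z = χ 1 := by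
  classical
  have := finite_iso F
  have := Fintype.ofFinite (stabW F.iso.subtype W₀)
  have hc := cusOne K F.σ hθ
  have hne : θ ≠ 1 := by
    rintro rfl
    obtain ⟨z, hz⟩ := hθ
    exact hz rfl
  have h1 : IsIrrCharacter (stabW F.iso.subtype W₀) 1 := Core.isIrr_one
  obtain ⟨χ, hχ, hχ1, hχz⟩ := exists_hc_van hc hW₀ h1 (fun _ _ => rfl) (fun W' hW' h2 h3 => by
    refine van_torus hc.irr (by unfold linDet; rw [map_one, map_one]; rfl) (fun h => ?_) ?_ hW₀ hW' h2 h3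
    · apply hne
      ext z
      have h4 := congrFun h (Matrix.GeneralLinearGroup.scalar (Fin 1) z)
      have e1 : Matrix.GeneralLinearGroup.det (Matrix.GeneralLinearGroup.scalar (Fin 1) z) = z := by
        apply Units.ext
        rw [Matrix.GeneralLinearGroup.val_det_apply, Matrix.GeneralLinearGroup.coe_scalar]
        simp
      unfold linDet at h4
      rw [e1] at h4
      exact h4
    · intro g W hW hg
      obtain ⟨x, hx⟩ := F.trans_Om hW₀ hW
      have h5 : x⁻¹ * g * x ∈ stabW F.iso.subtype W₀ := by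
        change W₀.map (F.iso.subtype (x⁻¹ * g * x) : V →ₗ[K] V) = W₀
        rw [map_mul_apply, map_mul_apply, hx, hg, ← hx, ← map_mul_apply, inv_mul_cancel, map_one]
        exact Submodule.map_id _
      rw [psf_eq (Core.isIrr_isClassFunction h1) hx h5]
      rfl)
  refine ⟨χ, hχ, ?_, fun z a hz ha => hχz z a hz fun hs => ?_⟩
  · rw [hχ1, dg_one]
    change _ * (1 : ℂ) = _
    rw [mul_one]
  · unfold linDet
    have e1 : Matrix.GeneralLinearGroup.det (Matrix.GeneralLinearGroup.scalar (Fin 1) a) = a := by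
      apply Units.ext
      rw [Matrix.GeneralLinearGroup.val_det_apply, Matrix.GeneralLinearGroup.coe_scalar]
      simp
    rw [e1, ha, map_one, map_one]
    rfl

/-- `D_1 ⊗ ψ₀` -/
theorem exists_one_cusp [Finite K] [FiniteDimensional K V] [Finite V] [FiniteDimensional K X] (h : Cmp F F' j W₀)
    (hW₀ : W₀ ∈ F.Om 1) {θ : Kˣ →* ℂˣ} (hθ : ∃ z : Kˣ, θ (z * Units.map (F.σ : K →* K) z) ≠ 1)
    {ψ₀ : F'.iso → ℂ} (hψ : IsIrrCharacter _ ψ₀)
    (hψ₀ : ∀ U ∈ F'.Om 1, ∀ [Fintype (rad F' U)], ∑ u : rad F' U, ψ₀ u = 0) :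
    ∃ χ : F.iso → ℂ, IsIrrCharacter F.iso χ ∧ χ 1 = Nat.card (F.Om 1) * ψ₀ 1 ∧
      ∀ (z : F.iso) (a : Kˣ), (∀ v, (z : V ≃ₗ[K] V) v = (a : K) • v) →
        (∀ z' : F'.iso, (∀ x, (z' : X ≃ₗ[K] X) x = (a : K) • x) → ((θ a : ℂˣ) : ℂ) * ψ₀ z' = ψ₀ 1) → χ z = χ 1 := by
  classical
  have := finite_iso F
  have hc := cusOne K F.σ hθ
  obtain ⟨ρ, hρ1, hρ2, hρ3⟩ := h.exists_rho
  obtain ⟨r, hr, hrj, hrW⟩ := h.exists_proj
  have hsurj : Function.Surjective ρ := fun b => by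
    obtain ⟨g, hg, -⟩ := hρ3 1 b
    exact ⟨g, hg⟩
  have hirr := Core.isIrr_comp ρ hsurj hψ
  have hcl1 := Core.isIrr_isClassFunction hirr
  have hψT : ∀ W ∈ F.Om 1, ∀ g ∈ F.TT W, psf F W₀ (ψ₀ ∘ ρ) g W = psf F W₀ (ψ₀ ∘ ρ) 1 W := by
    intro W hWk g hg
    obtain ⟨x, hx⟩ := F.trans_Om hW₀ hWk
    have h1 := TT_conj hx hg
    have h2 : x⁻¹ * 1 * x ∈ stabW F.iso.subtype W₀ := by
      rw [mul_one, inv_mul_cancel]; exact Subgroup.one_mem _
    rw [psf_eq hcl1 hx h1.1, psf_eq hcl1 hx h2, Function.comp_apply, Function.comp_apply, hρ2 _ h1]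
    congr 1
    rw [show (⟨x⁻¹ * 1 * x, h2⟩ : stabW F.iso.subtype W₀) = 1 from Subtype.ext (by
      change x⁻¹ * 1 * x = 1
      group), map_one]
  obtain ⟨χ, hχ, hχ1, hχz⟩ := exists_hc_van hc hW₀ hirr (fun g hg => by
    rw [Function.comp_apply, Function.comp_apply, hρ2 g hg, map_one])
    (fun W' hW' h2 h3 => van_cusp h (Core.isIrr_isClassFunction hc.irr) hρ1 hψ₀ hψT (fun g => by
      rw [psf_self hcl1]; rfl) hW₀ hW' h2 h3)
  refine ⟨χ, hχ, by rw [hχ1, Function.comp_apply, map_one, dg_one], fun z a hz h1 => hχz z a hz fun hs => ?_⟩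
  rw [Function.comp_apply, Function.comp_apply, map_one]
  unfold linDet
  have e1 : Matrix.GeneralLinearGroup.det (Matrix.GeneralLinearGroup.scalar (Fin 1) a) = a := by
    apply Units.ext
    rw [Matrix.GeneralLinearGroup.val_det_apply, Matrix.GeneralLinearGroup.coe_scalar]
    simp
  rw [e1, map_one, map_one, Units.val_one, one_mul]
  refine h1 _ fun x => ?_
  have h2 := hrW _ (hρ1 ⟨z, hs⟩ x)
  rw [map_sub, hrj, sub_eq_zero] at h2
  rw [← h2]
  change r ((z : V ≃ₗ[K] V) (j x)) = _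
  rw [hz, map_smul, hrj]

end Cfsg.Agent.H113.Two.HcOne
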