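import Cfsg.Agent.H113.PSU.Descent
import Cfsg.Agent.ClassicalGeometry.GUBasic

/-!
# From `GU_n(q)` to `PSU_n(q)`: the number of constituents is a product of primes dividing `n` (helper113)
-/

set_option autoImplicit false
set_option linter.unusedSectionVars false
set_option linter.style.haveILetI false

open scoped ComplexConjugate

namespace Cfsg.Agent.H113.Two.Descent2

open Cfsg Cfsg.Agent.LieClassical.HermBasic Cfsg.Agent.LieClassical.HermSiegel Cfsg.Agent.Characters
open Cfsg.Agent.H477.HC Cfsg.Agent.H113.PSU.Descent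
open Cfsg.Agent.H53.HC (sum_comp_hom)

universe u

/-- restriction to a subgroup which together with the centre generates the group -/
theorem isIrr_res {I : Type u} [Group I] [Finite I] (N Z : Subgroup I) (hZ : Z ≤ Subgroup.center I)
    (hNZ : ∀ g : I, ∃ x ∈ N, ∃ z ∈ Z, g = x * z) {θ : I → ℂ} (hθ : IsIrrCharacter I θ) :
    IsIrrCharacter N (θ ∘ N.subtype) := by
  classical
  letI : Fintype I := Fintype.ofFinite I
  letI : Fintype N := Fintype.ofFinite N
  letI : Fintype Z := Fintype.ofFinite Z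
  letI : Fintype (N × Z) := inferInstance
  have hcomm : ∀ (x : I) (z : Z), x * z = z * x := fun x z => Subgroup.mem_center_iff.1 (hZ z.2) x
  let μ : N × Z →* I :=
    { toFun := fun p => p.1 * p.2
      map_one' := by simp
      map_mul' := fun p p' => by
        change (p.1 : I) * p'.1 * (p.2 * p'.2) = (p.1 : I) * p.2 * (p'.1 * p'.2)
        rw [mul_assoc, mul_assoc, ← mul_assoc (p'.1 : I), hcomm p'.1 p.2, mul_assoc] }
  have hμ : Function.Surjective μ := by
    intro g
    obtain ⟨x, hx, z, hz, rfl⟩ := hNZ g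
    exact ⟨(⟨x, hx⟩, ⟨z, hz⟩), rfl⟩
  have hz : ∀ (x : I) (z : Z), θ (x * z) * conj (θ (x * z)) = θ x * conj (θ x) := by
    intro x z
    obtain ⟨l, hl⟩ := central_mul hθ (hZ z.2)
    -- `|l| = 1`
    have hpow : ∀ (k : ℕ) (y : I), θ (y * (z : I) ^ k) = l ^ k * θ y := by
      intro k
      induction k with
      | zero => intro y; rw [pow_zero, mul_one, pow_zero, one_mul]
      | succ k ih =>
        intro y
        rw [pow_succ, ← mul_assoc, hl, ih, pow_succ]
        ring
    have h1 := hpow (orderOf (z : I)) 1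
    rw [pow_orderOf_eq_one, mul_one] at h1
    have h2 : l ^ orderOf (z : I) = 1 := by
      have h3 : (l ^ orderOf (z : I) - 1) * θ 1 = 0 := by rw [sub_mul, ← h1, one_mul, sub_self]
      exact sub_eq_zero.1 ((mul_eq_zero.1 h3).resolve_right (Core.isIrr_apply_one_ne_zero hθ))
    have h3 : ‖l‖ = 1 := by
      have h4 : ‖l‖ ^ orderOf (z : I) = 1 := by rw [← norm_pow, h2, norm_one]
      exact (pow_eq_one_iff_of_nonneg (norm_nonneg l) (orderOf_pos (z : I)).ne').1 h4
    have h4 : l * conj l = 1 := by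
      rw [Complex.mul_conj, Complex.normSq_eq_norm_sq, h3]
      norm_num
    rw [hl, map_mul]
    calc l * θ x * (conj l * conj (θ x)) = (l * conj l) * (θ x * conj (θ x)) := by ring
      _ = _ := by rw [h4, one_mul]
  have h1 := sum_comp_hom μ hμ (fun g => θ g * conj (θ g))
  have h2 : ∑ p : N × Z, θ (μ p) * conj (θ (μ p)) = (Nat.card Z : ℂ) * ∑ x : N, θ x * conj (θ x) := by
    rw [Fintype.sum_prod_type, Finset.mul_sum]
    refine Finset.sum_congr rfl fun x _ => ?_
    have h3 : ∀ z : Z, θ (μ (x, z)) * conj (θ (μ (x, z))) = θ x * conj (θ x) := fun z => hz x z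
    rw [Finset.sum_congr rfl fun z _ => h3 z, Finset.sum_const, Finset.card_univ, nsmul_eq_mul,
      Nat.card_eq_fintype_card]
  have h3 := Core.classInner_irr_self hθ
  rw [Core.classInner_def] at h3
  have hI : (Nat.card I : ℂ) ≠ 0 := Core.card_ne_zero_complex
  have hN : (Nat.card N : ℂ) ≠ 0 := Core.card_ne_zero_complex
  have hZ0 : (Nat.card Z : ℂ) ≠ 0 := Core.card_ne_zero_complex
  have h4 : ∑ g : I, θ g * conj (θ g) = Nat.card I := by
    have := congrArg ((Nat.card I : ℂ) * ·) h3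
    simpa [mul_inv_cancel_left₀ hI] using this
  have h5 : (Nat.card N : ℂ) * Nat.card Z = Nat.card μ.ker * Nat.card I := by
    have h6 : Nat.card (N × Z) = Nat.card μ.ker * Nat.card I := by
      rw [Subgroup.card_eq_card_quotient_mul_card_subgroup μ.ker, mul_comm]
      congr 1
      exact Nat.card_congr (QuotientGroup.quotientKerEquivOfSurjective μ hμ).toEquiv
    rw [Nat.card_prod] at h6
    exact_mod_cast h6
  change ∑ p : N × Z, θ (μ p) * conj (θ (μ p)) = _ at h1
  rw [h2, h4, ← h5] at h1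
  have h6 : ∑ x : N, θ x * conj (θ x) = Nat.card N := by
    apply mul_left_cancel₀ hZ0
    rw [h1]; ring
  have h7 : classInner (θ ∘ N.subtype) (θ ∘ N.subtype) = 1 := by
    rw [Core.classInner_def]
    change (Nat.card N : ℂ)⁻¹ * ∑ x : N, θ x * conj (θ x) = 1
    rw [h6, inv_mul_cancel₀ hN]
  exact Core.isIrr_of_classInner_self (Core.isCharacter_comp N.subtype (Core.isIrr_isCharacter hθ)) h7

variable {F : Type u} [Field F] [Fintype F] {q n : ℕ}

/-- the scalar with parameter `c` -/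
theorem exists_scalar (c : F) (hc : c ^ (q + 1) = 1) :
    ∃ z : GU n F q, ((z : GL (Fin n) F) : Matrix (Fin n) (Fin n) F) = Matrix.diagonal fun _ => c :=
  ⟨Cfsg.Agent.ClassicalGeometry.GUBasic.guDiag q (fun _ => c) (fun _ => hc),
    Cfsg.Agent.ClassicalGeometry.GUBasic.coe_guDiag _ _ _⟩

theorem scalar_center {z : GU n F q} {c : F}
    (hz : ((z : GL (Fin n) F) : Matrix (Fin n) (Fin n) F) = Matrix.diagonal fun _ => c) :
    z ∈ Subgroup.center (GU n F q) := by
  rw [Subgroup.mem_center_iff]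
  intro g
  apply Subtype.ext
  apply Units.ext
  change ((g : GL (Fin n) F) : Matrix (Fin n) (Fin n) F) * ((z : GL (Fin n) F) : Matrix (Fin n) (Fin n) F) =
    ((z : GL (Fin n) F) : Matrix (Fin n) (Fin n) F) * ((g : GL (Fin n) F) : Matrix (Fin n) (Fin n) F)
  rw [hz]
  ext i j
  rw [Matrix.mul_diagonal, Matrix.diagonal_mul, mul_comm]

/-- `g ^ n` is in `SU Z` -/
theorem pow_mem (hF : Fintype.card F = q ^ 2) (g : GU n F q) : g ^ n ∈ NN n F q ⊔ Subgroup.center (GU n F q) := by
  obtain ⟨c, hc⟩ : ∃ c, c = ((g : GL (Fin n) F) : Matrix (Fin n) (Fin n) F).det := ⟨_, rfl⟩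
  have hcq : c ^ (q + 1) = 1 := by
    rw [hc]
    exact Cfsg.Agent.ClassicalGeometry.GUBasic.det_pow hF
      ((Cfsg.Agent.ClassicalGeometry.GUBasic.mem_GU_iff _).1 g.2)
  obtain ⟨z, hz⟩ := exists_scalar (n := n) c hcq
  have h1 : g ^ n * z⁻¹ ∈ NN n F q := by
    change Matrix.GeneralLinearGroup.det (((g ^ n * z⁻¹ : GU n F q) : GL (Fin n) F)) = 1
    rw [Subgroup.coe_mul, Subgroup.coe_pow, Subgroup.coe_inv, map_mul, map_pow, map_inv, mul_inv_eq_one]
    apply Units.ext
    rw [Units.val_pow_eq_pow_val, Matrix.GeneralLinearGroup.val_det_apply, Matrix.GeneralLinearGroup.val_det_apply, hz,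
      ← hc, Matrix.det_diagonal]
    simp
  have h2 : g ^ n = (g ^ n * z⁻¹) * z := by group
  rw [h2]
  exact Subgroup.mul_mem _ (Subgroup.mem_sup_left h1) (Subgroup.mem_sup_right (scalar_center hz))

/-- **descent to `PSU`** -/
theorem exists_psu' (hF : Fintype.card F = q ^ 2) (hn : 3 ≤ n) {χ : GU n F q → ℂ} (hχ : IsIrrCharacter _ χ) {d : ℕ}
    (hd : χ 1 = d) (hz : ∀ (z : GU n F q) (c : F), z ∈ NN n F q → c * c ^ q = 1 →
      (∀ v, ((z : GL (Fin n) F) : Matrix (Fin n) (Fin n) F).mulVec v = c • v) → χ z = χ 1) :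
    ∃ (η : PSU n F q → ℂ) (e t : ℕ), IsIrrCharacter _ η ∧ η 1 = e ∧ 0 < e ∧ e * t = d ∧ t ∣ q + 1 ∧
      ∀ r : ℕ, r.Prime → r ∣ t → r ∣ n := by
  classical
  let N := NN n F q ⊔ Subgroup.center (GU n F q)
  have hNle : NN n F q ≤ N := le_sup_left
  have : N.Normal := Subgroup.sup_normal _ _
  obtain ⟨θ, e, hθ, he, h3, h4, h5, h6⟩ := down_constituent N hχ hd
  -- restriction to `SU`
  have hdec : ∀ g : N, ∃ x ∈ (NN n F q).subgroupOf N, ∃ z ∈ (Subgroup.center (GU n F q)).subgroupOf N, g = x * z := by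
    rintro ⟨g, hg⟩
    obtain ⟨x, hx, z, hz, rfl⟩ := Subgroup.mem_sup_of_normal_left.1 hg
    exact ⟨⟨x, hNle hx⟩, Subgroup.mem_subgroupOf.2 hx, ⟨z, Subgroup.mem_sup_right hz⟩, Subgroup.mem_subgroupOf.2 hz, rfl⟩
  have hcen : (Subgroup.center (GU n F q)).subgroupOf N ≤ Subgroup.center N := by
    intro z hz
    rw [Subgroup.mem_center_iff]
    intro g
    exact Subtype.ext (Subgroup.mem_center_iff.1 (Subgroup.mem_subgroupOf.1 hz) g)
  have hres := isIrr_res _ _ hcen hdec hθ
  let E : SU n F q ≃* (NN n F q).subgroupOf N := (eSU n F q).trans (Subgroup.subgroupOfEquivOfLe hNle).symm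
  have hE : ∀ g, (((E g : (NN n F q).subgroupOf N) : N) : GU n F q) = eSU n F q g := fun g => rfl
  have hθ' : IsIrrCharacter (SU n F q) ((θ ∘ ((NN n F q).subgroupOf N).subtype) ∘ E.toMonoidHom) :=
    Core.isIrr_comp E.toMonoidHom E.surjective hres
  obtain ⟨η, hη, hη'⟩ := exists_quot (Subgroup.center (SU n F q)) hθ' (fun z hzc => by
    obtain ⟨c, hc, hcq, hc'⟩ := Cfsg.Agent.ClassicalGeometry.PSUAutBasic.exists_scalar_of_mem_center hF hn hzc
    change θ (E z : N) = θ (E 1 : N)
    rw [map_one]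
    have hsc : ∀ v, ((((E z : (NN n F q).subgroupOf N) : N) : GU n F q) : GL (Fin n) F).1.mulVec v = c • v := by
      intro v
      rw [hE]
      change ((((eSU n F q z : NN n F q) : GU n F q) : GL (Fin n) F) : Matrix (Fin n) (Fin n) F).mulVec v = _
      rw [eSU_val, hc']
    refine h6 _ ?_ (hz _ c ?_ hcq hsc)
    · rw [Subgroup.mem_center_iff]
      intro g
      apply Subtype.ext
      apply Subtype.ext
      apply Units.ext
      change ((g : GU n F q) : GL (Fin n) F).1 * (((E z : (NN n F q).subgroupOf N) : N) : GU n F q).1.1 =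
        (((E z : (NN n F q).subgroupOf N) : N) : GU n F q).1.1 * ((g : GU n F q) : GL (Fin n) F).1
      apply Matrix.toLin'.injective
      refine LinearMap.ext fun v => ?_
      rw [Matrix.toLin'_mul, Matrix.toLin'_mul]
      simp only [LinearMap.comp_apply, Matrix.toLin'_apply]
      rw [hsc, Matrix.mulVec_smul, hsc]
    · exact (eSU n F q z).2)
  refine ⟨η, e, d / e, hη, ?_, h5, Nat.mul_div_cancel' h3, ?_, fun r hr hrt => ?_⟩
  · rw [← he]
    have := hη' 1
    rw [QuotientGroup.mk_one] at this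
    rw [this]
    change θ (E 1 : N) = θ 1
    rw [map_one]
    rfl
  · have h7 := Subgroup.index_dvd_of_le hNle
    rw [index_NN hF (by omega)] at h7
    exact h4.trans h7
  · have : Fact r.Prime := ⟨hr⟩
    have h7 : r ∣ Nat.card (GU n F q ⧸ N) := hrt.trans h4
    obtain ⟨x, hx⟩ := exists_prime_orderOf_dvd_card' r h7
    obtain ⟨g, rfl⟩ := QuotientGroup.mk_surjective x
    rw [← hx]
    apply orderOf_dvd_of_pow_eq_one
    rw [← QuotientGroup.mk_pow, QuotientGroup.eq_one_iff]
    exact pow_mem hF g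

end Cfsg.Agent.H113.Two.Descent2
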