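import Cfsg.Agent.H113.Two.HermData
import Cfsg.Agent.H113.Two.Descent2
import Cfsg.Agent.H113.PSU.Facts

/-!
# Characters of `PSU_n(q)` from Harish-Chandra induction (helper113)

`exLevi` : `dg k / t`; `exPair` : `dg k / t` and `dg k p^m / t'`, `n - 2 k = 2, 3`;
`exOne` : `|Om 1| / t`; `exCusp` : `|Om 1| d / t`, `d` the degree of a cuspidal character of `GU_{n-2}(q)`, `n = 4, 5`.
-/

set_option autoImplicit false
set_option linter.unusedSectionVars false
set_option linter.style.haveILetI false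

open scoped ComplexConjugate
open Cfsg

namespace Cfsg.Agent.H113.Two.PsuChars

open Cfsg.Agent.Characters MulAction Module Cfsg.Agent.H53.HC
open Cfsg.Agent.H477.HC Cfsg.Agent.H477.HC.CForm Cfsg.Agent.H749.Two Cfsg.Agent.H113.Two.HcOne
open Cfsg.Agent.H113.Two.SplitForm Cfsg.Agent.H113.Two.HermData Cfsg.Agent.H113.Two.Descent2
open Cfsg.Agent.H113.PSU.Descent Cfsg.Agent.H113.PSU.Facts

universe u

variable {F : Type u} [Field F] [Fintype F] {q n : ℕ}

/-- descent -/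
theorem to_psu (hF : Fintype.card F = q ^ 2) (hq : Nat.card F = q ^ 2) (hn : 3 ≤ n)
    {χ : (hermF F hq n).iso → ℂ} (hχ : IsIrrCharacter _ χ) {d : ℕ} (hd : χ 1 = d)
    (hz : ∀ (z : (hermF F hq n).iso) (a : Fˣ), a ∈ mu F q → a ^ n = 1 →
      (∀ v, (z : (Fin n → F) ≃ₗ[F] (Fin n → F)) v = (a : F) • v) → χ z = χ 1) :
    ∃ (φ : IrrCharacter (PSU n F q)) (t : ℕ), charDegree (φ : PSU n F q → ℂ) * t = d ∧
      0 < charDegree (φ : PSU n F q → ℂ) ∧ t ∣ q + 1 ∧ ∀ r : ℕ, r.Prime → r ∣ t → r ∣ n := by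
  classical
  obtain ⟨η, e, t, h1, h2, h3, h4, h5, h6⟩ := exists_psu' hF hn (χ := χ ∘ (isoGU hq n).toMonoidHom)
    (Core.isIrr_comp (isoGU hq n).toMonoidHom (isoGU hq n).surjective hχ) (d := d)
    (by
      change χ (isoGU hq n 1) = d
      rw [map_one, hd])
    (fun z c hzN hc hz' => by
      change χ (isoGU hq n z) = χ (isoGU hq n 1)
      rw [map_one]
      have hc0 : c ≠ 0 := by rintro rfl; rw [zero_mul] at hc; exact zero_ne_one hc
      refine hz _ (Units.mk0 c hc0) ?_ ?_ fun v => ?_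
      · rw [mem_mu]
        apply Units.ext
        rw [Units.val_pow_eq_pow_val, Units.val_mk0, Units.val_one, pow_succ', hc]
      · have h7 : ((z : GL (Fin n) F) : Matrix (Fin n) (Fin n) F) = Matrix.diagonal fun _ => c := by
          apply Matrix.toLin'.injective
          refine LinearMap.ext fun v => ?_
          rw [Matrix.toLin'_apply, Matrix.toLin'_apply, hz']
          ext i
          rw [Matrix.mulVec_diagonal]
          rfl
        have h8 : ((z : GL (Fin n) F) : Matrix (Fin n) (Fin n) F).det = 1 := by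
          have h9 : Matrix.GeneralLinearGroup.det (z : GL (Fin n) F) = 1 := hzN
          have := congrArg Units.val h9
          exact this
        rw [h7, Matrix.det_diagonal] at h8
        apply Units.ext
        simpa using h8
      · rw [isoGU_apply, hz' v, Units.val_mk0])
  have he : charDegree η = e := H670.PSing.charDegree_eq_of h2
  refine ⟨⟨η, h1⟩, t, ?_, ?_, h5, h6⟩
  · change charDegree η * t = d
    rw [he, h4]
  · change 0 < charDegree η
    rw [he]; exact h3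

/-- **the Levi characters** -/
theorem exLevi (hF : Fintype.card F = q ^ 2) (hq : Nat.card F = q ^ 2) {k n' : ℕ} (hk : 2 ≤ k) (hn : n = k + (k + n')) :
    ∃ (φ : IrrCharacter (PSU n F q)) (t : ℕ), charDegree (φ : PSU n F q → ℂ) * t = dg (hermF F hq n) k ∧
      0 < charDegree (φ : PSU n F q → ℂ) ∧ t ∣ q + 1 ∧ ∀ r : ℕ, r.Prime → r ∣ t → r ∣ n := by
  subst hn
  obtain ⟨c, hc⟩ := hasCusU F q hq k hk
  obtain ⟨W₀, hW₀, -⟩ := hermF_cmp F hq k n'
  obtain ⟨χ, hχ, hχ1, hχz⟩ := exists_char (hermF F hq (k + (k + n'))) hW₀ (Z := fun z => z ^ (q + 1) = 1) (c := c) hc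
  exact to_psu hF hq (by omega) hχ hχ1 fun z a ha _ hz => hχz z a ha hz

/-- **the pair** -/
theorem exPair (hF : Fintype.card F = q ^ 2) (hq : Nat.card F = q ^ 2) {p : ℕ} [Fact p.Prime] [CharP F p] {k l : ℕ}
    (hk : 2 ≤ k) (hl : l ≤ 1) (hn : n = k + (k + (1 + (1 + l)))) :
    ∃ (φ ψ : IrrCharacter (PSU n F q)) (t t' m : ℕ),
      charDegree (φ : PSU n F q → ℂ) * t = dg (hermF F hq n) k ∧ t ∣ q + 1 ∧
      charDegree (ψ : PSU n F q → ℂ) * t' = dg (hermF F hq n) k * p ^ m ∧ t' ∣ q + 1 ∧ 0 < m ∧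
      0 < charDegree (φ : PSU n F q → ℂ) := by
  subst hn
  obtain ⟨c, hc⟩ := hasCusU F q hq k hk
  obtain ⟨W₀, hW₀, hcmp⟩ := hermF_cmp F hq k (1 + (1 + l))
  have hW : ∀ W' ∈ (hermF F hq (k + (k + (1 + (1 + l))))).Om k,
      W₀ ≤ (hermF F hq (k + (k + (1 + (1 + l))))).perp W' → W₀ ⊓ W' = ⊥ → False :=
    no_disj (m := k + 1) (fun W hW => by
      have := two_finrank_le hW
      rw [finrank_fin_fun] at this
      omega) (by omega) hW₀
  obtain ⟨e, f, f', hh, hf', hef', hne⟩ := hermF_hyp F hq l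
  obtain ⟨ψ₀, m, hψ₀, hm, hψ1, hψz⟩ := st_form hh (hani F hq hl) (hcomm F hq hl) hf' hef' hne (p := p)
  obtain ⟨φ, t, h1, h2, h3, -⟩ := exLevi (n := k + (k + (1 + (1 + l)))) hF hq hk rfl
  obtain ⟨χ, hχ, hχ1, hχz⟩ := exists_hc hcmp hc hW₀ hψ₀ hW
  obtain ⟨ψ, t', h1', h2', h3', -⟩ := to_psu (d := dg (hermF F hq (k + (k + (1 + (1 + l))))) k * p ^ m) hF hq (by omega) hχ
    (by rw [hχ1, hψ1]; push_cast; ring) fun z a ha _ hz => hχz z a hz fun z' hz' => by
      rw [hc.scal a ha, hψz z' a hz']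
  exact ⟨φ, ψ, t, t', m, h1, h3, h1', h3', hm, h2⟩

/-- **`D_1`** -/
theorem exOne (hF : Fintype.card F = q ^ 2) (hq : Nat.card F = q ^ 2) {l : ℕ} (hl : 1 ≤ l) (hn : n = 1 + (1 + l))
    {θ : Fˣ →* ℂˣ} (hθ : ∃ z : Fˣ, θ (z * Units.map (powHom hq : F →* F) z) ≠ 1)
    (hθ1 : ∀ a ∈ mu F q, a ^ n = 1 → θ a = 1) :
    ∃ (φ : IrrCharacter (PSU n F q)) (t : ℕ), charDegree (φ : PSU n F q → ℂ) * t = Nat.card ((hermF F hq n).Om 1) ∧
      0 < charDegree (φ : PSU n F q → ℂ) ∧ t ∣ q + 1 ∧ ∀ r : ℕ, r.Prime → r ∣ t → r ∣ n := by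
  subst hn
  obtain ⟨W₀, hW₀, hcmp⟩ := hermF_cmp F hq 1 l
  obtain ⟨χ, hχ, hχ1, hχz⟩ := exists_one hW₀ (θ := θ) hθ
  exact to_psu hF hq (by omega) hχ hχ1 fun z a ha ha' hz => hχz z a hz (hθ1 a ha ha')

/-- the scalars of the isometry group -/
def scal (F : Type u) [Field F] [Finite F] {q : ℕ} (hq : Nat.card F = q ^ 2) (n : ℕ) : mu F q →* (hermF F hq n).iso where
  toFun a := ⟨LinearEquiv.smulOfUnit (a : Fˣ), by
    have ha : ((a : Fˣ) : F) * ((a : Fˣ) : F) ^ q = 1 := by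
      have := a.2
      rw [mem_mu] at this
      have h2 := congrArg Units.val this
      rw [← pow_succ', ← Units.val_pow_eq_pow_val, h2]
      rfl
    refine ⟨fun u v => ?_, fun v => ?_⟩
    · change (hermF F hq n).B (((a : Fˣ) : F) • u) (((a : Fˣ) : F) • v) = _
      rw [B_smul_left, B_smul_right]
      change ((a : Fˣ) : F) * (((a : Fˣ) : F) ^ q * _) = _
      rw [← mul_assoc, ha, one_mul]
    · change (hermF F hq n).B (((a : Fˣ) : F) • v) (((a : Fˣ) : F) • v) = (hermF F hq n).B v v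
      rw [B_smul_left, B_smul_right]
      change ((a : Fˣ) : F) * (((a : Fˣ) : F) ^ q * _) = _
      rw [← mul_assoc, ha, one_mul]⟩
  map_one' := by
    apply Subtype.ext
    ext1 v
    change ((1 : Fˣ) : F) • v = v
    rw [Units.val_one, one_smul]
  map_mul' a b := by
    apply Subtype.ext
    ext1 v
    change (((a : Fˣ) * (b : Fˣ) : Fˣ) : F) • v = ((a : Fˣ) : F) • ((b : Fˣ) : F) • v
    rw [Units.val_mul, mul_smul]

theorem scal_apply [Finite F] {q : ℕ} (hq : Nat.card F = q ^ 2) (n : ℕ) (a : mu F q) (v : Fin n → F) :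
    ((scal F hq n a : (hermF F hq n).iso) : (Fin n → F) ≃ₗ[F] (Fin n → F)) v = ((a : Fˣ) : F) • v := rfl

/-- **`D_1 ⊗ ψ₀`** -/
theorem exCusp (hF : Fintype.card F = q ^ 2) (hq : Nat.card F = q ^ 2) (h4 : 4 ≤ q) {l : ℕ} (hl : l ≤ 1)
    (hn : n = 1 + (1 + (1 + (1 + l)))) :
    ∃ (φ : IrrCharacter (PSU n F q)) (t d : ℕ),
      charDegree (φ : PSU n F q → ℂ) * t = Nat.card ((hermF F hq n).Om 1) * d ∧
      0 < charDegree (φ : PSU n F q → ℂ) ∧ t ∣ q + 1 ∧ (∀ r : ℕ, r.Prime → r ∣ t → r ∣ n) ∧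
      ∀ r : ℕ, r.Prime → r ≠ 2 → r ∣ q - 1 → r ∣ d := by
  classical
  subst hn
  obtain ⟨e, f, f', hh, hf', hef', hne⟩ := hermF_hyp F hq l
  obtain ⟨ψ₀, hψ₀, hψsum, hψp⟩ := cusp_form hh (hani F hq hl) (hcomm F hq hl) hf' hef' hne
  obtain ⟨W₀, hW₀, hcmp⟩ := hermF_cmp F hq 1 (1 + (1 + l))
  obtain ⟨d, hd0, hd⟩ := Core.isIrr_apply_one hψ₀
  -- the central character
  have := finite_iso (hermF F hq (1 + (1 + l)))
  have hcen : ∀ a : mu F q, scal F hq (1 + (1 + l)) a ∈ Subgroup.center (hermF F hq (1 + (1 + l))).iso := by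
    intro a
    rw [Subgroup.mem_center_iff]
    intro g
    apply Subtype.ext
    refine LinearEquiv.ext fun v => ?_
    exact map_smul g.1 ((a : Fˣ) : F) v
  have hex : ∀ a : mu F q, ∃ x : ℂ, ∀ g, ψ₀ (g * scal F hq (1 + (1 + l)) a) = x * ψ₀ g := fun a =>
    central_mul hψ₀ (hcen a)
  choose ω hω using hex
  have hψ1 := Core.isIrr_apply_one_ne_zero hψ₀
  have hω1 : ω 1 = 1 := by
    have h1 := hω 1 1
    rw [map_one, mul_one] at h1
    have h2 : (ω 1 - 1) * ψ₀ 1 = 0 := by rw [sub_mul, ← h1, one_mul, sub_self]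
    exact sub_eq_zero.1 ((mul_eq_zero.1 h2).resolve_right hψ1)
  have hωm : ∀ a b, ω (a * b) = ω a * ω b := by
    intro a b
    have h1 := hω (a * b) 1
    rw [map_mul, ← mul_assoc, hω b, hω a] at h1
    have h2 : (ω (a * b) - ω a * ω b) * ψ₀ 1 = 0 := by
      rw [sub_mul, ← h1]; ring
    exact sub_eq_zero.1 ((mul_eq_zero.1 h2).resolve_right hψ1)
  let ω₀ : mu F q →* ℂ := { toFun := ω, map_one' := hω1, map_mul' := hωm }
  let ω' : mu F q →* ℂˣ := ω₀.toHomUnits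
  have hω' : ∀ a, ((ω' a : ℂˣ) : ℂ) = ω a := fun a => rfl
  obtain ⟨θ, hθ1, hθ⟩ := exists_theta hq h4 ω'
  obtain ⟨χ, hχ, hχ1, hχz⟩ := exists_one_cusp hcmp hW₀ (θ := θ) hθ hψ₀ hψsum
  obtain ⟨φ, t, h1, h2, h3, h5⟩ := to_psu (d := Nat.card ((hermF F hq (1 + (1 + (1 + (1 + l))))).Om 1) * d) hF hq
    (by omega) hχ (by rw [hχ1, hd]; push_cast; ring) fun z a ha _ hz => hχz z a hz fun z' hz' => by
      have h6 : z' = 1 * scal F hq (1 + (1 + l)) ⟨a, ha⟩ := by
        rw [one_mul]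
        apply Subtype.ext
        refine LinearEquiv.ext fun v => ?_
        rw [hz', scal_apply]
      rw [h6, hω, ← hω', ← mul_assoc, ← Units.val_mul, hθ1 a ha, Units.val_one, one_mul]
  refine ⟨φ, t, d, h1, h2, h3, h5, fun r hr hr2 hrq => ?_⟩
  -- an element of order `r`
  have hq2 : 2 ≤ q := by omega
  have : Fact r.Prime := ⟨hr⟩
  have h6 : r ∣ Nat.card Fˣ := by
    rw [Nat.card_units, hq, Cfsg.Agent.H113.PSU.Facts.sq_sub (q := q) (by omega)]
    exact hrq.mul_right _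
  obtain ⟨x, hx⟩ := exists_prime_orderOf_dvd_card' r h6
  have hxr : x ^ r = 1 := by rw [← hx, pow_orderOf_eq_one]
  refine hψp r hr hr2 (x : F) ?_ ?_ ?_ d hd
  · rw [← Units.val_pow_eq_pow_val, hxr, Units.val_one]
  · intro h7
    have h8 : x = 1 := Units.ext h7
    rw [h8, orderOf_one] at hx
    exact hr.one_lt.ne hx
  · change (x : F) ^ q = x
    obtain ⟨s, hs⟩ := hrq
    have h7 : x ^ q = x := by
      have h8 : q = r * s + 1 := by omega
      rw [h8, pow_succ, pow_mul, hxr, one_pow, one_mul]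
    rw [← Units.val_pow_eq_pow_val, h7]

end Cfsg.Agent.H113.Two.PsuChars
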