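import Cfsg.Agent.H113.Two.SplitForm

/-!
# The Hermitian forms: complements, hyperbolic pairs; linear characters of `F_{q²}ˣ` (helper113)
-/

set_option autoImplicit false
set_option linter.unusedSectionVars false
set_option linter.style.haveILetI false

open scoped ComplexConjugate
open Cfsg

namespace Cfsg.Agent.H113.Two.HermData

open Cfsg.Agent.OddOrderCharacters.Clifford Cfsg.Agent.Characters MulAction Module Cfsg.Agent.H53.HC
open Cfsg.Agent.H477.HC Cfsg.Agent.H477.HC.CForm Cfsg.Agent.H749.Two Cfsg.Agent.H113.Two.HcOne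
open Cfsg.Agent.H113.Two.SplitForm

universe u

variable (K : Type u) [Field K] [Finite K] {q : ℕ} (hq : Nat.card K = q ^ 2)

theorem herm_frame (k n : ℕ) : ∃ e f : Fin k → (Fin (k + (k + n)) → K),
    (∀ i l, (hermF K hq (k + (k + n))).B (e i) (e l) = 0) ∧ (∀ i l, (hermF K hq (k + (k + n))).B (f i) (f l) = 0) ∧
    (∀ i l, (hermF K hq (k + (k + n))).B (e i) (f l) = if i = l then 1 else 0) ∧
    (∀ x i, (hermF K hq (k + (k + n))).B (jherm K k n x) (e i) = 0) ∧
    (∀ x i, (hermF K hq (k + (k + n))).B (jherm K k n x) (f i) = 0) := by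
  classical
  have hq0 : q ≠ 0 := by have := two_le_of_card hq; omega
  obtain ⟨x, y, hx, hy, hxy⟩ := exists_norm_neg_one hq
  let b : K := powHom hq (1 + x * y ^ q)⁻¹
  have hb : b ^ q = (1 + x * y ^ q)⁻¹ := by
    rw [← powHom_apply hq, powHom_powHom]
  refine ⟨hv K k n 1 x, hv K k n b (b * y), fun i l => ?_, fun i l => ?_, fun i l => ?_, fun x i => ?_, fun x i => ?_⟩
  · rw [hermF_B, herm_hv hq0]
    split_ifs
    · rw [one_pow, one_mul, ← pow_succ', hx]
    · rfl
  · rw [hermF_B, herm_hv hq0]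
    split_ifs
    · have : b * b ^ q + b * y * (b * y) ^ q = b * b ^ q * (1 + y ^ (q + 1)) := by ring
      rw [this, hy, mul_zero]
    · rfl
  · rw [hermF_B, herm_hv hq0]
    split_ifs
    · have : 1 * b ^ q + x * (b * y) ^ q = b ^ q * (1 + x * y ^ q) := by ring
      rw [this, hb, inv_mul_cancel₀ hxy]
    · rfl
  · simp [hermForm, Fin.sum_univ_add, hv, hq0]
  · simp [hermForm, Fin.sum_univ_add, hv, hq0]

theorem jherm_B (k n : ℕ) (x y : Fin n → K) :
    (hermF K hq (k + (k + n))).B (jherm K k n x) (jherm K k n y) = (hermF K hq n).B x y := by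
  simp [hermForm, Fin.sum_univ_add]

theorem hermF_cmp (k n : ℕ) : ∃ W₀, W₀ ∈ (hermF K hq (k + (k + n))).Om k ∧
    Cmp (hermF K hq (k + (k + n))) (hermF K hq n) (jherm K k n) W₀ := by
  obtain ⟨e, f, h1, h2, h3, h4, h5⟩ := herm_frame K hq k n
  exact ⟨_, cmp_of_frame (F := hermF K hq (k + (k + n))) (F' := hermF K hq n) (j := jherm K k n) rfl h1 h2 h3
    (fun i => h1 i i) (jherm_B K hq k n) (fun x => jherm_B K hq k n x x) h4 h5 (by simp; ring)⟩

theorem hermF_hyp (n : ℕ) : ∃ e f f' : Fin (1 + (1 + n)) → K,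
    Hyp (hermF K hq (1 + (1 + n))) (hermF K hq n) e f (jherm K 1 n) ∧ (hermF K hq (1 + (1 + n))).Sing f' ∧
      (hermF K hq (1 + (1 + n))).B e f' = 1 ∧ f' ≠ f := by
  obtain ⟨e, f, h1, h2, h3, h4, h5⟩ := herm_frame K hq 1 n
  have h : Hyp (hermF K hq (1 + (1 + n))) (hermF K hq n) (e 0) (f 0) (jherm K 1 n) :=
    { he := ⟨h1 0 0, h1 0 0⟩
      hf := ⟨h2 0 0, h2 0 0⟩
      hef := by rw [h3, if_pos rfl]
      hjB := jherm_B K hq 1 n
      hjQ := fun x => jherm_B K hq 1 n x x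
      hje := fun x => h4 x 0
      hjf := fun x => h5 x 0
      dec := fun v hv hv' => (hermF K hq (1 + (1 + n))).frame_decomp (hermF K hq n) (jherm K 1 n) h1 h2 h3
        (jherm_B K hq 1 n) h4 h5 (by simp; ring) v (fun i => by rw [Subsingleton.elim i 0]; exact hv)
        (fun i => by rw [Subsingleton.elim i 0]; exact hv') }
  -- an element of trace zero
  obtain ⟨s, hs⟩ : ∃ s : K, s ^ q ≠ s := by
    classical
    by_contra hcon
    push Not at hcon
    have h2 := two_le_of_card hq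
    let _ := Fintype.ofFinite K
    have h3 : Fintype.card K ≤ (Polynomial.X ^ q - Polynomial.X : Polynomial K).natDegree := by
      have hne := FiniteField.X_pow_card_sub_X_ne_zero K (p := q) (by omega)
      have h4 : (Finset.univ : Finset K) ⊆ (Polynomial.X ^ q - Polynomial.X : Polynomial K).roots.toFinset := by
        intro t _
        rw [Multiset.mem_toFinset, Polynomial.mem_roots hne, Polynomial.IsRoot.def]
        simp only [Polynomial.eval_sub, Polynomial.eval_pow, Polynomial.eval_X]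
        rw [hcon t, sub_self]
      have h5 := Finset.card_le_card h4
      rw [Finset.card_univ] at h5
      exact h5.trans ((Multiset.toFinset_card_le _).trans (Polynomial.card_roots' _))
    rw [FiniteField.X_pow_card_sub_X_natDegree_eq K (by omega), ← Nat.card_eq_fintype_card, hq] at h3
    nlinarith
  have ht : (s - s ^ q) ^ q = -(s - s ^ q) := by
    have e1 : powHom hq (s ^ q) = s := by rw [← powHom_apply hq s, powHom_powHom]
    rw [← powHom_apply hq, map_sub, powHom_apply, e1]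
    ring
  have ht0 : s - s ^ q ≠ 0 := sub_ne_zero.2 (Ne.symm hs)
  refine ⟨e 0, f 0, f 0 + (s - s ^ q) • e 0, h, ?_, ?_, ?_⟩
  · have h6 : (hermF K hq (1 + (1 + n))).B (f 0 + (s - s ^ q) • e 0) (f 0 + (s - s ^ q) • e 0) = 0 := by
      rw [B_add_left, B_add_right, B_add_right, B_smul_left, B_smul_left, B_smul_right, B_smul_right, h1, h2, h3,
        if_pos rfl, h.hfe]
      change 0 + (s - s ^ q) ^ q * 1 + ((s - s ^ q) * 1 + (s - s ^ q) * ((s - s ^ q) ^ q * 0)) = 0
      rw [ht]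
      ring
    exact ⟨h6, h6⟩
  · rw [B_add_right, B_smul_right, h1, h3, if_pos rfl, mul_zero, add_zero]
  · intro h6
    have h7 : (s - s ^ q) • e 0 = 0 := by simpa using h6
    rcases smul_eq_zero.1 h7 with h8 | h8
    · exact ht0 h8
    · exact h.e0 h8

theorem hani {n : ℕ} (hn : n ≤ 1) (x : Fin n → K) (hx : (hermF K hq n).Sing x) : x = 0 := by
  rcases (show n = 0 ∨ n = 1 by omega) with rfl | rfl
  · exact Subsingleton.elim _ _
  · have h1 : x 0 * x 0 ^ q = 0 := by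
      have := hx.2
      simpa [hermForm] using this
    have h2 : x 0 = 0 := by
      rw [← pow_succ'] at h1
      exact pow_eq_zero_iff (by omega) |>.1 h1
    ext i
    rw [Subsingleton.elim i 0, h2]
    rfl

theorem hcomm {n : ℕ} (hn : n ≤ 1) (a b : (hermF K hq n).iso) : a * b = b * a := by
  apply Subtype.ext
  ext1 x
  change (a : (Fin n → K) ≃ₗ[K] (Fin n → K)) ((b : (Fin n → K) ≃ₗ[K] (Fin n → K)) x) =
    (b : (Fin n → K) ≃ₗ[K] (Fin n → K)) ((a : (Fin n → K) ≃ₗ[K] (Fin n → K)) x)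
  rcases (show n = 0 ∨ n = 1 by omega) with rfl | rfl
  · exact Subsingleton.elim _ _
  · have key : ∀ g : (Fin 1 → K) ≃ₗ[K] (Fin 1 → K), ∃ c : K, ∀ x, g x = c • x := by
      intro g
      refine ⟨g 1 0, fun x => ?_⟩
      have h1 : x = x 0 • (1 : Fin 1 → K) := by
        ext i
        rw [Subsingleton.elim i 0]
        simp
      ext i
      rw [Subsingleton.elim i 0]
      conv_lhs => rw [h1, map_smul]
      simp [mul_comm]
    obtain ⟨c, hc⟩ := key a
    obtain ⟨d, hd⟩ := key b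
    rw [hc, hd, hd, hc, smul_smul, smul_smul, mul_comm]

/-- `μ_{q+1}` -/
def mu (q : ℕ) : Subgroup Kˣ := (powMonoidHom (q + 1) : Kˣ →* Kˣ).ker

variable {K}

theorem mem_mu {a : Kˣ} : a ∈ mu K q ↔ a ^ (q + 1) = 1 := Iff.rfl

theorem exists_zeta (h4 : 4 ≤ q) (w : ℂˣ) : ∃ ζ : ℂˣ, ζ ^ (q - 1) = w ∧ ζ ^ (q + 1) ≠ 1 := by
  obtain ⟨z, hz⟩ := IsAlgClosed.exists_pow_nat_eq (w : ℂ) (n := q - 1) (by omega)
  have hz0 : z ≠ 0 := by
    rintro rfl
    rw [zero_pow (by omega)] at hz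
    exact w.ne_zero hz.symm
  have hz' : (Units.mk0 z hz0) ^ (q - 1) = w := Units.ext hz
  by_cases h1 : (Units.mk0 z hz0) ^ (q + 1) = 1
  · have hp := Complex.isPrimitiveRoot_exp (q - 1) (by omega)
    obtain ⟨l, hl⟩ := hp.isUnit (by omega)
    have hl1 : l ^ (q - 1) = 1 := Units.ext (by rw [Units.val_pow_eq_pow_val, hl]; exact hp.pow_eq_one)
    refine ⟨Units.mk0 z hz0 * l, by rw [mul_pow, hz', hl1, mul_one], ?_⟩
    rw [mul_pow, h1, one_mul]
    intro h2
    have h3 : l ^ 2 = 1 := by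
      have e1 : q + 1 = (q - 1) + 2 := by omega
      rw [e1, pow_add, hl1, one_mul] at h2
      exact h2
    have h5 : Complex.exp (2 * Real.pi * Complex.I / ((q - 1 : ℕ) : ℂ)) ^ 2 = 1 := by
      rw [← hl]
      have := congrArg Units.val h3
      simpa using this
    have h6 := (hp.pow_eq_one_iff_dvd 2).1 h5
    have := Nat.le_of_dvd (by norm_num) h6
    omega
  · exact ⟨_, hz', h1⟩

theorem exists_theta (h4 : 4 ≤ q) (ω : mu K q →* ℂˣ) : ∃ θ : Kˣ →* ℂˣ,
    (∀ a (ha : a ∈ mu K q), θ a * ω ⟨a, ha⟩ = 1) ∧ ∃ z : Kˣ, θ (z * Units.map (powHom hq : K →* K) z) ≠ 1 := by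
  classical
  obtain ⟨g, hg⟩ := IsCyclic.exists_generator (α := Kˣ)
  have hcard : orderOf g = q ^ 2 - 1 := by
    rw [orderOf_eq_card_of_forall_mem_zpowers hg, Nat.card_units, hq]
  have hq2 : q ^ 2 - 1 = (q - 1) * (q + 1) := by
    obtain ⟨t, rfl⟩ : ∃ t, q = t + 1 := ⟨q - 1, by omega⟩
    have : (t + 1) ^ 2 = t * (t + 2) + 1 := by ring
    rw [this]
    simp
  have hgm : g ^ (q - 1) ∈ mu K q := by
    rw [mem_mu, ← pow_mul, ← hq2, ← hcard, pow_orderOf_eq_one]
  obtain ⟨ζ, hζ1, hζ2⟩ := exists_zeta h4 (ω ⟨_, hgm⟩)⁻¹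
  have hζ : orderOf ζ ∣ orderOf g := by
    rw [hcard, hq2]
    apply orderOf_dvd_of_pow_eq_one
    rw [pow_mul, hζ1, inv_pow, ← map_pow]
    have : (⟨g ^ (q - 1), hgm⟩ : mu K q) ^ (q + 1) = 1 := Subtype.ext hgm
    rw [this, map_one, inv_one]
  let θ := monoidHomOfForallMemZpowers hg hζ
  have hθ : θ g = ζ := monoidHomOfForallMemZpowers_apply_gen hg hζ
  refine ⟨θ, fun a ha => ?_, g, ?_⟩
  · obtain ⟨m, hm⟩ := Subgroup.mem_zpowers_iff.1 (hg a)
    have h1 : (q - 1 : ℕ) ∣ m.natAbs := by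
      have h2 : g ^ (m * ((q + 1 : ℕ) : ℤ)) = 1 := by
        rw [zpow_mul, hm, zpow_natCast]
        exact ha
      have h3 := orderOf_dvd_iff_zpow_eq_one.2 h2
      rw [hcard, hq2] at h3
      push_cast at h3
      have h4 : ((q - 1 : ℕ) : ℤ) ∣ m := Int.dvd_of_mul_dvd_mul_right (by omega) h3
      exact Int.natCast_dvd.1 h4
    obtain ⟨k, hk⟩ := Int.natCast_dvd.2 h1
    have h2 : (⟨a, ha⟩ : mu K q) = (⟨g ^ (q - 1), hgm⟩ : mu K q) ^ k := by
      apply Subtype.ext
      change a = (g ^ (q - 1)) ^ k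
      rw [← hm, hk, zpow_mul, zpow_natCast]
    rw [h2, map_zpow, ← hm, map_zpow, hθ, hk, zpow_mul, zpow_natCast, hζ1, inv_zpow, inv_mul_cancel]
  · have h1 : g * Units.map (powHom hq : K →* K) g = g ^ (q + 1) := by
      apply Units.ext
      rw [Units.val_mul, Units.val_pow_eq_pow_val, pow_succ']
      rfl
    rw [h1, map_pow, hθ]
    exact hζ2

theorem exists_theta3 (h3 : 3 ≤ q) : ∃ θ : Kˣ →* ℂˣ, ∃ z : Kˣ, θ (z * Units.map (powHom hq : K →* K) z) ≠ 1 := by
  classical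
  obtain ⟨g, hg⟩ := IsCyclic.exists_generator (α := Kˣ)
  have hcard : orderOf g = q ^ 2 - 1 := by
    rw [orderOf_eq_card_of_forall_mem_zpowers hg, Nat.card_units, hq]
  have hq2 : q ^ 2 - 1 = (q - 1) * (q + 1) := by
    obtain ⟨t, rfl⟩ : ∃ t, q = t + 1 := ⟨q - 1, by omega⟩
    have : (t + 1) ^ 2 = t * (t + 2) + 1 := by ring
    rw [this]
    simp
  have h9 : 3 * 3 ≤ q * q := Nat.mul_le_mul h3 h3
  have hp := Complex.isPrimitiveRoot_exp (q ^ 2 - 1) (by rw [sq]; omega)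
  obtain ⟨l, hl⟩ := hp.isUnit (by rw [sq]; omega)
  have hl1 : orderOf l ∣ orderOf g := by
    rw [hcard]
    apply orderOf_dvd_of_pow_eq_one
    exact Units.ext (by rw [Units.val_pow_eq_pow_val, hl]; exact hp.pow_eq_one)
  let θ := monoidHomOfForallMemZpowers hg hl1
  have hθ : θ g = l := monoidHomOfForallMemZpowers_apply_gen hg hl1
  refine ⟨θ, g, ?_⟩
  have h1 : g * Units.map (powHom hq : K →* K) g = g ^ (q + 1) := by
    apply Units.ext
    rw [Units.val_mul, Units.val_pow_eq_pow_val, pow_succ']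
    rfl
  rw [h1, map_pow, hθ]
  intro h2
  have h5 : Complex.exp (2 * Real.pi * Complex.I / ((q ^ 2 - 1 : ℕ) : ℂ)) ^ (q + 1) = 1 := by
    rw [← hl]
    have := congrArg Units.val h2
    simpa using this
  have h6 := (hp.pow_eq_one_iff_dvd _).1 h5
  have h7 := Nat.le_of_dvd (by omega) h6
  rw [hq2] at h7
  have h8 : 2 * (q + 1) ≤ (q - 1) * (q + 1) := Nat.mul_le_mul_right _ (by omega)
  omega

end Cfsg.Agent.H113.Two.HermData
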