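import Cfsg.Agent.H113.OB.Seven
import Cfsg.Agent.H596.OneFacts

/-!
# Degrees divisible by `p` from the principal `p`-block, `|P| = p`, `P` self-centralizing (helper113)
-/

set_option autoImplicit false

open Cfsg

namespace Cfsg.Agent.H113.Two.Block

open Cfsg.Agent Cfsg.Agent.Characters.Core Cfsg.Agent.H596.OneFacts
open Cfsg.Agent.SmallSimple.LocalData Cfsg.Agent.SmallSimple.DegreeData Cfsg.Agent.H424.BlockTools
  Cfsg.Agent.H424.BlockTools2 Subgroup

universe u

variable {G : Type u} [Group G] [Finite G]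

/-- the sum of the squares of the degrees of the characters outside of the principal block -/
theorem exists_other {p e t : ℕ} [Fact p.Prime] {M : Ideal AlgInt} (hM : IsPModular p M) {P : Sylow p G}
    (D : BlockData p M P e t) (hP : Nat.card P = p) (hC : Nat.card (centralizer (P : Set G)) = p) {d : ℕ}
    (hd : ¬ ((d : ℤ) ^ 2 ∣ (Nat.card G : ℤ) - (1 + (D.degs.map (· ^ 2)).sum + t * (D.f : ℤ) ^ 2))) :
    ∃ ψ : IrrCharacter G, p ∣ charDegree (ψ : G → ℂ) ∧ charDegree (ψ : G → ℂ) ≠ d := by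
  have := finite_irr (G := G)
  have := Fintype.ofFinite (IrrCharacter G)
  by_contra hcon
  push Not at hcon
  apply hd
  have h1 := D.sum_sq
  have h2 : (Nat.card G : ℤ) - (1 + (D.degs.map (· ^ 2)).sum + t * (D.f : ℤ) ^ 2) =
      ∑ χ ∈ D.others, (charDegree (χ : G → ℂ) : ℤ) ^ 2 := by linarith
  rw [h2]
  refine Finset.dvd_sum fun χ hχ => ?_
  have h3 : χ ∉ principalBlock M G := D.mem_others.1 hχ
  have h4 : p ∣ charDegree (χ : G → ℂ) := by
    by_contra h5
    exact h3 (mem_principalBlock hM D hP hC h5)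
  rw [hcon χ h4]

/-- **two degrees** -/
theorem two_of_sum {p e t : ℕ} [Fact p.Prime] {M : Ideal AlgInt} (hM : IsPModular p M) {P : Sylow p G}
    (D : BlockData p M P e t) (hP : Nat.card P = p) (hC : Nat.card (centralizer (P : Set G)) = p)
    (φ : IrrCharacter G) (hφ : p ∣ charDegree (φ : G → ℂ))
    (hd : ¬ ((charDegree (φ : G → ℂ) : ℤ) ^ 2 ∣
      (Nat.card G : ℤ) - (1 + (D.degs.map (· ^ 2)).sum + t * (D.f : ℤ) ^ 2))) : Two p G := by
  obtain ⟨ψ, h1, h2⟩ := exists_other hM D hP hC hd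
  exact two_of_degree_ne φ ψ hφ h1 h2.symm

end Cfsg.Agent.H113.Two.Block
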