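import Cfsg.Agent.H113.Two.PslGen
import Cfsg.Agent.H113.Two.Block
import Cfsg.Agent.H809.SelfCentLin
import Cfsg.Agent.H809.SelfCentUni
import Cfsg.Agent.S0249
import Cfsg.Agent.S0243

/-!
# Two irreducible characters of `PSL_n(q)`, `n ≥ 3`, of different degrees divisible by `p ∤ q` (helper113)

`two_psl` : the row of `FactTwo` for `PSL_n(q)`, `n ≥ 3`, `p` not the characteristic.
-/

set_option autoImplicit false

open Cfsg Matrix

namespace Cfsg.Agent.H113.Two.Psl

open Cfsg.Agent Cfsg.Agent.Characters.Core Cfsg.Agent.H596.OneFacts Cfsg.Agent.H809.SelfCent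
open Cfsg.Agent.SmallSimple.LocalData Cfsg.Agent.SmallSimple.DegreeData Cfsg.Agent.H424.BlockTools
  Cfsg.Agent.H424.BlockTools2 Subgroup Cfsg.Agent.LieExceptional.IrredMatrix
open Cfsg.Agent.H113.PSL Facts Main

universe u v

section Cent

variable {F : Type u} [Field F] [Fintype F]

open Polynomial in
/-- the determinant on the centraliser of an element acting irreducibly -/
theorem exists_cent_det {n r q : ℕ} (hF : Fintype.card F = q) (hn : n.Prime) (hr : r.Prime) (h1 : r ∣ q ^ n - 1)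
    (h2 : ¬ r ∣ q - 1) (h3 : ¬ r ∣ q) (x : GL (Fin n) F) (hx : orderOf x = r) (c : Fˣ) :
    ∃ y ∈ centralizer ({x} : Set (GL (Fin n) F)), GeneralLinearGroup.det y = c := by
  obtain ⟨h4, h5⟩ := irr hF hn hr h1 h2 h3 x hx
  obtain ⟨f, hf⟩ := exists_det_eq hn.pos h4 h5.ge (c : F)
  have hu : IsUnit (aeval (x : Matrix (Fin n) (Fin n) F) f).det := by
    rw [hf]; exact c.isUnit
  let y : GL (Fin n) F := GeneralLinearGroup.mk'' (aeval (x : Matrix (Fin n) (Fin n) F) f) hu
  have hy : (y : Matrix (Fin n) (Fin n) F) = aeval (x : Matrix (Fin n) (Fin n) F) f := rfl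
  refine ⟨y, ?_, ?_⟩
  · rw [mem_centralizer_singleton_iff]
    apply Units.ext
    rw [Units.val_mul, Units.val_mul, hy]
    have := Commute.all (X : F[X]) f
    have h6 : Commute (aeval (x : Matrix (Fin n) (Fin n) F) (X : F[X])) (aeval (x : Matrix (Fin n) (Fin n) F) f) :=
      this.map (aeval (x : Matrix (Fin n) (Fin n) F))
    rw [aeval_X] at h6
    exact h6.eq.symm
  · apply Units.ext
    rw [GeneralLinearGroup.val_det_apply, hy, hf]

theorem card_cent_SL' {n r q : ℕ} (hF : Fintype.card F = q) (hn : n.Prime) (hr : r.Prime) (h1 : r ∣ q ^ n - 1)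
    (h2 : ¬ r ∣ q - 1) (h3 : ¬ r ∣ q) (x : Matrix.SpecialLinearGroup (Fin n) F) (hx : orderOf x = r) :
    Nat.card (centralizer ({x} : Set (Matrix.SpecialLinearGroup (Fin n) F))) * (q - 1) ≤ q ^ n - 1 := by
  classical
  have hinj : Function.Injective (Matrix.SpecialLinearGroup.toGL : Matrix.SpecialLinearGroup (Fin n) F →* _) := by
    intro a b h
    apply Subtype.ext
    exact congrArg (Units.val) h
  have hx' : orderOf (Matrix.SpecialLinearGroup.toGL x : GL (Fin n) F) = r := by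
    rw [orderOf_injective _ hinj, hx]
  have hcard := card_cent_GL hF hn hr h1 h2 h3 (Matrix.SpecialLinearGroup.toGL x) hx'
  rw [← hcard]
  have hU : Nat.card Fˣ = q - 1 := by
    rw [Nat.card_eq_fintype_card, Fintype.card_units, hF]
  let C := centralizer ({(Matrix.SpecialLinearGroup.toGL x : GL (Fin n) F)} : Set (GL (Fin n) F))
  let δ : C →* Fˣ := GeneralLinearGroup.det.comp C.subtype
  have hδ : Function.Surjective δ := by
    intro c
    obtain ⟨y, hy, hy'⟩ := exists_cent_det hF hn hr h1 h2 h3 (Matrix.SpecialLinearGroup.toGL x) hx' c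
    exact ⟨⟨y, hy⟩, hy'⟩
  have h4 : Nat.card C = Nat.card Fˣ * Nat.card δ.ker := by
    rw [Subgroup.card_eq_card_quotient_mul_card_subgroup δ.ker,
      Nat.card_congr (QuotientGroup.quotientKerEquivOfSurjective δ hδ).toEquiv]
  change _ ≤ Nat.card C
  rw [h4, hU, mul_comm]
  apply Nat.mul_le_mul_left
  let f : centralizer ({x} : Set (Matrix.SpecialLinearGroup (Fin n) F)) → δ.ker := fun a =>
    ⟨⟨Matrix.SpecialLinearGroup.toGL a.1, by
      rw [mem_centralizer_singleton_iff]
      have h5 := (mem_centralizer_singleton_iff.1 a.2)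
      rw [← map_mul, ← map_mul, h5]⟩, by
      rw [MonoidHom.mem_ker]
      apply Units.ext
      change (GeneralLinearGroup.det (Matrix.SpecialLinearGroup.toGL a.1) : F) = 1
      rw [GeneralLinearGroup.val_det_apply]
      exact a.1.2⟩
  apply Nat.card_le_card_of_injective f
  intro a b hab
  have h5 : (Matrix.SpecialLinearGroup.toGL a.1 : GL (Fin n) F) = Matrix.SpecialLinearGroup.toGL b.1 :=
    congrArg (fun z : δ.ker => (z.1.1 : GL (Fin n) F)) hab
  exact Subtype.ext (hinj h5)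

/-- `PSL_3(4)` has a self-centralizing subgroup of order `7` -/
theorem selfcent_l34 (hF : Fintype.card F = 4) :
    ∃ R : Subgroup (Matrix.ProjectiveSpecialLinearGroup (Fin 3) F), Nat.card R = 7 ∧
      centralizer (R : Set (Matrix.ProjectiveSpecialLinearGroup (Fin 3) F)) = R := by
  have hr : Nat.Prime 7 := by norm_num
  have hrp : Fact (Nat.Prime 7) := ⟨hr⟩
  have h1 : 7 ∣ 4 ^ 3 - 1 := by norm_num
  have h2 : ¬ 7 ∣ 4 - 1 := by norm_num
  have h3 : ¬ 7 ∣ 4 := by norm_num
  obtain ⟨x, hx⟩ := exists_prime_orderOf_dvd_card' 7 (dvd_card_SL hF (n := 3) (by norm_num) hr h1 h2)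
  have hZ : Nat.card (center (Matrix.SpecialLinearGroup (Fin 3) F)) = 3 := by
    rw [card_center_SL 3 (by norm_num), hF]
    decide
  refine quot_cent hr (by rw [hZ]; norm_num) x hx ?_
  rw [hZ]
  have := card_cent_SL' hF Nat.prime_three hr h1 h2 h3 x hx
  norm_num at this ⊢
  omega

end Cent

/-- **`PSL_3(4)`, `p = 7`** -/
theorem two_l34 {F : Type} [Field F] [Fintype F] (hF : Fintype.card F = 4) :
    Two 7 (ProjectiveSpecialLinearGroup (Fin 3) F) := by
  have : Fact (Nat.Prime 7) := ⟨by norm_num⟩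
  have hs : IsSimpleGroup (ProjectiveSpecialLinearGroup (Fin 3) F) := S0249.result 3 le_rfl
  have hcard : Nat.card (ProjectiveSpecialLinearGroup (Fin 3) F) = 20160 := by
    have h := S0243.result (F := F) (q := 4) hF 3 (by norm_num)
    have e1 : ∏ i : Fin 3, (4 ^ 3 - 4 ^ (i : ℕ)) = 181440 := by decide
    have e2 : Nat.gcd 3 (4 - 1) = 3 := by norm_num
    rw [e1, e2] at h
    omega
  have hG := SmallSimple.OrdersA.not_comm hcard (by norm_num)
  obtain ⟨R, hR, hC⟩ := selfcent_l34 (F := F) hF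
  have h := OB.data_seven hG hcard (by norm_num) (by norm_num) (by norm_num) R hR hC
  obtain ⟨M, hM, ⟨D⟩⟩ := exists_block h (by norm_num) default (t := 2) (by norm_num)
  -- degree 20
  have h20 : 20 ∈ charDegrees (ProjectiveSpecialLinearGroup (Fin 3) F) := by
    obtain ⟨φ, hφ⟩ := t3 (F := F) (n := 3) (by norm_num)
    refine ⟨φ, ?_⟩
    rw [hφ, hF]
    decide
  -- degree 64
  have hchar : CharP F 2 := by
    obtain ⟨p, hp⟩ := CharP.exists F
    have hpr : p.Prime := (CharP.char_is_prime_or_zero F p).resolve_right (CharP.char_ne_zero_of_finite F p)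
    have : Fact p.Prime := ⟨hpr⟩
    obtain ⟨s, hs0, hs⟩ := FiniteField.card F p
    rw [hF] at hs
    have h1 : p ∣ 2 ^ 2 := by
      rw [show 2 ^ 2 = 4 by norm_num, hs]
      exact dvd_pow_self _ s.ne_zero
    have h2 : p = 2 := (Nat.prime_dvd_prime_iff_eq hpr Nat.prime_two).1 (hpr.dvd_of_dvd_pow h1)
    subst h2
    exact hp
  have hlie : IsLieTypeChar 2 (ProjectiveSpecialLinearGroup (Fin 3) F) :=
    Or.inl ⟨F, inferInstance, inferInstance, hchar, 3, by norm_num, by norm_num, ⟨MulEquiv.refl _⟩⟩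
  have h64 : 64 ∈ charDegrees (ProjectiveSpecialLinearGroup (Fin 3) F) := by
    obtain ⟨χ, hχ, h1, -⟩ := H167.StChar.hasSt_of_lie Nat.prime_two hlie
    refine ⟨⟨χ, hχ⟩, Blocks.Knorr.charDegree_of_natCast ?_⟩
    change χ 1 = _
    rw [h1, hcard]
    have : (20160 : ℕ).factorization 2 = 6 := by
      rw [Nat.factorization_def _ Nat.prime_two]
      rw [show (20160 : ℕ) = 2 ^ 6 * 315 by norm_num, padicValNat.mul (by norm_num) (by norm_num),
        padicValNat.prime_pow, padicValNat.eq_zero_of_not_dvd (by norm_num)]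
    rw [this]
    norm_num
  have hP := h.card_eq (default : Sylow 7 (ProjectiveSpecialLinearGroup (Fin 3) F))
  have hCP : Nat.card (centralizer ((default : Sylow 7 (ProjectiveSpecialLinearGroup (Fin 3) F)) :
      Set (ProjectiveSpecialLinearGroup (Fin 3) F))) = 7 := by
    rw [h.card_centralizer]
  have c1 := degree_cases hM D hP hCP (by norm_num) h20 (by norm_num)
  have c2 := degree_cases hM D hP hCP (by norm_num) h64 (by norm_num)
  have hlen := D.length_degs
  obtain ⟨a, b, hab⟩ : ∃ a b, D.degs = [a, b] := List.length_eq_two.1 (by omega)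
  have hspec := D.degs_spec hP
  have hexc := D.dexc_modEq hP (by norm_num)
  have hf := D.natAbs_dexc
  rw [← D.dexc_eq (by norm_num)] at hexc hf
  rw [hab] at c1 c2 hspec hexc hf
  simp only [List.mem_cons, List.not_mem_nil, or_false, exists_eq_or_imp, exists_eq_left, List.sum_cons,
    List.sum_nil, add_zero, forall_eq_or_imp, forall_eq] at c1 c2 hspec hexc hf
  obtain ⟨⟨ha, -, -⟩, ⟨hb, -, -⟩⟩ := hspec
  unfold Int.ModEq at ha hb hexc
  push_cast at ha hb hexc
  have hf45 : D.f = 45 := by omega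
  have hab' : (a = -20 ∧ b = 64) ∨ (a = 64 ∧ b = -20) := by omega
  have hsum : (1 + (D.degs.map (· ^ 2)).sum + (2 : ℕ) * (D.f : ℤ) ^ 2) = 8547 := by
    rw [hab, hf45]
    rcases hab' with ⟨rfl, rfl⟩ | ⟨rfl, rfl⟩ <;> norm_num
  obtain ⟨φ, t, ht, hφ, h2⟩ := PslGen.exB' (F := F) (n := 3) le_rfl (hasCusp F 2 (by norm_num))
  rw [hF] at ht hφ
  have e3 : (4 ^ 3 - 1) * ∏ i ∈ Finset.range (3 - 2), (4 ^ (i + 1) - 1) = 189 := by decide
  rw [e3] at hφ
  have ht' : t = 1 ∨ t = 3 := by
    have := (Nat.dvd_prime Nat.prime_three).1 ht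
    exact this
  have hdeg : charDegree (φ : ProjectiveSpecialLinearGroup (Fin 3) F → ℂ) = 63 ∨
      charDegree (φ : ProjectiveSpecialLinearGroup (Fin 3) F → ℂ) = 21 := by
    rcases ht' with rfl | rfl <;> omega
  refine Block.two_of_sum hM D hP hCP φ (by rcases hdeg with h | h <;> rw [h] <;> norm_num) ?_
  rw [hsum, hcard]
  rcases hdeg with h | h <;> rw [h] <;> norm_num

/-- transport -/
theorem two_of_equiv {S : Type u} {T : Type v} [Group S] [Group T] [Finite S] [Finite T] (e : S ≃* T) {p : ℕ}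
    (h : Two p T) : Two p S := by
  obtain ⟨α, β, h1, h2, h3⟩ := h
  have hd : ∀ γ : IrrCharacter T, ∀ h : IsIrrCharacter S ((γ : T → ℂ) ∘ e.toMonoidHom),
      charDegree ((⟨(γ : T → ℂ) ∘ e.toMonoidHom, h⟩ : IrrCharacter S) : S → ℂ) = charDegree (γ : T → ℂ) := by
    intro γ h
    simp [charDegree]
  refine ⟨⟨(α : T → ℂ) ∘ e.toMonoidHom, isIrr_comp e.toMonoidHom e.surjective α.2⟩,
    ⟨(β : T → ℂ) ∘ e.toMonoidHom, isIrr_comp e.toMonoidHom e.surjective β.2⟩, by rwa [hd], by rwa [hd], fun σ => ?_⟩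
  obtain ⟨t, ht⟩ := h3 ((e.symm.trans σ).trans e)
  refine ⟨e.symm t, ?_⟩
  change (α : T → ℂ) (e (σ (e.symm t))) ≠ (β : T → ℂ) (e (e.symm t))
  rw [MulEquiv.apply_symm_apply]
  exact ht

/-- **`PSL_n(q)`, `n ≥ 3`, `p ∤ q`** -/
theorem two_psl_of_equiv {S : Type u} [Group S] [Finite S] [IsSimpleGroup S] {F : Type} [Field F] [Fintype F]
    {n : ℕ} (hn : 3 ≤ n) (e : S ≃* ProjectiveSpecialLinearGroup (Fin n) F) {p : ℕ} (hp : p.Prime)
    (hd : p ∣ Nat.card S) (hq : ¬ p ∣ Fintype.card F) : TwoOr p S := by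
  have hd' : p ∣ Nat.card (ProjectiveSpecialLinearGroup (Fin n) F) := by rwa [← Nat.card_congr e.toEquiv]
  by_cases hA : IsA F n p
  · exact Or.inl (two_of_equiv e (PslGen.two_A hn hp hA))
  by_cases h3 : n = 3 ∧ (Fintype.card F = 2 ∨ Fintype.card F = 4)
  · obtain ⟨rfl, h24⟩ := h3
    have h1 : p ∣ Fintype.card F ^ 3 - 1 := by
      rcases cover hp hd' with h | h | h
      · exact absurd h hq
      · exact absurd h hA
      · rcases h with h | ⟨i, hi, hin, h⟩
        · exact h
        · exact absurd ⟨i, hi, by omega, h⟩ hA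
    have h2 : ¬ p ∣ Fintype.card F - 1 := fun h => hA ⟨1, le_rfl, by norm_num, by rwa [pow_one]⟩
    have h7 : p = 7 := by
      rcases h24 with h4 | h4 <;> rw [h4] at h1 h2
      · exact (Nat.prime_dvd_prime_iff_eq hp (by norm_num)).1 h1
      · rw [show 4 ^ 3 - 1 = (4 - 1) * ((4 - 1) * 7) by norm_num, hp.dvd_mul, hp.dvd_mul] at h1
        rcases h1 with h | h | h
        · exact absurd h h2
        · exact absurd h h2
        · exact (Nat.prime_dvd_prime_iff_eq hp (by norm_num)).1 h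
    subst h7
    rcases h24 with h4 | h4
    · refine Or.inr (Or.inl ?_)
      have hc : Nat.card S = 168 := by
        rw [Nat.card_congr e.toEquiv, Cfsg.Agent.H3.CenT.card_psl_three_two h4]
      have : Fact (Nat.Prime 7) := ⟨by norm_num⟩
      exact ⟨ZMod 7, inferInstance, inferInstance, inferInstance, by rw [ZMod.card]; norm_num,
        Cfsg.Agent.S0495.result hc (ZMod.card 7)⟩
    · exact Or.inl (two_of_equiv e (two_l34 h4))
  · refine Or.inl (two_of_equiv e (PslGen.two_psl_gen hn hp hd' hq fun _ h => ?_))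
    constructor <;> intro h4 <;> exact h3 ⟨h, by tauto⟩

/-- **The row `PSL_n(q)`, `n ≥ 3`, `p` not the characteristic.** -/
theorem two_psl (S : Type u) [Group S] [Finite S] (hs : IsSimpleGroup S) {F : Type} [Field F] [Fintype F]
    {n : ℕ} (hn : 3 ≤ n) (e : S ≃* ProjectiveSpecialLinearGroup (Fin n) F) {p : ℕ} (hp : p.Prime)
    (hd : p ∣ Nat.card S) (hc : ¬ CharP F p) : TwoOr p S := by
  refine two_psl_of_equiv hn e hp hd fun h => hc ?_
  obtain ⟨r, hr⟩ := CharP.exists F
  have hpr : r.Prime := (CharP.char_is_prime_or_zero F r).resolve_right (CharP.char_ne_zero_of_finite F r)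
  have : Fact r.Prime := ⟨hpr⟩
  obtain ⟨s, hs0, hs⟩ := FiniteField.card F r
  rw [hs] at h
  rw [(Nat.prime_dvd_prime_iff_eq hp hpr).1 (hp.dvd_of_dvd_pow h)]
  exact hr

end Cfsg.Agent.H113.Two.Psl
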