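import Cfsg.Agent.H113.PSL.Main
import Cfsg.Agent.H596.OneFacts

/-!
# Two irreducible characters of `PSL_n(q)`, `n ≥ 3`, of different degrees divisible by `p` (helper113)

`p` is a prime divisor of the group order which does not divide `q`; here everything except `PSL_3(2)` and `PSL_3(4)`
for `p = 7`.
-/

set_option autoImplicit false
set_option linter.unusedSectionVars false
set_option linter.style.haveILetI false

open scoped ComplexConjugate LinearAlgebra.Projectivization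
open Cfsg Matrix

namespace Cfsg.Agent.H113.Two.PslGen

open Cfsg.Agent.H53.HC Cfsg.Agent.Characters MulAction Module
open Cfsg.Agent.H113.PSL Para Pass Hyper Degrees Three Facts Main
open Cfsg.Agent.H596.OneFacts

universe u v w

variable {F : Type u} [Field F] [Fintype F]

local notation "𝔮" => Fintype.card F

/-- the cuspidal character of degree `∏_{0<i<n} (q^i - 1) / t` -/
theorem exA' {n : ℕ} (hn : 3 ≤ n) (h : HasCusp F n) :
    ∃ (φ : IrrCharacter (ProjectiveSpecialLinearGroup (Fin n) F)) (t : ℕ), t ∣ 𝔮 - 1 ∧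
      charDegree (φ : ProjectiveSpecialLinearGroup (Fin n) F → ℂ) * t =
        ∏ i ∈ Finset.range (n - 1), (𝔮 ^ (i + 1) - 1) ∧
      ∀ r : ℕ, IsA F n r → r ∣ charDegree (φ : ProjectiveSpecialLinearGroup (Fin n) F → ℂ) := by
  obtain ⟨φ, t, ht, hφ⟩ := exists_cusp (by omega) h
  have hq := one_lt_q (F := F)
  have htq := ht.trans (Nat.gcd_dvd_right _ _)
  have hdvd : (∏ i ∈ Finset.range (n - 2), (𝔮 ^ (i + 2) - 1)) ∣
        charDegree (φ : ProjectiveSpecialLinearGroup (Fin n) F → ℂ) := by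
    refine dvd_of_mul_eq (c := 𝔮 - 1) (by omega) htq ?_
    rw [hφ]
    obtain ⟨k, rfl⟩ : ∃ k, n = k + 2 := ⟨n - 2, by omega⟩
    change ∏ i ∈ Finset.range (k + 1), _ = _
    rw [Finset.prod_range_succ', mul_comm]
    simp
  refine ⟨φ, t, htq, hφ, ?_⟩
  rintro r ⟨i, hi, hin, hr⟩
  refine dvd_trans ?_ hdvd
  by_cases h1 : i = 1
  · subst h1
    refine (hr.trans ?_).trans (Finset.dvd_prod_of_mem (fun j => 𝔮 ^ (j + 2) - 1)
      (Finset.mem_range.2 (show 0 < n - 2 by omega)))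
    rw [pow_one]
    exact sub_one_dvd _
  · refine hr.trans ?_
    have h2 := Finset.dvd_prod_of_mem (fun j => 𝔮 ^ (j + 2) - 1)
      (Finset.mem_range.2 (show i - 2 < n - 2 by omega))
    have h3 : i - 2 + 2 = i := by omega
    simp only [h3] at h2
    exact h2

/-- the character of degree `(q^n - 1)/(q - 1) ∏_{0<i<n-1} (q^i - 1) / t` -/
theorem exB' {n : ℕ} (hn : 3 ≤ n) (h : HasCusp F (n - 1)) :
    ∃ (φ : IrrCharacter (ProjectiveSpecialLinearGroup (Fin n) F)) (t : ℕ), t ∣ 𝔮 - 1 ∧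
      charDegree (φ : ProjectiveSpecialLinearGroup (Fin n) F → ℂ) * t * (𝔮 - 1) =
        (𝔮 ^ n - 1) * ∏ i ∈ Finset.range (n - 2), (𝔮 ^ (i + 1) - 1) ∧
      ∀ r : ℕ, r.Prime → Facts.IsB F n r → r ∣ charDegree (φ : ProjectiveSpecialLinearGroup (Fin n) F → ℂ) := by
  obtain ⟨m, rfl⟩ : ∃ m, n = m + 1 := ⟨n - 1, by omega⟩
  rw [Nat.add_sub_cancel] at h
  have hm0 : 2 ≤ m := by omega
  obtain ⟨φ, t, ht, hφ0⟩ := exists_hyper hm0 h
  have hq := one_lt_q (F := F)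
  have hφ : charDegree (φ : ProjectiveSpecialLinearGroup (Fin (m + 1)) F → ℂ) * t =
        (𝔮 - 1) * ((∑ i ∈ Finset.range (m + 1), 𝔮 ^ i) * ∏ i ∈ Finset.range (m - 2), (𝔮 ^ (i + 2) - 1)) := by
    apply Nat.eq_of_mul_eq_mul_right (show 0 < 𝔮 - 1 by omega)
    rw [hφ0, ← geom]
    obtain ⟨k, rfl⟩ : ∃ k, m = k + 2 := ⟨m - 2, by omega⟩
    change _ * ∏ i ∈ Finset.range (k + 1), _ = _
    rw [Finset.prod_range_succ']
    simp only [Nat.add_sub_cancel, zero_add, pow_one]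
    ring
  have hdvd := dvd_of_mul_eq (c := 𝔮 - 1) (by omega) (ht.trans (Nat.gcd_dvd_right _ _)) hφ
  refine ⟨φ, t, ht.trans (Nat.gcd_dvd_right _ _), hφ0, fun r hr hB => ?_⟩
  -- primes dividing `q - 1`
  have key : r ∣ 𝔮 - 1 → r ∣ charDegree (φ : ProjectiveSpecialLinearGroup (Fin (m + 1)) F → ℂ) := by
    intro h1
    by_cases hm : m = 2
    · subst hm
      by_cases h3 : r = 3
      · subst h3
        refine dvd_trans ?_ hdvd
        apply Dvd.dvd.mul_right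
        simp only [Finset.sum_range_succ, Finset.sum_range_zero, zero_add, pow_zero, pow_one]
        obtain ⟨k, hk⟩ := h1
        have : 𝔮 = 3 * k + 1 := by omega
        rw [this]
        exact ⟨3 * k ^ 2 + 3 * k + 1, by ring⟩
      · have h4 : r.Coprime t := by
          rw [hr.coprime_iff_not_dvd]
          intro h5
          have h6 := (h5.trans ht).trans (Nat.gcd_dvd_left _ _)
          exact h3 ((Nat.prime_dvd_prime_iff_eq hr Nat.prime_three).1 h6)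
        refine h4.dvd_of_dvd_mul_right ?_
        rw [hφ]
        exact h1.mul_right _
    · refine (h1.trans ?_).trans ((Dvd.intro_left _ rfl).trans hdvd)
      refine (sub_one_dvd 2).trans ?_
      exact Finset.dvd_prod_of_mem (fun j => 𝔮 ^ (j + 2) - 1) (Finset.mem_range.2 (show 0 < m - 2 by omega))
  rcases hB with h1 | ⟨i, hi, him, h1⟩
  · rw [← geom, hr.dvd_mul] at h1
    rcases h1 with h1 | h1
    · exact (h1.trans (Dvd.intro _ rfl)).trans hdvd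
    · exact key h1
  · by_cases hi1 : i = 1
    · subst hi1
      rw [pow_one] at h1
      exact key h1
    · refine (h1.trans ?_).trans ((Dvd.intro_left _ rfl).trans hdvd)
      have h2 := Finset.dvd_prod_of_mem (fun j => 𝔮 ^ (j + 2) - 1)
        (Finset.mem_range.2 (show i - 2 < m - 2 by omega))
      have h3 : i - 2 + 2 = i := by omega
      simp only [h3] at h2
      exact h2

/-- the two degrees are different -/
theorem degrees_ne {n d t t' : ℕ} (hn : 3 ≤ n) (ht : t ∣ 𝔮 - 1) (ht' : t' ∣ 𝔮 - 1)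
    (h1 : d * t = ∏ i ∈ Finset.range (n - 1), (𝔮 ^ (i + 1) - 1))
    (h2 : d * t' * (𝔮 - 1) = (𝔮 ^ n - 1) * ∏ i ∈ Finset.range (n - 2), (𝔮 ^ (i + 1) - 1)) : False := by
  have hq := one_lt_q (F := F)
  obtain ⟨m, rfl⟩ : ∃ m, n = m + 2 := ⟨n - 2, by omega⟩
  change d * t = ∏ i ∈ Finset.range (m + 1), _ at h1
  rw [Nat.add_sub_cancel] at h2
  rw [Finset.prod_range_succ] at h1
  set P := ∏ i ∈ Finset.range m, (𝔮 ^ (i + 1) - 1)
  have hP : 0 < P := by
    apply Finset.prod_pos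
    intro i _
    have : 1 < 𝔮 ^ (i + 1) := Nat.one_lt_pow (by omega) hq
    omega
  have hb : 1 < 𝔮 ^ (m + 1) := Nat.one_lt_pow (by omega) hq
  have e1 : 𝔮 ^ (m + 2) - 1 = 𝔮 * (𝔮 ^ (m + 1) - 1) + (𝔮 - 1) := by
    have : 𝔮 ^ (m + 2) = 𝔮 * 𝔮 ^ (m + 1) := by rw [pow_succ']
    obtain ⟨z, hz⟩ : ∃ z, 𝔮 ^ (m + 1) = z + 1 := ⟨𝔮 ^ (m + 1) - 1, by omega⟩
    rw [this, hz, Nat.add_sub_cancel, mul_add]
    omega
  have e2 : (𝔮 ^ (m + 1) - 1) * (t' * (𝔮 - 1)) = (𝔮 ^ (m + 2) - 1) * t := by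
    apply Nat.eq_of_mul_eq_mul_left hP
    calc P * ((𝔮 ^ (m + 1) - 1) * (t' * (𝔮 - 1))) = (P * (𝔮 ^ (m + 1) - 1)) * (t' * (𝔮 - 1)) := by ring
      _ = (d * t' * (𝔮 - 1)) * t := by rw [← h1]; ring
      _ = P * ((𝔮 ^ (m + 2) - 1) * t) := by rw [h2]; ring
  have ht0 : 0 < t := Nat.pos_of_dvd_of_pos ht (by omega)
  have htl := Nat.le_of_dvd (by omega) ht
  set B := 𝔮 ^ (m + 1) - 1 with hB
  have hB2 : (𝔮 - 1) * t < B := by
    have h3 : 𝔮 ^ 2 ≤ 𝔮 ^ (m + 1) := Nat.pow_le_pow_right (by omega) (by omega)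
    have h4 : (𝔮 - 1) * t ≤ (𝔮 - 1) * (𝔮 - 1) := Nat.mul_le_mul_left _ htl
    have h5 : (𝔮 - 1) * (𝔮 - 1) + 2 * (𝔮 - 1) + 1 = 𝔮 ^ 2 := by
      obtain ⟨x, hx⟩ : ∃ x, 𝔮 = x + 1 := ⟨𝔮 - 1, by omega⟩
      rw [hx, Nat.add_sub_cancel]
      ring
    omega
  rw [e1] at e2
  have e3 : B * (t' * (𝔮 - 1)) = B * (𝔮 * t) + (𝔮 - 1) * t := by rw [e2]; ring
  have h5 : B ∣ (𝔮 - 1) * t := by
    rw [← Nat.dvd_add_right (Dvd.intro _ rfl : B ∣ B * (𝔮 * t)), ← e3]
    exact Dvd.intro _ rfl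
  have h6 : 0 < (𝔮 - 1) * t := Nat.mul_pos (by omega) ht0
  exact absurd (Nat.le_of_dvd h6 h5) (by omega)

/-- `q` is prime to `q^i - 1` -/
theorem coprime_pow_sub (i : ℕ) (hi : 0 < i) : Nat.Coprime 𝔮 (𝔮 ^ i - 1) := by
  have hq := one_lt_q (F := F)
  have h1 : 1 < 𝔮 ^ i := Nat.one_lt_pow (by omega) hq
  have h2 : Nat.Coprime (𝔮 ^ i) (𝔮 ^ i - 1) := by
    obtain ⟨z, hz⟩ : ∃ z, 𝔮 ^ i = z + 1 := ⟨𝔮 ^ i - 1, by omega⟩
    rw [hz, Nat.add_sub_cancel]
    simp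
  exact Nat.Coprime.coprime_dvd_left (dvd_pow_self 𝔮 (by omega)) h2

theorem coprime_prod (n : ℕ) : Nat.Coprime 𝔮 (∏ i ∈ Finset.range n, (𝔮 ^ (i + 1) - 1)) :=
  Nat.Coprime.prod_right fun i _ => coprime_pow_sub (i + 1) (by omega)

/-- a degree prime to `q` and a degree divisible by `q` -/
theorem ne_of_q {d d' N t : ℕ} (h : Nat.Coprime 𝔮 N) (h1 : d * t = N) (h2 : 𝔮 ∣ d') : d ≠ d' := by
  rintro rfl
  have hq := one_lt_q (F := F)
  have h3 : 𝔮 ∣ N := by rw [← h1]; exact h2.mul_right _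
  have h4 := Nat.Coprime.eq_one_of_dvd h h3
  omega

theorem q_dvd {d t N : ℕ} (ht : t ∣ 𝔮 - 1) (h1 : d * t = N) (h2 : 𝔮 ∣ N) : 𝔮 ∣ d := by
  have h3 : Nat.Coprime 𝔮 t := by
    have := coprime_pow_sub (F := F) 1 (by norm_num)
    rw [pow_one] at this
    exact Nat.Coprime.coprime_dvd_right ht this
  exact h3.dvd_of_dvd_mul_right (by rw [h1]; exact h2)

/-- **the case `IsA`** -/
theorem two_A {n : ℕ} (hn : 3 ≤ n) {p : ℕ} (hp : p.Prime) (hA : IsA F n p) :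
    Two p (ProjectiveSpecialLinearGroup (Fin n) F) := by
  obtain ⟨φ, t, ht, hφ, h1⟩ := exA' hn (hasCusp F n (by omega))
  by_cases hB : Facts.IsB F n p
  · obtain ⟨ψ, t', ht', hψ, h2⟩ := exB' hn (hasCusp F (n - 1) (by omega))
    refine two_of_degree_ne φ ψ (h1 p hA) (h2 p hp hB) fun h => ?_
    rw [← h] at hψ
    exact degrees_ne hn ht ht' hφ hψ
  · obtain ⟨ψ, hψ⟩ := t3 (F := F) (n := n) (by omega)
    have hC := isC_of_isA hn hp hA hB
    refine two_of_degree_ne φ ψ (h1 p hA) ?_ ?_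
    · rcases hC with h | h
      · rw [hψ]; exact h.mul_right _
      · rw [hψ]; exact h.mul_left _
    · exact ne_of_q (coprime_prod (n - 1)) hφ (by rw [hψ]; exact Dvd.intro _ rfl)

/-- the character with the Steinberg character of `GL_2(q)` -/
theorem exists_st2 {n : ℕ} (hn : 5 ≤ n) {p : ℕ} (hp : p.Prime) (h0 : p ∣ 𝔮 ^ n - 1)
    (hA : ¬ IsA F n p) : ∃ φ : IrrCharacter (ProjectiveSpecialLinearGroup (Fin n) F),
      p ∣ charDegree (φ : ProjectiveSpecialLinearGroup (Fin n) F → ℂ) ∧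
      𝔮 ∣ charDegree (φ : ProjectiveSpecialLinearGroup (Fin n) F → ℂ) := by
  classical
  have hq := one_lt_q (F := F)
  obtain ⟨m, rfl⟩ : ∃ m, n = m + 2 := ⟨n - 2, by omega⟩
  obtain ⟨φ, t, ht, hφ⟩ := exists_para (F := F) (n := m + 2) (a := m) (b := 2) (by omega) (by omega) rfl
    (hasCusp F m (by omega)) (isIrr_st (F := F) 1) (d := 𝔮) (st_one 1) (fun c => by
      rw [st_scalar, st_one]; simp)
  have htq := ht.trans (Nat.gcd_dvd_right _ _)
  refine ⟨φ, ?_, q_dvd htq hφ ⟨Nat.card {W : Submodule F (Fin (m + 2) → F) // finrank F W = m} *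
          (∏ i ∈ Finset.range (m - 1), (Fintype.card F ^ (i + 1) - 1)), by ring⟩⟩
  have hpt : p.Coprime t := by
    rw [hp.coprime_iff_not_dvd]
    intro h
    exact hA ⟨1, le_rfl, by omega, by rw [pow_one]; exact h.trans htq⟩
  refine hpt.dvd_of_dvd_mul_right ?_
  rw [hφ]
  apply Dvd.dvd.mul_right
  have h1 := H950.card_subspaces_symm (F := F) (V := Fin (m + 2) → F) (by rw [finrank_fin_fun]) (k := 2) (by omega)
  have h2 := H950.card_subspaces_eq (F := F) (V := Fin (m + 2) → F) (by rw [finrank_fin_fun]) (k := 2) (by omega) rfl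
  rw [Nat.add_sub_cancel] at h1
  rw [h1]
  rw [Fin.prod_univ_two, Fin.prod_univ_two] at h2
  have h3 : p ∣ Nat.card {W : Submodule F (Fin (m + 2) → F) // finrank F W = 2} *
      ((𝔮 ^ 2 - 1) * (𝔮 - 1)) := by
    have e1 : (𝔮 ^ (2 - (0 : Fin 2).val) - 1) * (𝔮 ^ (2 - (1 : Fin 2).val) - 1) = (𝔮 ^ 2 - 1) * (𝔮 - 1) := by simp
    have e2 : (𝔮 ^ (m + 2 - (0 : Fin 2).val) - 1) = 𝔮 ^ (m + 2) - 1 := by simp
    rw [e1, e2] at h2
    rw [h2]
    exact h0.mul_right _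
  rcases (hp.dvd_mul).1 h3 with h3 | h3
  · exact h3
  · exfalso
    rcases (hp.dvd_mul).1 h3 with h3 | h3
    · exact hA ⟨2, by omega, by omega, h3⟩
    · exact hA ⟨1, by omega, by omega, by rwa [pow_one]⟩

/-- **the case `IsB`, not `IsA`** -/
theorem two_B {n : ℕ} (hn : 3 ≤ n) {p : ℕ} (hp : p.Prime) (hB : Facts.IsB F n p) (hA : ¬ IsA F n p)
    (h24 : n = 3 → 𝔮 ≠ 2 ∧ 𝔮 ≠ 4) : Two p (ProjectiveSpecialLinearGroup (Fin n) F) := by
  classical
  have hq := one_lt_q (F := F)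
  have h0 : p ∣ 𝔮 ^ n - 1 := by
    rcases hB with h | ⟨i, hi, hin, h⟩
    · exact h
    · exact absurd ⟨i, hi, by omega, h⟩ hA
  have hq1 : ¬ p ∣ 𝔮 - 1 := fun h => hA ⟨1, le_rfl, by omega, by rwa [pow_one]⟩
  obtain ⟨ψ, t', ht', hψ, h2⟩ := exB' hn (hasCusp F (n - 1) (by omega))
  -- a second character, of degree divisible by `q`
  suffices H : ∃ φ : IrrCharacter (ProjectiveSpecialLinearGroup (Fin n) F),
      p ∣ charDegree (φ : ProjectiveSpecialLinearGroup (Fin n) F → ℂ) ∧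
      𝔮 ∣ charDegree (φ : ProjectiveSpecialLinearGroup (Fin n) F → ℂ) by
    obtain ⟨φ, hφ1, hφ2⟩ := H
    refine two_of_degree_ne ψ φ (h2 p hp hB) hφ1 ?_
    rw [mul_assoc] at hψ
    exact ne_of_q (Nat.Coprime.mul_right (coprime_pow_sub n (by omega)) (coprime_prod (n - 2))) hψ hφ2
  rcases Nat.lt_or_ge 4 n with h5 | h5
  · exact exists_st2 h5 hp h0 hA
  · rcases (show n = 3 ∨ n = 4 by omega) with rfl | rfl
    · obtain ⟨φ, t, ht, hφ⟩ := exists_st (F := F) (h24 rfl).1 (h24 rfl).2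
      have htq := ht.trans (Nat.gcd_dvd_right _ _)
      have h3 : charDegree (φ : ProjectiveSpecialLinearGroup (Fin 3) F → ℂ) * t = (∑ i ∈ Finset.range 3, 𝔮 ^ i) * 𝔮 := by
        apply Nat.eq_of_mul_eq_mul_right (show 0 < 𝔮 - 1 by omega)
        rw [hφ, ← geom]
        ring
      refine ⟨φ, ?_, q_dvd htq h3 (Dvd.intro_left _ rfl)⟩
      have hpt : p.Coprime t := by
        rw [hp.coprime_iff_not_dvd]
        exact fun h => hq1 (h.trans htq)
      refine hpt.dvd_of_dvd_mul_right ?_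
      rw [h3]
      apply Dvd.dvd.mul_right
      rw [← geom, hp.dvd_mul] at h0
      exact h0.resolve_right hq1
    · obtain ⟨φ, t, ht, hφ⟩ := t7 (F := F) (hasCusp F 2 (by norm_num))
      have htq := ht.trans (Nat.gcd_dvd_right _ _)
      refine ⟨φ, ?_, q_dvd htq hφ ⟨(𝔮 - 1) * ((𝔮 ^ 2 + 1) * (𝔮 ^ 2 + 𝔮 + 1)), by ring⟩⟩
      have hpt : p.Coprime t := by
        rw [hp.coprime_iff_not_dvd]
        exact fun h => hq1 (h.trans htq)
      refine hpt.dvd_of_dvd_mul_right ?_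
      rw [hφ]
      have e1 : 𝔮 ^ 4 - 1 = (𝔮 ^ 2 - 1) * (𝔮 ^ 2 + 1) := by
        obtain ⟨x, hx⟩ : ∃ x, 𝔮 ^ 2 = x + 1 := ⟨𝔮 ^ 2 - 1, by have : 0 < 𝔮 ^ 2 := by positivity
                                                              omega⟩
        have : 𝔮 ^ 4 = (𝔮 ^ 2) ^ 2 := by ring
        rw [this, hx, Nat.add_sub_cancel]
        have : (x + 1) ^ 2 = x * (x + 1 + 1) + 1 := by ring
        rw [this, Nat.add_sub_cancel]
      rw [e1, hp.dvd_mul] at h0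
      have h3 : p ∣ 𝔮 ^ 2 + 1 := h0.resolve_left fun h => hA ⟨2, by omega, by omega, h⟩
      exact ((h3.mul_right _).mul_left _).mul_left _

/-- **`PSL_n(q)`, `n ≥ 3`, `p ∤ q`**, except `PSL_3(2)`, `PSL_3(4)` -/
theorem two_psl_gen {n : ℕ} (hn : 3 ≤ n) {p : ℕ} (hp : p.Prime) (hd : p ∣ Nat.card (ProjectiveSpecialLinearGroup (Fin n) F))
    (hq : ¬ p ∣ 𝔮) (h24 : ¬ IsA F n p → n = 3 → 𝔮 ≠ 2 ∧ 𝔮 ≠ 4) : Two p (ProjectiveSpecialLinearGroup (Fin n) F) := by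
  by_cases hA : IsA F n p
  · exact two_A hn hp hA
  · rcases cover hp hd with h | h | h
    · exact absurd h hq
    · exact absurd h hA
    · exact two_B hn hp h hA (h24 hA)

end Cfsg.Agent.H113.Two.PslGen
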