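import Cfsg.Agent.H113.Two.PsuTwo
import Cfsg.Agent.H113.Two.Psl

/-!
# The row `PSU_n(q)`, `n ≥ 4`, `p` not the characteristic, of FactTwo (helper113)
-/

set_option autoImplicit false

open Cfsg

namespace Cfsg.Agent.H113.Two.Psu

open Cfsg.Agent.H596.OneFacts Cfsg.Agent.H113.Two.Psl

universe u

/-- **`PSU_n(q)`, `n ≥ 4`, `p ∤ q`** -/
theorem two_psu_of_equiv {S : Type u} [Group S] [Finite S] {F : Type} [Field F] [Fintype F] {n q : ℕ}
    (hF : Fintype.card F = q ^ 2) (hn : 4 ≤ n) (e : S ≃* PSU n F q) {p : ℕ} (hp : p.Prime)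
    (hd : p ∣ Nat.card S) (hq : ¬ p ∣ q) : Two p S :=
  two_of_equiv e (PsuTwo.two_psu_gen hF hn hp hq (by rwa [← Nat.card_congr e.toEquiv]))

/-- **The row `PSU_n(q)`, `n ≥ 4`, `p` not the characteristic.** -/
theorem two_psu (S : Type u) [Group S] [Finite S] {F : Type} [Field F] [Fintype F] {n q : ℕ}
    (hF : Fintype.card F = q ^ 2) (hn : 4 ≤ n) (e : S ≃* PSU n F q) {p : ℕ} (hp : p.Prime)
    (hd : p ∣ Nat.card S) (hc : ¬ CharP F p) : TwoOr p S := by
  refine Or.inl (two_psu_of_equiv hF hn e hp hd fun h => hc ?_)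
  obtain ⟨r, hr⟩ := CharP.exists F
  have hpr : r.Prime := (CharP.char_is_prime_or_zero F r).resolve_right (CharP.char_ne_zero_of_finite F r)
  have : Fact r.Prime := ⟨hpr⟩
  obtain ⟨s, hs0, hs⟩ := FiniteField.card F r
  have h2 : p ∣ Fintype.card F := by rw [hF]; exact h.trans (dvd_pow_self q two_ne_zero)
  rw [hs] at h2
  rw [(Nat.prime_dvd_prime_iff_eq hp hpr).1 (hp.dvd_of_dvd_pow h2)]
  exact hr

end Cfsg.Agent.H113.Two.Psu
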