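import Cfsg.Agent.H113.Two.PsuChars
import Cfsg.Agent.H596.OneFacts
import Cfsg.Agent.Characters.Core
import Cfsg.Agent.H113.PSU.Count

/-!
# Arithmetic of the degrees of `PSU_n(q)` (helper113)
-/

set_option autoImplicit false
set_option linter.unusedSectionVars false
set_option linter.style.haveILetI false

open Cfsg

namespace Cfsg.Agent.H113.Two.PsuNum

open Cfsg.Agent.H477.HC Cfsg.Agent.H477.HC.CForm Cfsg.Agent.H749.Two Cfsg.Agent.H113.Two.HcOne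
open Cfsg.Agent.H113.Two.HermData Cfsg.Agent.H113.Two.PsuChars
open Cfsg.Agent.H113.PSU.Facts Cfsg.Agent.H113.PSU.Levi

universe u

section arith

variable {q n : ℕ}

theorem cop_uu (hq : 1 ≤ q) {i : ℕ} (hi : 1 ≤ i) : Nat.Coprime q (uu q i) := by
  by_contra h
  obtain ⟨r, hr, h1, h2⟩ := Nat.Prime.not_coprime_iff_dvd.1 h
  exact not_dvd_q hr hi hq h2 h1

theorem uu_one : uu q 1 = q + 1 := by unfold uu; simp

theorem uu_two : uu q 2 = q ^ 2 - 1 := by unfold uu; simp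

theorem cop_AA (hq : 1 ≤ q) (hn : 4 ≤ n) : Nat.Coprime q (AA q n) := by
  rw [AA_eq hn]
  exact Nat.Coprime.prod_right fun i hi => cop_uu hq (idx_le hn hi).1

theorem uu_dvd_mul (hq : 1 ≤ q) (i j : ℕ) : uu q i ∣ uu q (i * j) := by
  have h : ((uu q i : ℕ) : ℤ) ∣ (uu q (i * j) : ℤ) := by
    rw [uu_cast hq, uu_cast hq, pow_mul, pow_mul]
    exact sub_dvd_pow_sub_pow _ _ j
  exact_mod_cast h

theorem lt_uu_mul (hq : 2 ≤ q) (hn : 4 ≤ n) : uu q n < uu q (n - 1) * (q ^ 2 - 1) := by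
  obtain ⟨m, rfl⟩ : ∃ m, n = m + 1 := ⟨n - 1, by omega⟩
  rw [Nat.add_sub_cancel]
  have h1 : 2 ^ 3 ≤ q ^ m := (Nat.pow_le_pow_right (by norm_num) (by omega)).trans (Nat.pow_le_pow_left hq m)
  have h2 : uu q (m + 1) ≤ q * q ^ m + 1 := by
    unfold uu
    split_ifs
    · rw [pow_succ']; omega
    · rw [pow_succ']
  have h3 : q ^ m - 1 ≤ uu q m := by
    unfold uu
    split_ifs <;> omega
  obtain ⟨x, hx⟩ : ∃ x, q ^ m = x + 1 := ⟨q ^ m - 1, by omega⟩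
  rw [hx, Nat.add_sub_cancel] at h3
  have h4 : q + (q - 1) ≤ q ^ 2 - 1 := by
    obtain ⟨k, rfl⟩ : ∃ k, q = k + 2 := ⟨q - 2, by omega⟩
    have : (k + 2) ^ 2 = k ^ 2 + 4 * k + 4 := by ring
    rw [this]
    have : 0 ≤ k ^ 2 := Nat.zero_le _
    omega
  calc uu q (m + 1) ≤ q * (x + 1) + 1 := by rw [← hx]; exact h2
    _ < x * (q + (q - 1)) := by
      obtain ⟨k, rfl⟩ : ∃ k, q = k + 2 := ⟨q - 2, by omega⟩
      have e1 : k + 2 - 1 = k + 1 := by omega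
      rw [e1]
      have h5 : 7 ≤ x := by omega
      nlinarith
    _ ≤ uu q m * (q ^ 2 - 1) := Nat.mul_le_mul h3 h4

theorem uu_lt_succ (hq : 2 ≤ q) {n : ℕ} (h : ¬ Even (n + 1)) : uu q n < uu q (n + 1) := by
  have h1 : Even n := by
    rw [Nat.even_add_one, not_not] at h
    exact h
  unfold uu
  rw [if_pos h1, if_neg h]
  have h2 : q ^ n ≤ q ^ (n + 1) := Nat.pow_le_pow_right (by omega) (by omega)
  omega

/-- the Levi degree is different from the two rank 3 degrees -/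
theorem AA_ne (hq : 2 ≤ q) (hn : 4 ≤ n) {p a d t k x y : ℕ} (hp : p ∣ q) (hA : AA q n ∣ p ^ a * (d * t))
    (ht : t ∣ q + 1) (hd : (q ^ 2 - 1) * (q + 1) * d = q ^ k * uu q x * uu q y)
    (hxy : (x = n ∧ y = n - 3) ∨ (x = n - 1 ∧ y = n - 2)) : False := by
  have hx1 : 1 ≤ x := by omega
  have hy1 : 1 ≤ y := by omega
  have hux := uu_pos hq hx1
  have huy := uu_pos hq hy1
  have hqq : 2 * 2 ≤ q * q := Nat.mul_le_mul hq hq
  have hs : 3 ≤ q ^ 2 - 1 := by rw [sq]; omega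
  -- coprimality
  have hcop : Nat.Coprime q (AA q n * ((q ^ 2 - 1) * (q + 1))) := by
    refine Nat.Coprime.mul_right (cop_AA (by omega) hn) (Nat.Coprime.mul_right ?_ ?_)
    · rw [← uu_two]; exact cop_uu (by omega) (by norm_num)
    · rw [← uu_one]; exact cop_uu (by omega) le_rfl
  have h1 : AA q n * ((q ^ 2 - 1) * (q + 1)) ∣ p ^ a * (q ^ k * (uu q x * uu q y * t)) := by
    have h2 := Nat.mul_dvd_mul_right hA ((q ^ 2 - 1) * (q + 1))
    refine h2.trans (dvd_of_eq ?_)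
    calc p ^ a * (d * t) * ((q ^ 2 - 1) * (q + 1)) = p ^ a * (((q ^ 2 - 1) * (q + 1) * d) * t) := by ring
      _ = p ^ a * ((q ^ k * uu q x * uu q y) * t) := by rw [hd]
      _ = _ := by ring
  have h2 := (Nat.Coprime.pow_left a (Nat.Coprime.coprime_dvd_left hp hcop)).symm.dvd_of_dvd_mul_left h1
  have h3 := (Nat.Coprime.pow_left k hcop).symm.dvd_of_dvd_mul_left h2
  have ht0 : 0 < t := Nat.pos_of_dvd_of_pos ht (by omega)
  have h4 := Nat.le_of_dvd (Nat.mul_pos (Nat.mul_pos hux huy) ht0) h3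
  have ht' := Nat.le_of_dvd (by omega) ht
  have h5 : AA q n * (q ^ 2 - 1) ≤ uu q x * uu q y := by
    apply Nat.le_of_mul_le_mul_right (c := q + 1)
    · calc AA q n * (q ^ 2 - 1) * (q + 1) = AA q n * ((q ^ 2 - 1) * (q + 1)) := by ring
        _ ≤ uu q x * uu q y * t := h4
        _ ≤ uu q x * uu q y * (q + 1) := Nat.mul_le_mul_left _ ht'
    · omega
  have hAA0 : 0 < AA q n := by
    rw [AA_eq hn]
    exact Finset.prod_pos fun i hi => uu_pos hq (idx_le hn hi).1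
  -- the lower bound
  have key : ∀ c e : ℕ, c ∈ idx n → e ∈ idx n → c ≠ e → uu q x * uu q y < uu q c * uu q e * (q ^ 2 - 1) → False := by
    intro c e hc he hce hlt
    have h6 := Nat.le_of_dvd hAA0 (mul_dvd_AA (q := q) hn hc he hce)
    have h7 := Nat.mul_le_mul_right (q ^ 2 - 1) h6
    omega
  have hself : ∀ N : ℕ, 0 < N → N < N * (q ^ 2 - 1) := by
    intro N hN
    nlinarith
  by_cases hev : Even n
  · have hidx : ∀ i, 1 ≤ i → i < n → i ∈ idx n := fun i h1 h2 =>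
      mem_idx hn h1 (by omega) (by unfold exn; rw [if_pos hev]; omega) (fun _ => hev)
    rcases hxy with ⟨rfl, rfl⟩ | ⟨rfl, rfl⟩
    · refine key (x - 1) (x - 3) (hidx _ (by omega) (by omega)) (hidx _ (by omega) (by omega)) (by omega) ?_
      have h6 := lt_uu_mul hq hn
      calc uu q x * uu q (x - 3) < (uu q (x - 1) * (q ^ 2 - 1)) * uu q (x - 3) := Nat.mul_lt_mul_of_pos_right h6 huy
        _ = _ := by ring
    · exact key (n - 1) (n - 2) (hidx _ (by omega) (by omega)) (hidx _ (by omega) (by omega)) (by omega)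
        (hself _ (Nat.mul_pos hux huy))
  · have h5' : n ≠ 4 := by rintro rfl; exact hev (by decide)
    have hidx : ∀ i, 2 ≤ i → i ≤ n → i ≠ n - 1 → i ∈ idx n := fun i h1 h2 h3 =>
      mem_idx hn (by omega) h2 (by unfold exn; rw [if_neg hev]; omega) (fun h => by omega)
    rcases hxy with ⟨rfl, rfl⟩ | ⟨rfl, rfl⟩
    · exact key x (x - 3) (hidx _ (by omega) (by omega) (by omega)) (hidx _ (by omega) (by omega) (by omega)) (by omega)
        (hself _ (Nat.mul_pos hux huy))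
    · refine key n (n - 2) (hidx _ (by omega) (by omega) (by omega)) (hidx _ (by omega) (by omega) (by omega)) (by omega) ?_
      have h6 : uu q (n - 1) < uu q n := by
        have h7 := uu_lt_succ hq (n := n - 1) (by
          have h8 : n - 1 + 1 = n := by omega
          rwa [h8])
        have h8 : n - 1 + 1 = n := by omega
        rwa [h8] at h7
      calc uu q (n - 1) * uu q (n - 2) < uu q n * uu q (n - 2) := Nat.mul_lt_mul_of_pos_right h6 huy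
        _ ≤ uu q n * uu q (n - 2) * (q ^ 2 - 1) := Nat.le_mul_of_pos_right _ (by omega)

/-- an odd prime divisor of `q² + 1` -/
theorem exists_odd (hq : 2 ≤ q) : ∃ s : ℕ, s.Prime ∧ s ∣ q ^ 2 + 1 ∧ s ≠ 2 := by
  refine exists_prime_ne Nat.prime_two ?_ (by nlinarith)
  intro h
  have h1 : (q ^ 2 + 1) % 4 = 0 := Nat.mod_eq_zero_of_dvd h
  rw [sq] at h1
  have h2 : q % 4 = 0 ∨ q % 4 = 1 ∨ q % 4 = 2 ∨ q % 4 = 3 := by omega
  have h3 : (q * q + 1) % 4 = ((q % 4) * (q % 4) + 1) % 4 := by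
    rw [Nat.add_mod, Nat.mul_mod, Nat.add_mod ((q % 4) * (q % 4))]
  rw [h3] at h1
  rcases h2 with h | h | h | h <;> rw [h] at h1 <;> norm_num at h1

/-- primes dividing `q² + 1` do not divide the other factors -/
theorem not_dvd_of (hq : 2 ≤ q) {s : ℕ} (hs : s.Prime) (h1 : s ∣ q ^ 2 + 1) (h2 : s ≠ 2) :
    ¬ s ∣ q ∧ ¬ s ∣ q ^ 2 - 1 ∧ ¬ s ∣ q + 1 ∧ ¬ s ∣ uu q 3 ∧ ¬ s ∣ uu q 5 := by
  have e3 : uu q 3 = q ^ 3 + 1 := by unfold uu; rw [if_neg (by decide)]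
  have e5 : uu q 5 = q ^ 5 + 1 := by unfold uu; rw [if_neg (by decide)]
  have hqq : 2 * 2 ≤ q * q := Nat.mul_le_mul hq hq
  have a1 : ¬ s ∣ q := by
    intro h
    have h3 : s ∣ q ^ 2 := h.trans (dvd_pow_self q two_ne_zero)
    exact hs.one_lt.ne' (Nat.dvd_one.1 ((Nat.dvd_add_right h3).1 h1))
  have a2 : ¬ s ∣ q ^ 2 - 1 := by
    intro h
    have h3 := Nat.dvd_sub h1 h
    have h4 : q ^ 2 + 1 - (q ^ 2 - 1) = 2 := by rw [sq]; omega
    rw [h4] at h3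
    exact h2 ((Nat.prime_dvd_prime_iff_eq hs Nat.prime_two).1 h3)
  have a3 : ¬ s ∣ q + 1 := fun h => a2 (by
    rw [Cfsg.Agent.H113.PSU.Facts.sq_sub (by omega)]
    exact h.mul_left _)
  have a3' : ¬ s ∣ q - 1 := fun h => a2 (by
    rw [Cfsg.Agent.H113.PSU.Facts.sq_sub (by omega)]
    exact h.mul_right _)
  refine ⟨a1, a2, a3, ?_, ?_⟩
  · rw [e3]
    intro h
    have h3 := Nat.dvd_sub (h1.mul_left q) h
    have h4 : q * (q ^ 2 + 1) - (q ^ 3 + 1) = q - 1 := by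
      have : q * (q ^ 2 + 1) = q ^ 3 + q := by ring
      rw [this]; omega
    rw [h4] at h3
    exact a3' h3
  · rw [e5]
    intro h
    -- `q⁵ + 1 + (q² + 1) q = (q² + 1) q³ + (q + 1)`
    have h3 : q ^ 5 + 1 + (q ^ 2 + 1) * q = (q ^ 2 + 1) * q ^ 3 + (q + 1) := by ring
    have h4 : s ∣ (q ^ 2 + 1) * q ^ 3 + (q + 1) := by
      rw [← h3]
      exact Nat.dvd_add h (h1.mul_right _)
    exact a3 ((Nat.dvd_add_right (h1.mul_right _)).1 h4)

end arith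

section chars

variable {F : Type u} [Field F] [Fintype F] {q n : ℕ}

/-- the number of points -/
theorem card_Om1 (hF : Fintype.card F = q ^ 2) (hq : Nat.card F = q ^ 2) (hn : 1 ≤ n) :
    (q ^ 2 - 1) * Nat.card ((hermF F hq n).Om 1) = uu q n * uu q (n - 1) := by
  have hq2 := LieClassical.HermBasic.two_le hF
  have h1 := card_pts (F := hermF F hq n) (fun _ => True) (fun _ _ _ _ => trivial)
  have h2 : Nat.card {x : (hermF F hq n).Pt // ∀ v ∈ x.1, v ≠ 0 → True} = Nat.card ((hermF F hq n).Om 1) :=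
    Nat.card_congr ⟨fun x => x.1, fun x => ⟨x, fun _ _ _ => trivial⟩, fun x => rfl, fun x => rfl⟩
  have h3 := CForm.card_ne_zero (V := Fin n → F) (fun v => (hermF F hq n).Sing v) sing_zero
  have h4 : Nat.card {v : Fin n → F // v ≠ 0 ∧ (hermF F hq n).Sing v ∧ True} =
      Nat.card {v : Fin n → F // v ≠ 0 ∧ (hermF F hq n).Sing v} :=
    Nat.card_congr (Equiv.subtypeEquivRight fun v => by simp)
  have h5 : Nat.card {v : Fin n → F // (hermF F hq n).Sing v} = Cfsg.Agent.H113.PSU.Points.Niso n F q :=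
    Nat.card_congr (Equiv.subtypeEquivRight fun v => ⟨fun h => h.2, fun h => ⟨h, h⟩⟩)
  rw [h2, h4, hq] at h1
  rw [h5] at h3
  have h6 : (((q ^ 2 - 1) * Nat.card ((hermF F hq n).Om 1) + 1 : ℕ) : ℤ) = ((uu q n * uu q (n - 1) + 1 : ℕ) : ℤ) := by
    rw [h1, h3, Cfsg.Agent.H113.PSU.Points.Niso_eq hF hn]
    push_cast
    rw [uu_cast (by omega), uu_cast (by omega)]
    obtain ⟨m, rfl⟩ : ∃ m, n = m + 1 := ⟨n - 1, by omega⟩
    rw [Nat.add_sub_cancel, pow_succ (-1 : ℤ)]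
    ring
  have h7 : (q ^ 2 - 1) * Nat.card ((hermF F hq n).Om 1) + 1 = uu q n * uu q (n - 1) + 1 := by exact_mod_cast h6
  exact Nat.add_right_cancel h7

theorem card_Om1_four (hF : Fintype.card F = q ^ 2) (hq : Nat.card F = q ^ 2) :
    Nat.card ((hermF F hq 4).Om 1) = (q ^ 2 + 1) * (q ^ 3 + 1) := by
  have hq2 := LieClassical.HermBasic.two_le hF
  have h1 := card_Om1 hF hq (n := 4) (by norm_num)
  have e4 : uu q 4 = (q ^ 2 - 1) * (q ^ 2 + 1) := by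
    unfold uu; rw [if_pos (by decide)]
    obtain ⟨t, ht⟩ : ∃ t, q ^ 2 = t + 1 := ⟨q ^ 2 - 1, by have := Nat.pow_pos (n := 2) (show 0 < q by omega); omega⟩
    have : q ^ 4 = (q ^ 2) ^ 2 := by ring
    rw [this, ht, Nat.add_sub_cancel]
    have : (t + 1) ^ 2 = t * (t + 1 + 1) + 1 := by ring
    rw [this, Nat.add_sub_cancel]
  have e3 : uu q 3 = q ^ 3 + 1 := by unfold uu; rw [if_neg (by decide)]
  rw [e4, e3, mul_assoc] at h1
  refine Nat.eq_of_mul_eq_mul_left ?_ h1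
  have : 2 ^ 2 ≤ q ^ 2 := Nat.pow_le_pow_left hq2 2
  omega

theorem card_Om1_five (hF : Fintype.card F = q ^ 2) (hq : Nat.card F = q ^ 2) :
    Nat.card ((hermF F hq 5).Om 1) = (q ^ 2 + 1) * (q ^ 5 + 1) := by
  have hq2 := LieClassical.HermBasic.two_le hF
  have h1 := card_Om1 hF hq (n := 5) (by norm_num)
  have e4 : uu q 4 = (q ^ 2 - 1) * (q ^ 2 + 1) := by
    unfold uu; rw [if_pos (by decide)]
    obtain ⟨t, ht⟩ : ∃ t, q ^ 2 = t + 1 := ⟨q ^ 2 - 1, by have := Nat.pow_pos (n := 2) (show 0 < q by omega); omega⟩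
    have : q ^ 4 = (q ^ 2) ^ 2 := by ring
    rw [this, ht, Nat.add_sub_cancel]
    have : (t + 1) ^ 2 = t * (t + 1 + 1) + 1 := by ring
    rw [this, Nat.add_sub_cancel]
  have e5 : uu q 5 = q ^ 5 + 1 := by unfold uu; rw [if_neg (by decide)]
  have h2 : (q ^ 2 - 1) * Nat.card ((hermF F hq 5).Om 1) = (q ^ 2 - 1) * ((q ^ 2 + 1) * (q ^ 5 + 1)) := by
    rw [h1, e5, show 5 - 1 = 4 from rfl, e4]; ring
  refine Nat.eq_of_mul_eq_mul_left ?_ h2
  have : 2 ^ 2 ≤ q ^ 2 := Nat.pow_le_pow_left hq2 2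
  omega

/-- **the Levi character** -/
theorem exA3 (hF : Fintype.card F = q ^ 2) (hq : Nat.card F = q ^ 2) {p : ℕ} [Fact p.Prime] [CharP F p] (hn : 4 ≤ n) :
    ∃ (φ : IrrCharacter (PSU n F q)) (t a : ℕ), charDegree (φ : PSU n F q → ℂ) * t = dg (hermF F hq n) (n / 2) ∧
      t ∣ q + 1 ∧ AA q n ∣ p ^ a * (charDegree (φ : PSU n F q → ℂ) * t) := by
  rcases Nat.even_or_odd' n with ⟨k, hk | hk⟩
  · have h2 : n = k + (k + 0) := by omega
    obtain ⟨a, ha⟩ := dvd_even hq (p := p) (k := k) (by omega)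
    subst h2
    obtain ⟨φ, t, h1, -, h3, -⟩ := exLevi (k := k) (n' := 0) (n := k + (k + 0)) hF hq (by omega) rfl
    have e1 : (k + (k + 0)) / 2 = k := by omega
    refine ⟨φ, t, a, by rw [e1]; exact h1, h3, ?_⟩
    rw [h1]
    unfold AA
    rw [if_pos ⟨k, by omega⟩]
    have h4 : k + (k + 0) - 1 = 2 * k - 1 := by omega
    rw [h4]
    exact ha
  · have h2 : n = k + (k + 1) := by omega
    obtain ⟨a, ha⟩ := dvd_odd hq (p := p) (k := k) (by omega)
    subst h2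
    obtain ⟨φ, t, h1, -, h3, -⟩ := exLevi (k := k) (n' := 1) (n := k + (k + 1)) hF hq (by omega) rfl
    have e1 : (k + (k + 1)) / 2 = k := by omega
    refine ⟨φ, t, a, by rw [e1]; exact h1, h3, ?_⟩
    rw [h1]
    unfold AA
    rw [if_neg (Nat.not_even_iff_odd.2 ⟨k, by omega⟩)]
    have h4 : k + (k + 1) - 2 = 2 * k - 1 := by omega
    have h5 : k + (k + 1) = 2 * k + 1 := by omega
    rw [h4]
    rw [show uu q (k + (k + 1)) = uu q (2 * k + 1) from by rw [h5]]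
    exact ha

/-- `|Om 2|`, `n = 4` -/
theorem card_Om2_four (hF : Fintype.card F = q ^ 2) (hq : Nat.card F = q ^ 2) :
    ∃ x, Nat.card ((hermF F hq 4).Om 2) ∣ q ^ x * ((q + 1) * uu q 3) := by
  obtain ⟨p, hpr, hp, hpq⟩ := prime_pow hF
  have : Fact p.Prime := ⟨hpr⟩
  have hq2 := LieClassical.HermBasic.two_le hF
  obtain ⟨W₀, hW₀, hcmp⟩ := hermF_cmp F hq 2 0
  obtain ⟨a, ha⟩ := card_exact hcmp (p := p) hW₀
  obtain ⟨s, hs⟩ := card_GL_eq F 2 (by norm_num)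
  rw [card_iso, card_iso, hs, hq] at ha
  have e1 : uu q 1 = q + 1 := uu_one
  have e2 : uu q 2 = q ^ 2 - 1 := uu_two
  have e4 : uu q 4 = (q ^ 2) ^ 2 - 1 := by
    unfold uu; rw [if_pos (by decide), ← pow_mul]
  have h4 : 2 ^ 2 ≤ q ^ 2 := Nat.pow_le_pow_left hq2 2
  have hp4 : 0 < (q ^ 2) ^ 2 - 1 := by
    have : 2 ^ 2 ≤ (q ^ 2) ^ 2 := Nat.pow_le_pow_left (by omega) 2
    omega
  refine ⟨6, ?_⟩
  have h5 : ((q ^ 2) ^ 2 - 1) * (q ^ 2 - 1) * (q ^ 6 * ((q + 1) * uu q 3)) =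
      ((q ^ 2) ^ 2 - 1) * (q ^ 2 - 1) * (Nat.card ((hermF F hq 4).Om 2) * (p ^ a * (q ^ 2) ^ s)) := by
    have e5 : q ^ ((2 + (2 + 0)) * (2 + (2 + 0) - 1) / 2) * ∏ i ∈ Finset.range (2 + (2 + 0)), uu q (i + 1) =
        ((q ^ 2) ^ 2 - 1) * (q ^ 2 - 1) * (q ^ 6 * ((q + 1) * uu q 3)) := by
      simp only [Finset.prod_range_succ, Finset.prod_range_zero, show 2 + (2 + 0) = 4 from rfl, zero_add, one_mul,
        show 1 + 1 = 2 from rfl, show 2 + 1 = 3 from rfl, e1, e2, e4]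
      norm_num
      ring
    rw [← e5, ha]
    simp
    ring
  have h6 := Nat.eq_of_mul_eq_mul_left (Nat.mul_pos hp4 (by omega)) h5
  rw [h6]
  exact Dvd.intro _ rfl

/-- `|Om 2|`, `n = 5` -/
theorem card_Om2_five (hF : Fintype.card F = q ^ 2) (hq : Nat.card F = q ^ 2) :
    ∃ x, Nat.card ((hermF F hq 5).Om 2) ∣ q ^ x * (uu q 3 * uu q 5) := by
  obtain ⟨p, hpr, hp, hpq⟩ := prime_pow hF
  have : Fact p.Prime := ⟨hpr⟩
  have hq2 := LieClassical.HermBasic.two_le hF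
  obtain ⟨W₀, hW₀, hcmp⟩ := hermF_cmp F hq 2 1
  obtain ⟨a, ha⟩ := card_exact hcmp (p := p) hW₀
  obtain ⟨s, hs⟩ := card_GL_eq F 2 (by norm_num)
  rw [card_iso, card_iso, hs, hq] at ha
  have e1 : uu q 1 = q + 1 := uu_one
  have e2 : uu q 2 = q ^ 2 - 1 := uu_two
  have e4 : uu q 4 = (q ^ 2) ^ 2 - 1 := by
    unfold uu; rw [if_pos (by decide), ← pow_mul]
  have h4 : 2 ^ 2 ≤ q ^ 2 := Nat.pow_le_pow_left hq2 2
  have hp4 : 0 < (q ^ 2) ^ 2 - 1 := by
    have : 2 ^ 2 ≤ (q ^ 2) ^ 2 := Nat.pow_le_pow_left (by omega) 2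
    omega
  refine ⟨10, ?_⟩
  have h5 : ((q ^ 2) ^ 2 - 1) * (q ^ 2 - 1) * (q + 1) * (q ^ 10 * (uu q 3 * uu q 5)) =
      ((q ^ 2) ^ 2 - 1) * (q ^ 2 - 1) * (q + 1) * (Nat.card ((hermF F hq 5).Om 2) * (p ^ a * (q ^ 2) ^ s)) := by
    have e5 : q ^ ((2 + (2 + 1)) * (2 + (2 + 1) - 1) / 2) * ∏ i ∈ Finset.range (2 + (2 + 1)), uu q (i + 1) =
        ((q ^ 2) ^ 2 - 1) * (q ^ 2 - 1) * (q + 1) * (q ^ 10 * (uu q 3 * uu q 5)) := by
      simp only [Finset.prod_range_succ, Finset.prod_range_zero, show 2 + (2 + 1) = 5 from rfl, zero_add, one_mul,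
        show 1 + 1 = 2 from rfl, show 2 + 1 = 3 from rfl, show 3 + 1 = 4 from rfl, e1, e2, e4]
      norm_num
      ring
    rw [← e5, ha]
    simp [e1]
    ring
  have h6 := Nat.eq_of_mul_eq_mul_left (Nat.mul_pos (Nat.mul_pos hp4 (by omega)) (by omega)) h5
  rw [h6]
  exact Dvd.intro _ rfl

end chars

end Cfsg.Agent.H113.Two.PsuNum
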