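import Cfsg.Agent.H113.OB.Seven
import Cfsg.Agent.H596.OneFacts
import Cfsg.Agent.H677.DG.Tri42
import Cfsg.Agent.H251.Small.U5

/-!
# Two irreducible characters of different degrees divisible by `5`: `PSU_4(2)`, `PSU_4(3)`, `PSU_5(2)` (helper113)
-/

set_option autoImplicit false
set_option linter.style.haveILetI false

open Cfsg

namespace Cfsg.Agent.H113.Two.PsuSmall

open Cfsg.Agent Cfsg.Agent.Characters.Core Cfsg.Agent.H596.OneFacts Cfsg.Agent.H113.OB
open Cfsg.Agent.SmallSimple.LocalData Cfsg.Agent.SmallSimple.DegreeData Cfsg.Agent.H424.BlockTools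
  Cfsg.Agent.H424.BlockTools2 Subgroup

universe u

theorem two_of_mem {p : ℕ} {S : Type u} [Group S] {a b : ℕ} (ha : a ∈ charDegrees S) (hb : b ∈ charDegrees S)
    (hpa : p ∣ a) (hpb : p ∣ b) (h : a ≠ b) : Two p S := by
  obtain ⟨α, rfl⟩ := ha
  obtain ⟨β, rfl⟩ := hb
  exact two_of_degree_ne α β hpa hpb h

/-- **`PSU_4(2)`** -/
theorem two_u42 {F : Type u} [Field F] [Fintype F] (hF : Fintype.card F = 2 ^ 2) : Two 5 (PSU 4 F 2) := by
  obtain ⟨χ₁, -, h1, -, h2, -⟩ := H113.PSU.Left43.u42 hF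
  obtain ⟨e⟩ := Cfsg.Agent.S0822.result (F := F) (K := ZMod 3) (by rw [hF]; norm_num) (ZMod.card 3)
  have h15 := H677.Tri42.fifteen (F := ZMod 3) (ZMod.card 3)
  rw [← H424.DegTools.charDegrees_congr e] at h15
  exact two_of_mem h15 (H677.Tri42.deg_of_one h1 (n := 20) (by rw [h2]; norm_num)) (by norm_num) (by norm_num)
    (by norm_num)

/-- degree `90` of `PSU_4(3)` -/
theorem mem90 {F : Type} [Field F] [Fintype F] (hF : Fintype.card F = 3 ^ 2) : 90 ∈ charDegrees (PSU 4 F 3) := by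
  obtain ⟨φ, hφ⟩ := PSU.Facts.exF (F := F) (q := 3) (n := 4) hF le_rfl
  refine ⟨φ, ?_⟩
  have e4 : PSU.Levi.uu 3 4 = 80 := by decide
  have e1 : PSU.Levi.uu 3 (4 - 3) = 4 := by decide
  rw [e4, e1] at hφ
  omega

/-- degree `640` of `PSU_4(3)` -/
theorem mem640 {F : Type} [Field F] [Fintype F] (hF : Fintype.card F = 3 ^ 2) : 640 ∈ charDegrees (PSU 4 F 3) := by
  have : Fact (Nat.Prime 7) := ⟨by norm_num⟩
  have h3 : Fact (Nat.Prime 3) := ⟨Nat.prime_three⟩
  have hs : IsSimpleGroup (PSU 4 F 3) := S0283.result hF 4 (by norm_num) (by norm_num)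
  have hcard : Nat.card (PSU 4 F 3) = 3265920 := CTwoTab.card_psu_four_three (by rw [hF]; norm_num)
  have hG := SmallSimple.OrdersA.not_comm hcard (by norm_num)
  obtain ⟨R, hR, hC⟩ := Cfsg.Agent.H809.SelfCent.psu_selfcent 4 3 7 (by decide) F hF
  have h := data_seven hG hcard (by norm_num) (by norm_num) (by norm_num) R hR hC
  obtain ⟨M, hM, ⟨D⟩⟩ := exists_block h (by norm_num) default (t := 2) (by norm_num)
  have h90 := mem90 hF
  -- degree 729
  have hchar : CharP F 3 := by
    obtain ⟨p, hp⟩ := CharP.exists F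
    have hpr : p.Prime := (CharP.char_is_prime_or_zero F p).resolve_right (CharP.char_ne_zero_of_finite F p)
    have : Fact p.Prime := ⟨hpr⟩
    obtain ⟨s, hs0, hs⟩ := FiniteField.card F p
    rw [hF] at hs
    have h1 : p ∣ 3 ^ 2 := by rw [hs]; exact dvd_pow_self _ s.ne_zero
    have h2 : p = 3 := (Nat.prime_dvd_prime_iff_eq hpr Nat.prime_three).1 (hpr.dvd_of_dvd_pow h1)
    subst h2
    exact hp
  have hlie : IsLieTypeChar 3 (PSU 4 F 3) :=
    Or.inr (Or.inr (Or.inl ⟨F, inferInstance, inferInstance, hchar, 4, 3, hF, by norm_num, by norm_num,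
      ⟨MulEquiv.refl _⟩⟩))
  have h729 : 729 ∈ charDegrees (PSU 4 F 3) := by
    obtain ⟨χ, hχ, h1, -⟩ := H167.StChar.hasSt_of_lie Nat.prime_three hlie
    refine ⟨⟨χ, hχ⟩, Blocks.Knorr.charDegree_of_natCast ?_⟩
    change χ 1 = _
    rw [h1, hcard]
    have : (3265920 : ℕ).factorization 3 = 6 := by
      rw [Nat.factorization_def _ Nat.prime_three]
      rw [show (3265920 : ℕ) = 3 ^ 6 * 4480 by norm_num, padicValNat.mul (by norm_num) (by norm_num),
        padicValNat.prime_pow, padicValNat.eq_zero_of_not_dvd (by norm_num)]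
    rw [this]
    norm_num
  have hP := h.card_eq (default : Sylow 7 (PSU 4 F 3))
  have hCP : Nat.card (centralizer ((default : Sylow 7 (PSU 4 F 3)) : Set (PSU 4 F 3))) = 7 := by
    rw [h.card_centralizer]
  have c1 := degree_cases hM D hP hCP (by norm_num) h90 (by norm_num)
  have c2 := degree_cases hM D hP hCP (by norm_num) h729 (by norm_num)
  have hlen := D.length_degs
  obtain ⟨a, b, hab⟩ : ∃ a b, D.degs = [a, b] := List.length_eq_two.1 (by omega)
  have hspec := D.degs_spec hP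
  have hexc := D.dexc_modEq hP (by norm_num)
  rw [← D.dexc_eq (by norm_num)] at hexc
  have hmem := dexc_mem D (by norm_num)
  rw [hab] at c1 c2 hspec hexc hmem
  simp only [List.mem_cons, List.not_mem_nil, or_false, exists_eq_or_imp, exists_eq_left, List.sum_cons,
    List.sum_nil, add_zero, forall_eq_or_imp, forall_eq] at c1 c2 hspec hexc hmem
  obtain ⟨⟨ha, -, -⟩, ⟨hb, -, -⟩⟩ := hspec
  unfold Int.ModEq at ha hb hexc
  push_cast at ha hb hexc
  have hd : (1 + (a + b)).natAbs = 640 := by omega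
  rwa [hd] at hmem

/-- **`PSU_4(3)`** -/
theorem two_u43 {F : Type} [Field F] [Fintype F] (hF : Fintype.card F = 3 ^ 2) : Two 5 (PSU 4 F 3) :=
  two_of_mem (mem90 hF) (mem640 hF) (by norm_num) (by norm_num) (by norm_num)

/-- the local data at `11` -/
theorem data_eleven {G : Type u} [Group G] [Finite G] [IsSimpleGroup G] (hG : ¬ IsMulCommutative G) {n : ℕ}
    (hn : Nat.card G = n) (h7 : 11 ∣ n) (h49 : ¬ 11 ^ 2 ∣ n) (hmod : n / 11 % 11 = 5) (R : Subgroup G)
    (hR : Nat.card R = 11) (hC : centralizer (R : Set G) = R) : Data G 11 5 1 := by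
  subst hn
  have hp : Nat.Prime 11 := by norm_num
  have : Fact (Nat.Prime 11) := ⟨hp⟩
  obtain ⟨e, k, h, -⟩ := exists_data hG hp (by norm_num) h7 h49
  obtain ⟨P, hP⟩ := exists_sylow_eq hp h49 R hR
  have h1 := h.card_centralizer P
  have hk : k = 1 := by
    have h2 : centralizer (P : Set G) = R := by
      have : ((P : Subgroup G) : Set G) = (R : Set G) := congrArg _ hP
      rw [← hC, ← this]
      rfl
    rw [h2, hR] at h1
    omega
  subst hk
  obtain ⟨K, hK, -⟩ := h.loc P
  have he := Nat.le_of_dvd (by norm_num) hK.dvd_pred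
  have h3 := h.card_sylow_mul
  have h4 : Nat.card (Sylow 11 G) % 11 = 1 := card_sylow_modEq_one 11 G
  have h5 : Nat.card G / 11 = Nat.card (Sylow 11 G) * e := by
    rw [← h3, mul_one, show Nat.card (Sylow 11 G) * (11 * e) = 11 * (Nat.card (Sylow 11 G) * e) by ring,
      Nat.mul_div_cancel_left _ (by norm_num)]
  rw [h5, Nat.mul_mod, h4, one_mul, Nat.mod_mod] at hmod
  have he3 : e = 5 := by omega
  subst he3
  exact h

/-- **`PSU_5(2)`** -/
theorem two_u52 {F : Type} [Field F] [Fintype F] (hF : Fintype.card F = 2 ^ 2) : Two 5 (PSU 5 F 2) := by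
  have : Fact (Nat.Prime 11) := ⟨by norm_num⟩
  have h3 : Fact (Nat.Prime 2) := ⟨Nat.prime_two⟩
  have hs : IsSimpleGroup (PSU 5 F 2) := S0283.result hF 5 (by norm_num) (by norm_num)
  have hcard : Nat.card (PSU 5 F 2) = 13685760 := Cfsg.Agent.H251.Small.card_u5 hF
  have hG := SmallSimple.OrdersA.not_comm hcard (by norm_num)
  obtain ⟨R, hR, hC⟩ := Cfsg.Agent.H809.SelfCent.psu_irred (n := 5) (r := 11) hF (by norm_num) (by decide) (by norm_num)
    (by norm_num) (by norm_num) (by norm_num) (by norm_num) (k := 341) (by norm_num) (by norm_num) (by decide)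
    (by norm_num) (by norm_num)
  have h := data_eleven hG hcard (by norm_num) (by norm_num) (by norm_num) R hR hC
  obtain ⟨M, hM, ⟨D⟩⟩ := exists_block h (by norm_num) default (t := 2) (by norm_num)
  -- degree 120
  have h120 : 120 ∈ charDegrees (PSU 5 F 2) := by
    obtain ⟨φ, hφ⟩ := PSU.Facts.exG (F := F) (q := 2) (n := 5) hF (by norm_num)
    refine ⟨φ, ?_⟩
    have e4 : PSU.Levi.uu 2 (5 - 1) = 15 := by decide
    have e1 : PSU.Levi.uu 2 (5 - 2) = 9 := by decide
    rw [e4, e1] at hφ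
    omega
  -- degree 1024
  have hchar : CharP F 2 := by
    obtain ⟨p, hp⟩ := CharP.exists F
    have hpr : p.Prime := (CharP.char_is_prime_or_zero F p).resolve_right (CharP.char_ne_zero_of_finite F p)
    have : Fact p.Prime := ⟨hpr⟩
    obtain ⟨s, hs0, hs⟩ := FiniteField.card F p
    rw [hF] at hs
    have h1 : p ∣ 2 ^ 2 := by rw [hs]; exact dvd_pow_self _ s.ne_zero
    have h2 : p = 2 := (Nat.prime_dvd_prime_iff_eq hpr Nat.prime_two).1 (hpr.dvd_of_dvd_pow h1)
    subst h2
    exact hp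
  have hlie : IsLieTypeChar 2 (PSU 5 F 2) :=
    Or.inr (Or.inr (Or.inl ⟨F, inferInstance, inferInstance, hchar, 5, 2, hF, by norm_num, by norm_num,
      ⟨MulEquiv.refl _⟩⟩))
  have h1024 : 1024 ∈ charDegrees (PSU 5 F 2) := by
    obtain ⟨χ, hχ, h1, -⟩ := H167.StChar.hasSt_of_lie Nat.prime_two hlie
    refine ⟨⟨χ, hχ⟩, Blocks.Knorr.charDegree_of_natCast ?_⟩
    change χ 1 = _
    rw [h1, hcard]
    have : (13685760 : ℕ).factorization 2 = 10 := by
      rw [Nat.factorization_def _ Nat.prime_two]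
      rw [show (13685760 : ℕ) = 2 ^ 10 * 13365 by norm_num, padicValNat.mul (by norm_num) (by norm_num),
        padicValNat.prime_pow, padicValNat.eq_zero_of_not_dvd (by norm_num)]
    rw [this]
    norm_num
  have hP := h.card_eq (default : Sylow 11 (PSU 5 F 2))
  have hCP : Nat.card (centralizer ((default : Sylow 11 (PSU 5 F 2)) : Set (PSU 5 F 2))) = 11 := by
    rw [h.card_centralizer]
  have c1 := degree_cases hM D hP hCP (by norm_num) h120 (by norm_num)
  have c2 := degree_cases hM D hP hCP (by norm_num) h1024 (by norm_num)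
  have hsq := D.sum_sq_le
  rw [hcard] at hsq
  have hnn : (0 : ℤ) ≤ (D.degs.map (· ^ 2)).sum := List.sum_nonneg (by
    intro x hx
    obtain ⟨z, -, rfl⟩ := List.mem_map.1 hx
    positivity)
  have hfn : (0 : ℤ) ≤ (D.f : ℤ) ^ 2 := by positivity
  have hbd : ∀ z ∈ D.degs, z.natAbs ≤ 3699 := by
    intro z hz
    have h1 : z ^ 2 ≤ (D.degs.map (· ^ 2)).sum := List.single_le_sum (by
      intro x hx
      obtain ⟨z, -, rfl⟩ := List.mem_map.1 hx
      positivity) _ (List.mem_map.2 ⟨z, hz, rfl⟩)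
    push_cast at hsq
    have h2 : z ^ 2 ≤ 13685760 := by linarith
    have h3 : (z.natAbs : ℤ) ^ 2 ≤ 13685760 := by rw [Int.natAbs_sq]; exact h2
    by_contra hcon
    push Not at hcon
    have h4 : (3700 : ℤ) ≤ z.natAbs := by exact_mod_cast hcon
    nlinarith
  have hfb : D.dexc.natAbs ≤ 2616 := by
    rw [D.natAbs_dexc]
    push_cast at hsq
    by_contra hcon
    push Not at hcon
    have h4 : (2617 : ℤ) ≤ D.f := by exact_mod_cast hcon
    nlinarith
  have h3 : ∀ z ∈ D.degs, (decide (3 ≤ z.natAbs) && decide (z.natAbs ≤ 3699)) = true := fun z hz => by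
    rw [Bool.and_eq_true, decide_eq_true_eq, decide_eq_true_eq]
    exact ⟨degs_three_le (by rw [hcard]; norm_num) (by rw [hcard]; norm_num) D z hz, hbd z hz⟩
  have h4 := SmallSimple.DegreeCheck.degs_check D (h.card_eq _) rfl hcard
    (L := [(2, 10), (3, 5), (5, 1), (11, 1)]) (by norm_num)
    (by norm_num) (F := fun z => decide (3 ≤ z.natAbs) && decide (z.natAbs ≤ 3699))
    (FX := fun z => decide (z.natAbs ≤ 2616))
    (C := [-2430, -1440, -648, -384, -120, -54, -32, -10, 12, 45, 144, 243, 320, 540, 1024, 1728])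
    (Ds := [-1920, -864, -512, -270, -160, -72, -6, 5, 16, 27, 60, 192, 324, 720, 1215, 2304]) h3
    (by rw [decide_eq_true_eq]; exact hfb)
    (by decide) (o := 2430) (w := 2000) (M := 0) (wt := fun _ => 0) (V := 0) (Or.inl rfl)
    (P := fun l => !(l.any (fun z => z.natAbs == 120) && l.any (fun z => z.natAbs == 1024)) ||
      l.any (fun z => z % 5 == 0 && !(z.natAbs == 120))) (by decide +kernel)
  have hexc := D.dexc_modEq hP (by norm_num)
  rw [← D.dexc_eq (by norm_num)] at hexc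
  unfold Int.ModEq at hexc
  push_cast at hexc
  have d1 : D.degs.any (fun z => z.natAbs == 120) = true := by
    rw [List.any_eq_true]
    rcases c1 with c1 | ⟨z, hz, hz'⟩ | c1
    · exact absurd c1 (by norm_num)
    · exact ⟨z, hz, by rw [hz']; rfl⟩
    · exfalso; omega
  have d2 : D.degs.any (fun z => z.natAbs == 1024) = true := by
    rw [List.any_eq_true]
    rcases c2 with c2 | ⟨z, hz, hz'⟩ | c2
    · exact absurd c2 (by norm_num)
    · exact ⟨z, hz, by rw [hz']; rfl⟩
    · exfalso; omega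
  rw [d1, d2, Bool.and_self, Bool.not_true, Bool.false_or, List.any_eq_true] at h4
  obtain ⟨z, hz, hz'⟩ := h4
  rw [Bool.and_eq_true] at hz'
  have e1 : z % 5 = 0 := by simpa using hz'.1
  have e2 : z.natAbs ≠ 120 := by simpa using hz'.2
  exact two_of_mem h120 (degs_mem D hz) (by norm_num) (by omega) (Ne.symm e2)

end Cfsg.Agent.H113.Two.PsuSmall
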