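import Cfsg.Agent.H113.Two.PsuNum
import Cfsg.Agent.H113.Two.PsuSmall
import Cfsg.Agent.H113.PSU.Main

/-!
# Two irreducible characters of `PSU_n(q)`, `n ≥ 4`, of different degrees divisible by `p` (helper113)

`p` is a prime divisor of the group order which does not divide `q`.
-/

set_option autoImplicit false
set_option linter.unusedSectionVars false
set_option linter.style.haveILetI false

open Cfsg

namespace Cfsg.Agent.H113.Two.PsuTwo

open Cfsg.Agent.H477.HC Cfsg.Agent.H477.HC.CForm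
open Cfsg.Agent.H113.Two.HermData Cfsg.Agent.H113.Two.PsuChars Cfsg.Agent.H113.Two.PsuNum
open Cfsg.Agent.H113.PSU.Facts Cfsg.Agent.H113.PSU.Levi Cfsg.Agent.H596.OneFacts

universe u

/-- divisibility of the rank 3 degrees -/
theorem dvd_rank3 {q k d r X Y : ℕ} (hr : r.Prime) (h : (q ^ 2 - 1) * (q + 1) * d = q ^ k * X * Y)
    (h1 : ¬ r ∣ q ^ 2 - 1) (h0 : ¬ r ∣ q + 1) (h2 : r ∣ X ∨ r ∣ Y) : r ∣ d := by
  have h3 : r ∣ (q ^ 2 - 1) * (q + 1) * d := by
    rw [h]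
    rcases h2 with h2 | h2
    · exact (h2.mul_left _).mul_right _
    · exact h2.mul_left _
  rcases hr.dvd_mul.1 h3 with h4 | h4
  · rcases hr.dvd_mul.1 h4 with h5 | h5
    · exact absurd h5 h1
    · exact absurd h5 h0
  · exact h4

section

variable {F : Type u} [Field F] [Fintype F] {q n : ℕ}

/-- the Levi character and a rank 3 character -/
theorem two_rank3 (hF : Fintype.card F = q ^ 2) (hn : 4 ≤ n) {r : ℕ} (hr : r.Prime) (hrq : ¬ r ∣ q)
    (hA : ∃ i ∈ idx n, r ∣ uu q i) (ψ : IrrCharacter (PSU n F q)) {k x y : ℕ}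
    (hψ : (q ^ 2 - 1) * (q + 1) * charDegree (ψ : PSU n F q → ℂ) = q ^ k * uu q x * uu q y)
    (hxy : (x = n ∧ y = n - 3) ∨ (x = n - 1 ∧ y = n - 2)) (hrψ : r ∣ charDegree (ψ : PSU n F q → ℂ)) :
    Two r (PSU n F q) := by
  have hq : Nat.card F = q ^ 2 := by rw [Nat.card_eq_fintype_card, hF]
  have hq2 := LieClassical.HermBasic.two_le hF
  obtain ⟨p, hpr, hp, hpq⟩ := prime_pow hF
  have : Fact p.Prime := ⟨hpr⟩
  obtain ⟨φ, t, a, h1, h2, h3⟩ := exA3 hF hq (p := p) hn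
  have ht0 : 0 < t := Nat.pos_of_dvd_of_pos h2 (by omega)
  obtain ⟨i, hi, hri⟩ := hA
  have hrp : r ≠ p := fun h => hrq ((hpq r hr).2 h)
  have h4 : r ∣ charDegree (φ : PSU n F q → ℂ) :=
    dvd_of_index h3 h2 ht0 (prime_mul_dvd_AA (by omega) hn hi hri) ((Nat.coprime_primes hr hpr).2 hrp)
  refine two_of_degree_ne φ ψ h4 hrψ fun h => ?_
  rw [h] at h3
  exact AA_ne hq2 hn ((hpq p hpr).2 rfl) h3 h2 hψ hxy

/-- **the pair** -/
theorem two_pair (hF : Fintype.card F = q ^ 2) {k l : ℕ} (hk : 2 ≤ k) (hl : l ≤ 1) (hn : n = k + (k + (1 + (1 + l))))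
    {r : ℕ} (hr : r.Prime) (hrq : ¬ r ∣ q) {i : ℕ} (h1 : 1 + (1 + l) < i) (h2 : i ≤ n) (h3 : i ≠ 2 * k)
    (hri : r ∣ uu q i) : Two r (PSU n F q) := by
  classical
  have hq : Nat.card F = q ^ 2 := by rw [Nat.card_eq_fintype_card, hF]
  have hq2 := LieClassical.HermBasic.two_le hF
  obtain ⟨p, hpr, hp, hpq⟩ := prime_pow hF
  have : Fact p.Prime := ⟨hpr⟩
  obtain ⟨φ, ψ, t, t', m, a1, a2, b1, b2, hm, hφ0⟩ := exPair hF hq (p := p) hk hl hn
  subst hn
  obtain ⟨e, he⟩ := dvd_dg hq (p := p) (k := k) (n' := 1 + (1 + l)) (by omega)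
  set D := dg (hermF F hq (k + (k + (1 + (1 + l))))) k with hD
  -- a third index
  obtain ⟨j, hj1, hj2, hj3, hj4⟩ : ∃ j, 1 + (1 + l) < j ∧ j ≤ k + (k + (1 + (1 + l))) ∧ j ≠ i ∧ j ≠ 2 * k := by
    by_cases c1 : (1 + (1 + l) + 1 ≠ i ∧ 1 + (1 + l) + 1 ≠ 2 * k)
    · exact ⟨_, by omega, by omega, c1.1, c1.2⟩
    · by_cases c2 : (1 + (1 + l) + 2 ≠ i ∧ 1 + (1 + l) + 2 ≠ 2 * k)
      · exact ⟨_, by omega, by omega, c2.1, c2.2⟩
      · exact ⟨1 + (1 + l) + 3, by omega, by omega, by omega, by omega⟩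
  have hsub : ({i - 1, j - 1, 2 * k - 1} : Finset ℕ) ⊆ Finset.Ico (1 + (1 + l)) (k + (k + (1 + (1 + l)))) := by
    intro x hx
    rw [Finset.mem_insert, Finset.mem_insert, Finset.mem_singleton] at hx
    rw [Finset.mem_Ico]
    omega
  have h4 := (Finset.prod_dvd_prod_of_subset _ _ (fun i => uu q (i + 1)) hsub).trans he
  rw [Finset.prod_insert (by rw [Finset.mem_insert, Finset.mem_singleton]; omega),
    Finset.prod_insert (by rw [Finset.mem_singleton]; omega), Finset.prod_singleton,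
    show i - 1 + 1 = i by omega, show j - 1 + 1 = j by omega, show 2 * k - 1 + 1 = 2 * k by omega] at h4
  have e2k : uu q (2 * k) = q ^ (2 * k) - 1 := by
    unfold uu; rw [if_pos (even_two_mul k)]
  rw [e2k] at h4
  have hpos : 0 < q ^ (2 * k) - 1 := by
    have : 1 < q ^ (2 * k) := Nat.one_lt_pow (by omega) (by omega)
    omega
  have h5 : r * (q + 1) ∣ p ^ e * D := by
    apply Nat.dvd_of_mul_dvd_mul_right hpos
    rw [mul_assoc (p ^ e)]
    refine dvd_trans ?_ h4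
    rw [← mul_assoc]
    exact Nat.mul_dvd_mul_right (Nat.mul_dvd_mul hri (succ_dvd_uu (by omega) j)) _
  have hrp : r ≠ p := fun h => hrq ((hpq r hr).2 h)
  have hcop := (Nat.coprime_primes hr hpr).2 hrp
  have ht0 : 0 < t := Nat.pos_of_dvd_of_pos a2 (by omega)
  have ht0' : 0 < t' := Nat.pos_of_dvd_of_pos b2 (by omega)
  have h6 : r ∣ charDegree (φ : PSU (k + (k + (1 + (1 + l)))) F q → ℂ) :=
    dvd_of_index (A := r * (q + 1)) (by rw [a1]; exact h5) a2 ht0 dvd_rfl hcop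
  have h7 : r ∣ charDegree (ψ : PSU (k + (k + (1 + (1 + l)))) F q → ℂ) :=
    dvd_of_index (A := r * (q + 1)) (a := e) (p := p) (by
      rw [b1, ← mul_assoc]
      exact h5.mul_right _) b2 ht0' dvd_rfl hcop
  refine two_of_degree_ne φ ψ h6 h7 fun h => ?_
  rw [← h, ← a1, mul_assoc] at b1
  have h8 : t' = t * p ^ m := Nat.eq_of_mul_eq_mul_left hφ0 b1
  have h9 : p ∣ q + 1 := by
    refine (dvd_trans ?_ b2)
    rw [h8]
    exact (dvd_pow_self p (by omega)).mul_left _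
  have h10 : p ∣ q := (hpq p hpr).2 rfl
  exact hpr.one_lt.ne' (Nat.dvd_one.1 ((Nat.dvd_add_right h10).1 h9))

/-- a divisor of some `uu i` -/
theorem exists_index (hF : Fintype.card F = q ^ 2) (hn : 4 ≤ n) {r : ℕ} (hr : r.Prime) (hrq : ¬ r ∣ q)
    (h : r ∣ Nat.card (PSU n F q)) : ∃ i, 1 ≤ i ∧ i ≤ n ∧ r ∣ uu q i := by
  rcases cover hF hn hr h with h1 | ⟨i, hi, h1⟩ | ⟨-, h1⟩
  · exact absurd h1 hrq
  · exact ⟨i, (idx_le hn hi).1, (idx_le hn hi).2, h1⟩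
  · refine ⟨exn n, ?_, ?_, h1⟩ <;> unfold exn <;> split_ifs <;> omega

/-- **`n ≥ 6`** -/
theorem two_six (hF : Fintype.card F = q ^ 2) (hn : 6 ≤ n) {r : ℕ} (hr : r.Prime) (hrq : ¬ r ∣ q)
    (h : r ∣ Nat.card (PSU n F q)) : Two r (PSU n F q) := by
  have hq2 := LieClassical.HermBasic.two_le hF
  obtain ⟨i, hi1, hi2, hri⟩ := exists_index hF (by omega) hr hrq h
  rcases Nat.even_or_odd' n with ⟨m, hm | hm⟩
  · -- `n = 2 m`, `k = m - 1`
    have hnk : n = (m - 1) + ((m - 1) + (1 + (1 + 0))) := by omega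
    have pair : ∀ j, 2 < j → j ≤ n → j ≠ n - 2 → r ∣ uu q j → Two r (PSU n F q) := fun j h1 h2 h3 h4 =>
      two_pair hF (by omega) (by norm_num) hnk hr hrq (by omega) h2 (by omega) h4
    by_cases h3 : r ∣ q ^ 2 - 1
    · refine pair n (by omega) le_rfl (by omega) ?_
      rw [← uu_two] at h3
      rw [hm]
      exact h3.trans (uu_dvd_mul (by omega) 2 m)
    have h3' : ¬ r ∣ q + 1 := fun h => h3 (by
      rw [Cfsg.Agent.H113.PSU.Facts.sq_sub (by omega)]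
      exact h.mul_left _)
    have hi3 : 2 < i := by
      by_contra hcon
      rcases (show i = 1 ∨ i = 2 by omega) with rfl | rfl
      · rw [uu_one] at hri; exact h3' hri
      · rw [uu_two] at hri; exact h3 hri
    by_cases h4 : i = n - 2
    · subst h4
      obtain ⟨ψ, hψ⟩ := exG (n := n) hF (by omega)
      exact two_rank3 hF (by omega) hr hrq ⟨n - 2, mem_idx (by omega) (by omega) (by omega) (by
        unfold exn; rw [if_pos ⟨m, by omega⟩]; omega) (fun h => by omega), hri⟩ ψ hψ (Or.inr ⟨rfl, rfl⟩)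
        (dvd_rank3 hr hψ h3 h3' (Or.inr hri))
    · exact pair i hi3 hi2 h4 hri
  · -- `n = 2 m + 1`
    have hnk : n = (m - 1) + ((m - 1) + (1 + (1 + 1))) := by omega
    have hev : ¬ Even n := Nat.not_even_iff_odd.2 ⟨m, hm⟩
    have pair : ∀ j, 3 < j → j ≤ n → j ≠ n - 3 → r ∣ uu q j → Two r (PSU n F q) := fun j h1 h2 h3 h4 =>
      two_pair hF (by omega) le_rfl hnk hr hrq (by omega) h2 (by omega) h4
    by_cases h3 : r ∣ q ^ 2 - 1
    · refine pair (n - 1) (by omega) (by omega) (by omega) ?_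
      rw [← uu_two] at h3
      have : n - 1 = 2 * m := by omega
      rw [this]
      exact h3.trans (uu_dvd_mul (by omega) 2 m)
    have h3' : ¬ r ∣ q + 1 := fun h => h3 (by
      rw [Cfsg.Agent.H113.PSU.Facts.sq_sub (by omega)]
      exact h.mul_left _)
    have hi3 : 2 < i := by
      by_contra hcon
      rcases (show i = 1 ∨ i = 2 by omega) with rfl | rfl
      · rw [uu_one] at hri; exact h3' hri
      · rw [uu_two] at hri; exact h3 hri
    by_cases h5 : i = 3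
    · subst h5
      by_cases h9 : n = 9
      · exact pair 9 (by norm_num) (by omega) (by omega) (hri.trans (uu_dvd_mul (by omega) 3 3))
      · exact pair 6 (by norm_num) (by omega) (by omega) (hri.trans (uu_dvd_mul (by omega) 3 2))
    by_cases h4 : i = n - 3
    · subst h4
      obtain ⟨ψ, hψ⟩ := exF (n := n) hF (by omega)
      exact two_rank3 hF (by omega) hr hrq ⟨n - 3, mem_idx (by omega) (by omega) (by omega) (by
        unfold exn; rw [if_neg hev]; omega) (fun h => by omega), hri⟩ ψ hψ (Or.inl ⟨rfl, rfl⟩)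
        (dvd_rank3 hr hψ h3 h3' (Or.inr hri))
    · exact pair i (by omega) hi2 h4 hri

end

section small

variable {q : ℕ}

theorem uu_three : uu q 3 = q ^ 3 + 1 := by unfold uu; rw [if_neg (by decide)]

theorem uu_five : uu q 5 = q ^ 5 + 1 := by unfold uu; rw [if_neg (by decide)]

theorem uu_four (hq : 1 ≤ q) : uu q 4 = (q ^ 2 - 1) * (q ^ 2 + 1) := by
  unfold uu; rw [if_pos (by decide)]
  obtain ⟨t, ht⟩ : ∃ t, q ^ 2 = t + 1 := ⟨q ^ 2 - 1, by have := Nat.pow_pos (n := 2) (show 0 < q by omega); omega⟩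
  have : q ^ 4 = (q ^ 2) ^ 2 := by ring
  rw [this, ht, Nat.add_sub_cancel]
  have : (t + 1) ^ 2 = t * (t + 1 + 1) + 1 := by ring
  rw [this, Nat.add_sub_cancel]

theorem AA_four : AA q 4 = (q + 1) * (q ^ 2 - 1) * (q ^ 3 + 1) := by
  unfold AA
  rw [if_pos (by decide)]
  simp only [show 4 - 1 = 3 from rfl, Finset.prod_range_succ, Finset.prod_range_zero, one_mul, zero_add,
    show 1 + 1 = 2 from rfl, show 2 + 1 = 3 from rfl, uu_one, uu_two, uu_three]

theorem AA_five : AA q 5 = (q ^ 2 - 1) * (q ^ 3 + 1) * (q ^ 5 + 1) := by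
  unfold AA
  rw [if_neg (by decide)]
  simp only [show 5 - 2 = 3 from rfl, show Finset.Ico 1 3 = {1, 2} from by decide, uu_five]
  rw [Finset.prod_insert (by decide), Finset.prod_singleton]
  simp only [show 1 + 1 = 2 from rfl, show 2 + 1 = 3 from rfl, uu_two, uu_three]

theorem four_le_sq (hq : 2 ≤ q) : 4 ≤ q ^ 2 := Nat.pow_le_pow_left hq 2

/-- cancelling the powers of `p` -/
theorem AA_dvd (hq : 2 ≤ q) {n : ℕ} (hn : 4 ≤ n) {p a d t t' N : ℕ} (hp : p ∣ q) (hA : AA q n ∣ p ^ a * (d * t))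
    (ht : t ∣ q + 1) (hd : d * t' = N) : AA q n ∣ N * (q + 1) := by
  have h1 : AA q n ∣ p ^ a * (N * (q + 1)) := by
    refine hA.trans (Nat.mul_dvd_mul_left _ ?_)
    rw [← hd]
    exact Nat.mul_dvd_mul (Dvd.intro _ rfl) ht
  exact (Nat.Coprime.pow_left a (Nat.Coprime.coprime_dvd_left hp (cop_AA (by omega) hn))).symm.dvd_of_dvd_mul_left h1

theorem ne_four (hq : 2 ≤ q) {p a d t t' : ℕ} (hp : p ∣ q) (hA : AA q 4 ∣ p ^ a * (d * t))
    (ht : t ∣ q + 1) (hd : d * t' = (q ^ 2 + 1) * (q ^ 3 + 1)) : False := by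
  have h1 := AA_dvd hq le_rfl hp hA ht hd
  rw [AA_four] at h1
  have h4 := four_le_sq hq
  have h2 : (q ^ 2 - 1) ∣ q ^ 2 + 1 := by
    apply Nat.dvd_of_mul_dvd_mul_right (k := (q + 1) * (q ^ 3 + 1)) (by positivity)
    refine (dvd_of_eq ?_).trans (h1.trans (dvd_of_eq ?_)) <;> ring
  have h3 := Nat.dvd_sub h2 (dvd_refl (q ^ 2 - 1))
  have h5 : q ^ 2 + 1 - (q ^ 2 - 1) = 2 := by omega
  rw [h5] at h3
  have := Nat.le_of_dvd (by norm_num) h3
  omega

theorem ne_five (hq : 2 ≤ q) {p a d t t' : ℕ} (hp : p ∣ q) (hA : AA q 5 ∣ p ^ a * (d * t))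
    (ht : t ∣ q + 1) (hd : d * t' = (q ^ 2 + 1) * (q ^ 5 + 1)) : False := by
  have h1 := AA_dvd hq (n := 5) (by norm_num) hp hA ht hd
  rw [AA_five] at h1
  have h4 := four_le_sq hq
  have h2 : (q ^ 2 - 1) * (q ^ 3 + 1) ∣ (q ^ 2 + 1) * (q + 1) := by
    apply Nat.dvd_of_mul_dvd_mul_right (k := q ^ 5 + 1) (by positivity)
    refine (dvd_of_eq ?_).trans (h1.trans (dvd_of_eq ?_)) <;> ring
  have h3 := Nat.le_of_dvd (by positivity) h2
  obtain ⟨x, hx⟩ : ∃ x, q ^ 2 = x + 4 := ⟨q ^ 2 - 4, by omega⟩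
  have e3 : q ^ 3 = q * q ^ 2 := by ring
  rw [e3, hx] at h3
  have e4 : x + 4 - 1 = x + 3 := by omega
  rw [e4] at h3
  clear hx e4 e3 h2 h4 h1 hA ht hd hp
  obtain ⟨k, rfl⟩ : ∃ k, q = k + 2 := ⟨q - 2, by omega⟩
  have h5 : (x + 4 + 1) * (k + 2 + 1) < (x + 3) * ((k + 2) * (x + 4) + 1) := by
    have : (x + 3) * ((k + 2) * (x + 4) + 1) =
        (x + 4 + 1) * (k + 2 + 1) + (k * (x * x) + 6 * (k * x) + 7 * k + 2 * (x * x) + 12 * x + 12) := by ring
    rw [this]; omega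
  omega

end small

section

variable {F : Type u} [Field F] [Fintype F] {q : ℕ}

/-- `f`, `n = 4` -/
theorem f4 (hF : Fintype.card F = q ^ 2) : ∃ φ : IrrCharacter (PSU 4 F q),
    (q ^ 2 - 1) * (q + 1) * charDegree (φ : PSU 4 F q → ℂ) = q ^ 2 * uu q 4 * uu q 1 ∧
    charDegree (φ : PSU 4 F q → ℂ) = q ^ 2 * (q ^ 2 + 1) := by
  have hq2 := LieClassical.HermBasic.two_le hF
  obtain ⟨φ, hφ⟩ := exF (n := 4) hF le_rfl
  refine ⟨φ, hφ, ?_⟩
  have h4 := four_le_sq hq2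
  rw [uu_four (by omega), show 4 - 3 = 1 from rfl, uu_one] at hφ
  apply Nat.eq_of_mul_eq_mul_left (show 0 < (q ^ 2 - 1) * (q + 1) from Nat.mul_pos (by omega) (by omega))
  rw [hφ]; ring

/-- `g`, `n = 4` -/
theorem g4 (hF : Fintype.card F = q ^ 2) : ∃ (φ : IrrCharacter (PSU 4 F q)) (w : ℕ),
    (q ^ 2 - 1) * (q + 1) * charDegree (φ : PSU 4 F q → ℂ) = q ^ 3 * uu q 3 * uu q 2 ∧
    charDegree (φ : PSU 4 F q → ℂ) = q ^ 3 * w ∧ w + q = q ^ 2 + 1 := by
  have hq2 := LieClassical.HermBasic.two_le hF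
  obtain ⟨φ, hφ⟩ := exG (n := 4) hF le_rfl
  have h4 := four_le_sq hq2
  refine ⟨φ, q ^ 2 + 1 - q, hφ, ?_, by nlinarith [Nat.sub_add_cancel (show q ≤ q ^ 2 + 1 by nlinarith)]⟩
  rw [show 4 - 1 = 3 from rfl, show 4 - 2 = 2 from rfl, uu_three, uu_two] at hφ
  apply Nat.eq_of_mul_eq_mul_left (show 0 < (q ^ 2 - 1) * (q + 1) from Nat.mul_pos (by omega) (by omega))
  rw [hφ]
  have h5 : (q ^ 2 + 1 - q) * (q + 1) = q ^ 3 + 1 := by
    obtain ⟨y, hy⟩ : ∃ y, q ^ 2 + 1 = y + q := ⟨q ^ 2 + 1 - q, by nlinarith [Nat.sub_add_cancel (show q ≤ q ^ 2 + 1 by nlinarith)]⟩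
    have h6 : q ^ 2 + 1 - q = y := by omega
    rw [h6]
    have h7 : (q ^ 2 + 1) * (q + 1) = (y + q) * (q + 1) := by rw [hy]
    nlinarith
  rw [← h5]; ring

/-- `f`, `n = 5` -/
theorem f5 (hF : Fintype.card F = q ^ 2) : ∃ (φ : IrrCharacter (PSU 5 F q)) (w : ℕ),
    (q ^ 2 - 1) * (q + 1) * charDegree (φ : PSU 5 F q → ℂ) = q ^ 2 * uu q 5 * uu q 2 ∧
    charDegree (φ : PSU 5 F q → ℂ) = q ^ 2 * w ∧ (q + 1) * w = q ^ 5 + 1 := by
  have hq2 := LieClassical.HermBasic.two_le hF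
  obtain ⟨φ, hφ⟩ := exF (n := 5) hF (by norm_num)
  have h4 := four_le_sq hq2
  obtain ⟨w, hw⟩ := succ_dvd_uu (q := q) (by omega) 5
  refine ⟨φ, w, hφ, ?_, by rw [← hw, uu_five]⟩
  rw [show 5 - 3 = 2 from rfl, hw, uu_two] at hφ
  apply Nat.eq_of_mul_eq_mul_left (show 0 < (q ^ 2 - 1) * (q + 1) from Nat.mul_pos (by omega) (by omega))
  rw [hφ]; ring

/-- `g`, `n = 5` -/
theorem g5 (hF : Fintype.card F = q ^ 2) : ∃ (φ : IrrCharacter (PSU 5 F q)) (w : ℕ),
    (q ^ 2 - 1) * (q + 1) * charDegree (φ : PSU 5 F q → ℂ) = q ^ 3 * uu q 4 * uu q 3 ∧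
    charDegree (φ : PSU 5 F q → ℂ) = q ^ 3 * ((q ^ 2 + 1) * w) ∧ w + q = q ^ 2 + 1 := by
  have hq2 := LieClassical.HermBasic.two_le hF
  obtain ⟨φ, hφ⟩ := exG (n := 5) hF (by norm_num)
  have h4 := four_le_sq hq2
  refine ⟨φ, q ^ 2 + 1 - q, hφ, ?_, by nlinarith [Nat.sub_add_cancel (show q ≤ q ^ 2 + 1 by nlinarith)]⟩
  rw [show 5 - 1 = 4 from rfl, show 5 - 2 = 3 from rfl, uu_three, uu_four (by omega)] at hφ
  apply Nat.eq_of_mul_eq_mul_left (show 0 < (q ^ 2 - 1) * (q + 1) from Nat.mul_pos (by omega) (by omega))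
  rw [hφ]
  have h5 : (q ^ 2 + 1 - q) * (q + 1) = q ^ 3 + 1 := by
    obtain ⟨y, hy⟩ : ∃ y, q ^ 2 + 1 = y + q := ⟨q ^ 2 + 1 - q, by nlinarith [Nat.sub_add_cancel (show q ≤ q ^ 2 + 1 by nlinarith)]⟩
    have h6 : q ^ 2 + 1 - q = y := by omega
    rw [h6]
    have h7 : (q ^ 2 + 1) * (q + 1) = (y + q) * (q + 1) := by rw [hy]
    nlinarith
  rw [← h5]; ring

theorem three_dvd_w {w : ℕ} (hw : w + q = q ^ 2 + 1) (h : 3 ∣ q + 1) : 3 ∣ w := by
  obtain ⟨c, hc⟩ := h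
  have h1 : (w : ℤ) = (q + 1) ^ 2 - 3 * (q + 1) + 3 := by
    have : (w : ℤ) + q = q ^ 2 + 1 := by exact_mod_cast hw
    linear_combination this
  have h2 : (q : ℤ) + 1 = 3 * c := by exact_mod_cast hc
  have h3 : (3 : ℤ) ∣ w := ⟨3 * c ^ 2 - 3 * c + 1, by rw [h1, h2]; ring⟩
  exact_mod_cast h3

theorem five_dvd_w {w : ℕ} (hw : (q + 1) * w = q ^ 5 + 1) (h : 5 ∣ q + 1) : 5 ∣ w := by
  obtain ⟨c, hc⟩ := h
  have h2 : (q : ℤ) = 5 * c - 1 := by
    have : (q : ℤ) + 1 = 5 * c := by exact_mod_cast hc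
    linarith
  have h0 : (0 : ℤ) < (q : ℤ) + 1 := by positivity
  have h1 : (w : ℤ) = q ^ 4 - q ^ 3 + q ^ 2 - q + 1 := by
    have h3 : ((q : ℤ) + 1) * w = q ^ 5 + 1 := by exact_mod_cast hw
    have h4 : ((q : ℤ) + 1) * w = ((q : ℤ) + 1) * (q ^ 4 - q ^ 3 + q ^ 2 - q + 1) := by rw [h3]; ring
    exact mul_left_cancel₀ h0.ne' h4
  have h3 : (5 : ℤ) ∣ w := by
    rw [h1, h2]
    exact ⟨125 * c ^ 4 - 125 * c ^ 3 + 50 * c ^ 2 - 10 * c + 1, by ring⟩
  exact_mod_cast h3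

/-- `D_1`, `q ≥ 4` -/
theorem d1 (hF : Fintype.card F = q ^ 2) (hq : Nat.card F = q ^ 2) (h4 : 4 ≤ q) {n l : ℕ} (hl : 1 ≤ l)
    (hn : n = 1 + (1 + l)) : ∃ (φ : IrrCharacter (PSU n F q)) (t : ℕ),
      charDegree (φ : PSU n F q → ℂ) * t = Nat.card ((hermF F hq n).Om 1) ∧ t ∣ q + 1 ∧
      ∀ r : ℕ, r.Prime → r ∣ t → r ∣ n := by
  obtain ⟨θ, h1, h2⟩ := exists_theta hq h4 (1 : mu F q →* ℂˣ)
  obtain ⟨φ, t, a1, -, a3, a4⟩ := exOne hF hq hl hn (θ := θ) h2 (fun a ha _ => by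
    have := h1 a ha
    rwa [MonoidHom.one_apply, mul_one] at this)
  exact ⟨φ, t, a1, a3, a4⟩

theorem mem_idx_small {n : ℕ} (h : n = 4 ∨ n = 5) : 2 ∈ idx n ∧ 3 ∈ idx n ∧ (n = 5 → 5 ∈ idx n) := by
  rcases h with rfl | rfl
  · decide
  · decide

end

/-- **`n = 4`** -/
theorem two_four {F : Type} [Field F] [Fintype F] {q : ℕ} (hF : Fintype.card F = q ^ 2) {r : ℕ} (hr : r.Prime)
    (hrq : ¬ r ∣ q) (h : r ∣ Nat.card (PSU 4 F q)) : Two r (PSU 4 F q) := by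
  have hq : Nat.card F = q ^ 2 := by rw [Nat.card_eq_fintype_card, hF]
  have hq2 := LieClassical.HermBasic.two_le hF
  have h4 := four_le_sq hq2
  obtain ⟨p, hpr, hp, hpq⟩ := prime_pow hF
  have : Fact p.Prime := ⟨hpr⟩
  have hpq' : p ∣ q := (hpq p hpr).2 rfl
  obtain ⟨hi2, hi3, -⟩ := mem_idx_small (Or.inl rfl : (4 : ℕ) = 4 ∨ 4 = 5)
  have hsq := Cfsg.Agent.H113.PSU.Facts.sq_sub (q := q) (by omega)
  by_cases hr2 : r = 2
  · subst hr2
    obtain ⟨φ, hφ, hφ'⟩ := f4 hF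
    have hodd : q % 2 = 1 := by omega
    refine two_rank3 hF le_rfl hr hrq ⟨2, hi2, ?_⟩ φ hφ (Or.inl ⟨rfl, rfl⟩) ?_
    · rw [uu_two, hsq]
      exact Dvd.dvd.mul_left (by omega) _
    · rw [hφ']
      apply Dvd.dvd.mul_left
      obtain ⟨c, hc⟩ : ∃ c, q = 2 * c + 1 := ⟨q / 2, by omega⟩
      exact ⟨2 * c ^ 2 + 2 * c + 1, by rw [hc]; ring⟩
  have hr3 : 3 ≤ r := by
    have := hr.two_le
    omega
  by_cases h1 : r ∣ q + 1
  · have hA : ∃ i ∈ idx 4, r ∣ uu q i := ⟨2, hi2, by rw [uu_two, hsq]; exact h1.mul_left _⟩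
    by_cases hr3' : r = 3
    · subst hr3'
      obtain ⟨φ, w, hφ, hφ', hw⟩ := g4 hF
      exact two_rank3 hF le_rfl hr hrq hA φ hφ (Or.inr ⟨rfl, rfl⟩) (by rw [hφ']; exact (three_dvd_w hw h1).mul_left _)
    · have hr5 : 5 ≤ r := by
        by_contra hcon
        have : r = 4 := by omega
        subst this
        exact absurd hr (by norm_num)
      have hq4 : 4 ≤ q := by
        have := Nat.le_of_dvd (by omega) h1
        omega
      obtain ⟨φ, t, a, a1, a2, a3⟩ := exA3 hF hq (p := p) (n := 4) le_rfl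
      obtain ⟨ψ, t', b1, b2, b3⟩ := d1 (n := 4) (l := 2) hF hq hq4 (by norm_num) rfl
      rw [card_Om1_four hF hq] at b1
      have ht0 : 0 < t := Nat.pos_of_dvd_of_pos a2 (by omega)
      obtain ⟨i, hi, hri⟩ := hA
      have hrp : r ≠ p := fun h => hrq ((hpq r hr).2 h)
      have h5 : r ∣ charDegree (φ : PSU 4 F q → ℂ) :=
        dvd_of_index a3 a2 ht0 (prime_mul_dvd_AA (by omega) le_rfl hi hri) ((Nat.coprime_primes hr hpr).2 hrp)
      have h6 : r ∣ charDegree (ψ : PSU 4 F q → ℂ) := by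
        have h7 : r ∣ charDegree (ψ : PSU 4 F q → ℂ) * t' := by
          rw [b1]
          apply Dvd.dvd.mul_left
          rw [← uu_three]
          exact h1.trans (succ_dvd_uu (by omega) 3)
        refine (hr.dvd_mul.1 h7).resolve_right fun h8 => ?_
        have h9 := Nat.le_of_dvd (by norm_num) (b3 r hr h8)
        omega
      refine two_of_degree_ne φ ψ h5 h6 fun h7 => ?_
      rw [h7] at a3
      exact ne_four hq2 hpq' a3 a2 b1
  by_cases h0 : r ∣ q - 1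
  · have hq4 : 4 ≤ q := by
      have := Nat.le_of_dvd (by omega) h0
      omega
    obtain ⟨φ, t, a, a1, a2, a3⟩ := exA3 hF hq (p := p) (n := 4) le_rfl
    obtain ⟨ψ, t', d, b1, -, b2, b3, b4⟩ := exCusp (n := 4) (l := 0) hF hq hq4 (by norm_num) rfl
    have ht0 : 0 < t := Nat.pos_of_dvd_of_pos a2 (by omega)
    have hrp : r ≠ p := fun h => hrq ((hpq r hr).2 h)
    have h5 : r ∣ charDegree (φ : PSU 4 F q → ℂ) :=
      dvd_of_index a3 a2 ht0 (prime_mul_dvd_AA (by omega) le_rfl hi2 (by rw [uu_two, hsq]; exact h0.mul_right _))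
        ((Nat.coprime_primes hr hpr).2 hrp)
    have h6 : r ∣ charDegree (ψ : PSU 4 F q → ℂ) := by
      have h7 : r ∣ charDegree (ψ : PSU 4 F q → ℂ) * t' := by
        rw [b1]
        exact (b4 r hr hr2 h0).mul_left _
      exact (hr.dvd_mul.1 h7).resolve_right fun h8 => h1 (h8.trans b2)
    refine two_of_degree_ne φ ψ h5 h6 fun h7 => ?_
    obtain ⟨s, hs, hs1, hs2⟩ := exists_odd hq2
    obtain ⟨n1, n2, n3, n4, -⟩ := not_dvd_of hq2 hs hs1 hs2
    obtain ⟨x, hx⟩ := card_Om2_four hF hq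
    rw [card_Om1_four hF hq] at b1
    have h8 : s ∣ charDegree (ψ : PSU 4 F q → ℂ) * t' := by
      rw [b1]
      exact (hs1.mul_right _).mul_right _
    have h9 := (hs.dvd_mul.1 h8).resolve_right fun h10 => n3 (h10.trans b2)
    rw [← h7] at h9
    have h10 : s ∣ dg (hermF F hq 4) (4 / 2) := by rw [← a1]; exact h9.mul_right _
    unfold dg at h10
    rw [show 4 / 2 = 2 from rfl, hq] at h10
    rcases hs.dvd_mul.1 h10 with h11 | h11
    · rcases hs.dvd_mul.1 (h11.trans hx) with h12 | h12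
      · exact n1 (hs.dvd_of_dvd_pow h12)
      · exact (hs.dvd_mul.1 h12).elim n3 n4
    · exact n2 (by simpa using h11)
  -- `r ∤ q² - 1`
  have h2' : ¬ r ∣ q ^ 2 - 1 := by
    rw [hsq, hr.dvd_mul]
    rintro (h | h)
    · exact h0 h
    · exact h1 h
  obtain ⟨i, hi1, hi2', hri⟩ := exists_index hF le_rfl hr hrq h
  rcases (show i = 1 ∨ i = 2 ∨ i = 3 ∨ i = 4 by omega) with rfl | rfl | rfl | rfl
  · rw [uu_one] at hri; exact absurd hri h1
  · rw [uu_two] at hri; exact absurd hri h2'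
  · obtain ⟨φ, w, hφ, -, -⟩ := g4 hF
    exact two_rank3 hF le_rfl hr hrq ⟨3, hi3, hri⟩ φ hφ (Or.inr ⟨rfl, rfl⟩) (dvd_rank3 hr hφ h2' h1 (Or.inl hri))
  · rw [uu_four (by omega)] at hri
    have h5 := (hr.dvd_mul.1 hri).resolve_left h2'
    by_cases hq4 : 4 ≤ q
    · obtain ⟨φ, hφ, hφ'⟩ := f4 hF
      obtain ⟨ψ, t', b1, b2, b3⟩ := d1 (n := 4) (l := 2) hF hq hq4 (by norm_num) rfl
      rw [card_Om1_four hF hq] at b1
      have h6 : r ∣ charDegree (ψ : PSU 4 F q → ℂ) := by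
        have h7 : r ∣ charDegree (ψ : PSU 4 F q → ℂ) * t' := by
          rw [b1]
          exact h5.mul_right _
        exact (hr.dvd_mul.1 h7).resolve_right fun h8 => h1 (h8.trans b2)
      refine two_of_degree_ne φ ψ (by rw [hφ']; exact h5.mul_left _) h6 fun h7 => ?_
      have h8 : p ∣ (q ^ 2 + 1) * (q ^ 3 + 1) := by
        rw [← b1, ← h7, hφ']
        exact ((hpq'.trans (dvd_pow_self q two_ne_zero)).mul_right _).mul_right _
      rcases hpr.dvd_mul.1 h8 with h9 | h9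
      · exact hpr.one_lt.ne' (Nat.dvd_one.1 ((Nat.dvd_add_right (hpq'.trans (dvd_pow_self q two_ne_zero))).1 h9))
      · exact hpr.one_lt.ne' (Nat.dvd_one.1 ((Nat.dvd_add_right (hpq'.trans (dvd_pow_self q three_ne_zero))).1 h9))
    · rcases (show q = 2 ∨ q = 3 by omega) with rfl | rfl
      · have h6 : r = 5 := (Nat.prime_dvd_prime_iff_eq hr (by norm_num : Nat.Prime 5)).1 h5
        subst h6
        exact PsuSmall.two_u42 hF
      · have h6 : r ∣ 2 * 5 := h5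
        have h7 := (hr.dvd_mul.1 h6).resolve_left fun h8 => hr2 ((Nat.prime_dvd_prime_iff_eq hr Nat.prime_two).1 h8)
        have h8 : r = 5 := (Nat.prime_dvd_prime_iff_eq hr (by norm_num : Nat.Prime 5)).1 h7
        subst h8
        exact PsuSmall.two_u43 hF

/-- **`n = 5`** -/
theorem two_five {F : Type} [Field F] [Fintype F] {q : ℕ} (hF : Fintype.card F = q ^ 2) {r : ℕ} (hr : r.Prime)
    (hrq : ¬ r ∣ q) (h : r ∣ Nat.card (PSU 5 F q)) : Two r (PSU 5 F q) := by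
  have hq : Nat.card F = q ^ 2 := by rw [Nat.card_eq_fintype_card, hF]
  have hq2 := LieClassical.HermBasic.two_le hF
  have h4 := four_le_sq hq2
  obtain ⟨p, hpr, hp, hpq⟩ := prime_pow hF
  have : Fact p.Prime := ⟨hpr⟩
  have hpq' : p ∣ q := (hpq p hpr).2 rfl
  obtain ⟨hi2, hi3, hi5⟩ := mem_idx_small (Or.inr rfl : (5 : ℕ) = 4 ∨ 5 = 5)
  have hsq := Cfsg.Agent.H113.PSU.Facts.sq_sub (q := q) (by omega)
  by_cases hr2 : r = 2
  · subst hr2
    obtain ⟨φ, w, hφ, hφ', hw⟩ := g5 hF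
    have hodd : q % 2 = 1 := by omega
    refine two_rank3 hF (by norm_num) hr hrq ⟨2, hi2, ?_⟩ φ hφ (Or.inr ⟨rfl, rfl⟩) ?_
    · rw [uu_two, hsq]
      exact Dvd.dvd.mul_left (by omega) _
    · rw [hφ']
      apply Dvd.dvd.mul_left
      apply Dvd.dvd.mul_right
      obtain ⟨c, hc⟩ : ∃ c, q = 2 * c + 1 := ⟨q / 2, by omega⟩
      exact ⟨2 * c ^ 2 + 2 * c + 1, by rw [hc]; ring⟩
  have hr3 : 3 ≤ r := by
    have := hr.two_le
    omega
  by_cases h1 : r ∣ q + 1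
  · have hA : ∃ i ∈ idx 5, r ∣ uu q i := ⟨2, hi2, by rw [uu_two, hsq]; exact h1.mul_left _⟩
    by_cases hr3' : r = 3
    · subst hr3'
      obtain ⟨φ, w, hφ, hφ', hw⟩ := g5 hF
      exact two_rank3 hF (by norm_num) hr hrq hA φ hφ (Or.inr ⟨rfl, rfl⟩)
        (by rw [hφ']; exact ((three_dvd_w hw h1).mul_left _).mul_left _)
    by_cases hr5' : r = 5
    · subst hr5'
      obtain ⟨φ, w, hφ, hφ', hw⟩ := f5 hF
      exact two_rank3 hF (by norm_num) hr hrq hA φ hφ (Or.inl ⟨rfl, rfl⟩) (by rw [hφ']; exact (five_dvd_w hw h1).mul_left _)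
    · have hr6 : 6 ≤ r := by
        by_contra hcon
        have : r = 4 := by omega
        subst this
        exact absurd hr (by norm_num)
      have hq4 : 4 ≤ q := by
        have := Nat.le_of_dvd (by omega) h1
        omega
      obtain ⟨φ, t, a, a1, a2, a3⟩ := exA3 hF hq (p := p) (n := 5) (by norm_num)
      obtain ⟨ψ, t', b1, b2, b3⟩ := d1 (n := 5) (l := 3) hF hq hq4 (by norm_num) rfl
      rw [card_Om1_five hF hq] at b1
      have ht0 : 0 < t := Nat.pos_of_dvd_of_pos a2 (by omega)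
      obtain ⟨i, hi, hri⟩ := hA
      have hrp : r ≠ p := fun h => hrq ((hpq r hr).2 h)
      have h5 : r ∣ charDegree (φ : PSU 5 F q → ℂ) :=
        dvd_of_index a3 a2 ht0 (prime_mul_dvd_AA (by omega) (by norm_num) hi hri) ((Nat.coprime_primes hr hpr).2 hrp)
      have h6 : r ∣ charDegree (ψ : PSU 5 F q → ℂ) := by
        have h7 : r ∣ charDegree (ψ : PSU 5 F q → ℂ) * t' := by
          rw [b1]
          apply Dvd.dvd.mul_left
          rw [← uu_five]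
          exact h1.trans (succ_dvd_uu (by omega) 5)
        refine (hr.dvd_mul.1 h7).resolve_right fun h8 => ?_
        have h9 := Nat.le_of_dvd (by norm_num) (b3 r hr h8)
        omega
      refine two_of_degree_ne φ ψ h5 h6 fun h7 => ?_
      rw [h7] at a3
      exact ne_five hq2 hpq' a3 a2 b1
  by_cases h0 : r ∣ q - 1
  · have hq4 : 4 ≤ q := by
      have := Nat.le_of_dvd (by omega) h0
      omega
    obtain ⟨φ, t, a, a1, a2, a3⟩ := exA3 hF hq (p := p) (n := 5) (by norm_num)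
    obtain ⟨ψ, t', d, b1, -, b2, b3, b4⟩ := exCusp (n := 5) (l := 1) hF hq hq4 (by norm_num) rfl
    have ht0 : 0 < t := Nat.pos_of_dvd_of_pos a2 (by omega)
    have hrp : r ≠ p := fun h => hrq ((hpq r hr).2 h)
    have h5 : r ∣ charDegree (φ : PSU 5 F q → ℂ) :=
      dvd_of_index a3 a2 ht0 (prime_mul_dvd_AA (by omega) (by norm_num) hi2 (by rw [uu_two, hsq]; exact h0.mul_right _))
        ((Nat.coprime_primes hr hpr).2 hrp)
    have h6 : r ∣ charDegree (ψ : PSU 5 F q → ℂ) := by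
      have h7 : r ∣ charDegree (ψ : PSU 5 F q → ℂ) * t' := by
        rw [b1]
        exact (b4 r hr hr2 h0).mul_left _
      exact (hr.dvd_mul.1 h7).resolve_right fun h8 => h1 (h8.trans b2)
    refine two_of_degree_ne φ ψ h5 h6 fun h7 => ?_
    obtain ⟨s, hs, hs1, hs2⟩ := exists_odd hq2
    obtain ⟨n1, n2, n3, n4, n5⟩ := not_dvd_of hq2 hs hs1 hs2
    obtain ⟨x, hx⟩ := card_Om2_five hF hq
    rw [card_Om1_five hF hq] at b1
    have h8 : s ∣ charDegree (ψ : PSU 5 F q → ℂ) * t' := by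
      rw [b1]
      exact (hs1.mul_right _).mul_right _
    have h9 := (hs.dvd_mul.1 h8).resolve_right fun h10 => n3 (h10.trans b2)
    rw [← h7] at h9
    have h10 : s ∣ dg (hermF F hq 5) (5 / 2) := by rw [← a1]; exact h9.mul_right _
    unfold dg at h10
    rw [show 5 / 2 = 2 from rfl, hq] at h10
    rcases hs.dvd_mul.1 h10 with h11 | h11
    · rcases hs.dvd_mul.1 (h11.trans hx) with h12 | h12
      · exact n1 (hs.dvd_of_dvd_pow h12)
      · exact (hs.dvd_mul.1 h12).elim n4 n5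
    · exact n2 (by simpa using h11)
  -- `r ∤ q² - 1`
  have h2' : ¬ r ∣ q ^ 2 - 1 := by
    rw [hsq, hr.dvd_mul]
    rintro (h | h)
    · exact h0 h
    · exact h1 h
  obtain ⟨i, hi1, hi2', hri⟩ := exists_index hF (by norm_num) hr hrq h
  rcases (show i = 1 ∨ i = 2 ∨ i = 3 ∨ i = 4 ∨ i = 5 by omega) with rfl | rfl | rfl | rfl | rfl
  · rw [uu_one] at hri; exact absurd hri h1
  · rw [uu_two] at hri; exact absurd hri h2'
  · obtain ⟨φ, w, hφ, -, -⟩ := g5 hF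
    exact two_rank3 hF (by norm_num) hr hrq ⟨3, hi3, hri⟩ φ hφ (Or.inr ⟨rfl, rfl⟩) (dvd_rank3 hr hφ h2' h1 (Or.inr hri))
  · rw [uu_four (by omega)] at hri
    have h5 := (hr.dvd_mul.1 hri).resolve_left h2'
    have hex : q ≠ 2 → ∃ (ψ : IrrCharacter (PSU 5 F q)) (t' : ℕ),
        charDegree (ψ : PSU 5 F q → ℂ) * t' = (q ^ 2 + 1) * (q ^ 5 + 1) ∧ t' ∣ q + 1 := by
      intro hq2'
      obtain ⟨θ, h7⟩ := exists_theta3 hq (by omega)
      by_cases hq4 : 4 ≤ q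
      · obtain ⟨ψ, t', b1, b2, -⟩ := d1 (n := 5) (l := 3) hF hq hq4 (by norm_num) rfl
        exact ⟨ψ, t', by rw [b1, card_Om1_five hF hq], b2⟩
      · have hq3 : q = 3 := by omega
        subst hq3
        obtain ⟨ψ, t', b1, -, b2, -⟩ := exOne (n := 5) (l := 3) hF hq (by norm_num) rfl (θ := θ) h7 (fun a ha ha5 => by
          rw [mem_mu] at ha
          have h9 : a = 1 := by
            have h10 : a ^ 5 = a ^ (3 + 1) * a := by rw [← pow_succ]
            rw [h10, ha, one_mul] at ha5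
            exact ha5
          rw [h9, map_one])
        exact ⟨ψ, t', by rw [b1, card_Om1_five hF hq], b2⟩
    by_cases hq2' : q = 2
    · subst hq2'
      have h6 : r = 5 := (Nat.prime_dvd_prime_iff_eq hr (by norm_num : Nat.Prime 5)).1 h5
      subst h6
      exact PsuSmall.two_u52 hF
    · obtain ⟨φ, w, hφ, hφ', hw⟩ := g5 hF
      obtain ⟨ψ, t', b1, b2⟩ := hex hq2'
      have h6 : r ∣ charDegree (ψ : PSU 5 F q → ℂ) := by
        have h7 : r ∣ charDegree (ψ : PSU 5 F q → ℂ) * t' := by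
          rw [b1]
          exact h5.mul_right _
        exact (hr.dvd_mul.1 h7).resolve_right fun h8 => h1 (h8.trans b2)
      refine two_of_degree_ne φ ψ (by rw [hφ']; exact (h5.mul_right _).mul_left _) h6 fun h7 => ?_
      have h8 : p ∣ (q ^ 2 + 1) * (q ^ 5 + 1) := by
        rw [← b1, ← h7, hφ']
        exact ((hpq'.trans (dvd_pow_self q three_ne_zero)).mul_right _).mul_right _
      rcases hpr.dvd_mul.1 h8 with h9 | h9
      · exact hpr.one_lt.ne' (Nat.dvd_one.1 ((Nat.dvd_add_right (hpq'.trans (dvd_pow_self q two_ne_zero))).1 h9))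
      · exact hpr.one_lt.ne' (Nat.dvd_one.1 ((Nat.dvd_add_right (hpq'.trans (dvd_pow_self q (by norm_num : 5 ≠ 0)))).1 h9))
  · obtain ⟨φ, w, hφ, -, -⟩ := f5 hF
    exact two_rank3 hF (by norm_num) hr hrq ⟨5, hi5 rfl, hri⟩ φ hφ (Or.inl ⟨rfl, rfl⟩) (dvd_rank3 hr hφ h2' h1 (Or.inl hri))

/-- **`PSU_n(q)`, `n ≥ 4`** -/
theorem two_psu_gen {F : Type} [Field F] [Fintype F] {q n : ℕ} (hF : Fintype.card F = q ^ 2) (hn : 4 ≤ n) {r : ℕ}
    (hr : r.Prime) (hrq : ¬ r ∣ q) (h : r ∣ Nat.card (PSU n F q)) : Two r (PSU n F q) := by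
  by_cases h6 : 6 ≤ n
  · exact two_six hF h6 hr hrq h
  · rcases (show n = 4 ∨ n = 5 by omega) with rfl | rfl
    · exact two_four hF hr hrq h
    · exact two_five hF hr hrq h

end Cfsg.Agent.H113.Two.PsuTwo
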