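import Cfsg.Agent.H664.R1.NoFix
import Cfsg.Agent.CharDeep.FrobKernel

/-!
# Split BN pairs of rank one: cuspidal characters and the Steinberg character (helper113)

`sum_mul_eq_zero` : if `∑_{u ∈ U} χ(u) = 0`, then `∑_{u ∈ U} χ(u g) = 0`;
`prime_dvd` : `p ∣ χ(1)`, if moreover an element of order `p` acts fixed point freely on `U`;
`exists_cusp` : a group with a split BN pair of rank one has a cuspidal character;
`exists_st` : the Steinberg character.
-/

set_option autoImplicit false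
set_option linter.style.haveILetI false

open Cfsg
open scoped ComplexConjugate

namespace Cfsg.Agent.H113.Two.SplitGen

open Cfsg.Agent.Characters.Core Cfsg.Agent.OddOrderCharacters.Clifford Cfsg.Agent.H664.R1
  Cfsg.Agent.CharactersDeep.MackeyLinear

universe u

variable {G : Type u} [Group G]

/-- sums over cosets -/
theorem sum_mul_eq_zero {U : Subgroup G} [Fintype U] {χ : G → ℂ} (hχ : IsCharacter G χ)
    (h : ∑ u : U, χ u = 0) (g : G) : ∑ u : U, χ (u * g) = 0 := by
  classical
  obtain ⟨n, ρ, rfl⟩ := hχ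
  let σ : Representation ℂ U (Fin n → ℂ) := ρ.comp U.subtype
  have hne : (Fintype.card U : ℂ) ≠ 0 := by
    rw [← Nat.card_eq_fintype_card]; exact card_ne_zero'
  letI hinv : Invertible (Fintype.card U : ℂ) := invertibleOfNonzero hne
  have hp := σ.isProj_averageMap
  have h2 : σ.averageMap = (⅟ (Fintype.card U : ℂ)) • ∑ u : U, ρ u := by
    simp only [Representation.averageMap, GroupAlgebra.average, map_smul, map_sum]
    congr 1
    refine Finset.sum_congr rfl fun u _ => ?_
    rw [MonoidAlgebra.of_apply, Representation.asAlgebraHom_single_one]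
    rfl
  have h3 : LinearMap.trace ℂ _ σ.averageMap = 0 := by
    rw [h2, map_smul, map_sum]
    change _ • ∑ u : U, ρ.character u = 0
    rw [h, smul_zero]
  have h4 := hp.trace
  rw [h3] at h4
  have h5 : Module.finrank ℂ σ.invariants = 0 := by exact_mod_cast h4.symm
  have h6 : σ.invariants = ⊥ := Submodule.finrank_eq_zero.1 h5
  have h7 : σ.averageMap = 0 := by
    refine LinearMap.ext fun v => ?_
    have := hp.map_mem v
    rw [h6] at this
    rw [(Submodule.mem_bot ℂ).1 this]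
    rfl
  have h8 : ∑ u : U, ρ u = 0 := by
    rw [h2] at h7
    exact (smul_eq_zero.1 h7).resolve_left (Invertible.ne_zero _)
  have h9 : ∑ u : U, ρ.character (u * g) = LinearMap.trace ℂ _ ((∑ u : U, ρ u) * ρ g) := by
    rw [Finset.sum_mul, map_sum]
    refine Finset.sum_congr rfl fun u _ => ?_
    change LinearMap.trace ℂ _ (ρ (u * g)) = _
    rw [map_mul]
  rw [h9, h8, zero_mul, map_zero]

/-- **`p` divides the degree**, if an element of order `p` acts on `U` without fixed points -/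
theorem prime_dvd [Finite G] {U : Subgroup G} {χ : G → ℂ} (hχ : IsCharacter G χ) (h : NoFix U χ) {p : ℕ}
    (hp : p.Prime) {t : G} (ht : orderOf t = p) (hn : ∀ u ∈ U, t * u * t⁻¹ ∈ U)
    (hf : ∀ u ∈ U, t * u = u * t → u = 1) {n : ℕ} (hd : χ 1 = n) : p ∣ n := by
  classical
  have : Fact p.Prime := ⟨hp⟩
  letI := Fintype.ofFinite G
  letI : Fintype U := Fintype.ofFinite U
  have h0 := noFix_iff.1 h
  have hcl : IsClassFunction G χ := by
    obtain ⟨m, ρ, rfl⟩ := hχ
    intro x y
    exact ρ.char_conj x y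
  have hnU : ∀ s ∈ Subgroup.zpowers t, ∀ u ∈ U, s * u * s⁻¹ ∈ U := by
    have h1 : Subgroup.zpowers t ≤ Subgroup.normalizer (U : Set G) := by
      rw [Subgroup.zpowers_le, Subgroup.mem_normalizer_iff]
      intro u
      refine ⟨fun hu => hn u hu, fun hu => ?_⟩
      -- finite
      have h2 : (fun x : U => (⟨t * x * t⁻¹, hn x x.2⟩ : U)).Injective := by
        intro x y hxy
        have h3 : t * (x : G) * t⁻¹ = t * y * t⁻¹ := congrArg Subtype.val hxy
        exact Subtype.ext (by simpa using h3)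
      obtain ⟨y, hy⟩ := (Finite.injective_iff_surjective.1 h2) ⟨_, hu⟩
      have h3 : t * (y : G) * t⁻¹ = t * u * t⁻¹ := congrArg Subtype.val hy
      have h4 : (y : G) = u := by simpa using h3
      rw [← h4]; exact y.2
    intro s hs u hu
    exact ((Subgroup.mem_normalizer_iff.1 (h1 hs)) u).1 hu
  have hfs : ∀ s ∈ Subgroup.zpowers t, s ≠ 1 → ∀ u ∈ U, s * u = u * s → u = 1 := by
    intro s hs hs1 u hu hc
    apply hf u hu
    -- `t` is a power of `s`
    have h1 : Subgroup.zpowers s = Subgroup.zpowers t := by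
      have h2 : Subgroup.zpowers s ≤ Subgroup.zpowers t := (Subgroup.zpowers_le).2 hs
      apply Subgroup.eq_of_le_of_card_ge h2
      have h3 := Subgroup.card_dvd_of_le h2
      rw [Nat.card_zpowers, Nat.card_zpowers, ht] at h3
      rw [Nat.card_zpowers, Nat.card_zpowers, ht]
      rcases (Nat.dvd_prime hp).1 h3 with h4 | h4
      · exact absurd (orderOf_eq_one_iff.1 h4) hs1
      · exact h4.ge
    have h2 : t ∈ Subgroup.zpowers s := by rw [h1]; exact Subgroup.mem_zpowers t
    obtain ⟨k, hk⟩ := Subgroup.mem_zpowers_iff.1 h2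
    rw [← hk]
    exact (Commute.zpow_left (show Commute s u from hc) k).eq
  have hval : ∀ s ∈ Subgroup.zpowers t, s ≠ 1 → χ s = 0 := by
    intro s hs hs1
    have h1 := sum_mul_eq_zero hχ h0 s
    let f : U → U := fun u => ⟨u * (s * (u : G)⁻¹ * s⁻¹), U.mul_mem u.2 (hnU s hs _ (U.inv_mem u.2))⟩
    have hfi : f.Injective := by
      intro x y hxy
      have h2 : (x : G) * (s * (x : G)⁻¹ * s⁻¹) = y * (s * (y : G)⁻¹ * s⁻¹) := congrArg Subtype.val hxy
      have h3 : s * ((y : G)⁻¹ * x) = ((y : G)⁻¹ * x) * s := by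
        have h4 : (y : G)⁻¹ * x * s = s * (y : G)⁻¹ * x := by
          calc (y : G)⁻¹ * x * s = (y : G)⁻¹ * ((x : G) * (s * (x : G)⁻¹ * s⁻¹)) * s * x := by group
            _ = (y : G)⁻¹ * ((y : G) * (s * (y : G)⁻¹ * s⁻¹)) * s * x := by rw [h2]
            _ = _ := by group
        rw [h4, mul_assoc]
      have h5 := hfs s hs hs1 _ (U.mul_mem (U.inv_mem y.2) x.2) h3
      exact Subtype.ext (inv_mul_eq_one.1 h5).symm
    have hfb : f.Bijective := ⟨hfi, Finite.injective_iff_surjective.1 hfi⟩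
    have h2 : ∑ u : U, χ (u * s) = ∑ _u : U, χ s := by
      rw [← (Equiv.ofBijective f hfb).sum_comp]
      refine Finset.sum_congr rfl fun u _ => ?_
      change χ (((u : G) * (s * (u : G)⁻¹ * s⁻¹)) * s) = χ s
      have h3 : ((u : G) * (s * (u : G)⁻¹ * s⁻¹)) * s = u * s * (u : G)⁻¹ := by group
      rw [h3, hcl]
    rw [h2, Finset.sum_const, nsmul_eq_mul, Finset.card_univ, ← Nat.card_eq_fintype_card] at h1
    exact (mul_eq_zero.1 h1).resolve_left card_ne_zero'
  obtain ⟨m, hm⟩ := classInner_isNat (isCharacter_comp (Subgroup.zpowers t).subtype hχ)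
    (isCharacter_one (G := Subgroup.zpowers t))
  rw [classInner_def, Finset.sum_eq_single (1 : Subgroup.zpowers t)] at hm
  · rw [Function.comp_apply, map_one, hd, Pi.one_apply, map_one, mul_one, Nat.card_zpowers, ht] at hm
    have hp0 : (p : ℂ) ≠ 0 := by exact_mod_cast hp.ne_zero
    refine ⟨m, ?_⟩
    have h2 : (n : ℂ) = p * m := by
      rw [← hm, mul_inv_cancel_left₀ hp0]
    exact_mod_cast h2
  · intro s _ hs
    rw [Function.comp_apply, Subgroup.subtype_apply, hval s s.2 (fun h' => hs (Subtype.ext h')), zero_mul]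
  · intro h'
    exact absurd (Finset.mem_univ _) h'

variable (D : Split G)

/-- **a cuspidal character** -/
theorem exists_cusp [Finite G] (hU : 1 < Nat.card D.U) : ∃ χ : IrrCharacter G, NoFix D.U (χ : G → ℂ) := by
  classical
  letI := Fintype.ofFinite G
  letI : Fintype D.U := Fintype.ofFinite D.U
  have := finite_irr (G := G)
  letI := Fintype.ofFinite (IrrCharacter G)
  by_contra hcon
  push Not at hcon
  have hU0 : (Nat.card D.U : ℂ) ≠ 0 := card_ne_zero'
  have hm : ∀ χ : IrrCharacter G, ∃ m : ℕ, 0 < m ∧ ∑ u : D.U, (χ : G → ℂ) u = Nat.card D.U * (m : ℂ) := by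
    intro χ
    obtain ⟨m, hm⟩ := classInner_isNat (isCharacter_comp D.U.subtype (isIrr_isCharacter χ.2))
      (isCharacter_one (G := D.U))
    have h1 : classInner ((χ : G → ℂ) ∘ D.U.subtype) 1 = (Nat.card D.U : ℂ)⁻¹ * ∑ u : D.U, (χ : G → ℂ) u := by
      rw [classInner_def]
      simp
    have h2 : ∑ u : D.U, (χ : G → ℂ) u = Nat.card D.U * (m : ℂ) := by
      rw [← hm, h1, mul_inv_cancel_left₀ hU0]
    refine ⟨m, Nat.pos_of_ne_zero ?_, h2⟩
    rintro rfl
    apply hcon χ
    rw [noFix_iff, h2, Nat.cast_zero, mul_zero]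
  choose m hm0 hm using hm
  have hd : ∀ χ : IrrCharacter G, ∃ d : ℕ, 0 < d ∧ (χ : G → ℂ) 1 = d := fun χ => isIrr_apply_one χ.2
  choose d hd0 hd using hd
  have hle : ∀ χ, d χ ≤ Nat.card D.U * m χ := by
    intro χ
    have h0 : classInner (fun u : D.U => (χ : G → ℂ) u) 1 ≠ 0 := by
      rw [Ne, ← noFix_iff_inner]
      exact hcon χ
    obtain ⟨f, hfU, hf⟩ := D.exists_ps χ.2 h0
    by_cases hw : ∃ t, ∃ ht : t ∈ D.T, f ⟨t, D.TB ht⟩ ≠ f ⟨D.w⁻¹ * t * D.w, D.TB (D.wT t ht)⟩
    · have h1 : D.ps f = χ := by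
        by_contra h2
        exact hf (classInner_irr_ne (D.isIrr_ps f hw) χ.2 h2)
      have h2 : d χ = Nat.card D.U + 1 := by
        have := hd χ
        rw [← h1, D.ps_one] at this
        exact_mod_cast this.symm
      have h3 := D.inner_U_one f hfU
      rw [h1, classInner_def] at h3
      simp only [Pi.one_apply, map_one, mul_one] at h3
      rw [hm χ, inv_mul_cancel_left₀ hU0] at h3
      have h4 : m χ = 2 := by exact_mod_cast h3
      rw [h2, h4]
      omega
    · push Not at hw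
      obtain ⟨χ₁, χ₂, hne, he⟩ := exists_two (D.isCharacter_ps f) (D.norm_ps f hw)
      have h1 : d χ₁ + d χ₂ = Nat.card D.U + 1 := by
        have := D.ps_one f
        rw [he, Pi.add_apply, hd, hd] at this
        exact_mod_cast this
      have h2 : χ = χ₁ ∨ χ = χ₂ := by
        by_contra h3
        push Not at h3
        apply hf
        rw [he, classInner_add_left, classInner_irr_ne χ₁.2 χ.2 (fun h => h3.1 (Subtype.ext h.symm)),
          classInner_irr_ne χ₂.2 χ.2 (fun h => h3.2 (Subtype.ext h.symm)), add_zero]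
      have h3 : d χ ≤ Nat.card D.U := by
        have := hd0 χ₁
        have := hd0 χ₂
        rcases h2 with rfl | rfl <;> omega
      exact h3.trans (Nat.le_mul_of_pos_right _ (hm0 χ))
  -- the two sums
  have hs1 : ∑ χ : IrrCharacter G, d χ * d χ = Nat.card G := by
    have h1 := CharDeep.FrobKernel.sum_degree_mul_apply (1 : G)
    rw [if_pos rfl] at h1
    have h2 : ((∑ χ : IrrCharacter G, d χ * d χ : ℕ) : ℂ) = Nat.card G := by
      rw [← h1]
      push_cast
      exact Finset.sum_congr rfl fun χ _ => by rw [hd]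
    exact_mod_cast h2
  have hs2 : ∑ χ : IrrCharacter G, d χ * (Nat.card D.U * m χ) = Nat.card G := by
    have h2 : ((∑ χ : IrrCharacter G, d χ * (Nat.card D.U * m χ) : ℕ) : ℂ) = Nat.card G := by
      push_cast
      calc ∑ χ : IrrCharacter G, (d χ : ℂ) * (Nat.card D.U * (m χ : ℂ))
          = ∑ χ : IrrCharacter G, ∑ u : D.U, (χ : G → ℂ) 1 * (χ : G → ℂ) u := by
            refine Finset.sum_congr rfl fun χ _ => ?_
            rw [← hm, hd, Finset.mul_sum]
        _ = ∑ u : D.U, ∑ χ : IrrCharacter G, (χ : G → ℂ) 1 * (χ : G → ℂ) u := Finset.sum_comm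
        _ = ∑ u : D.U, if (u : G) = 1 then (Nat.card G : ℂ) else 0 :=
            Finset.sum_congr rfl fun u _ => CharDeep.FrobKernel.sum_degree_mul_apply (u : G)
        _ = ∑ u : D.U, if u = 1 then (Nat.card G : ℂ) else 0 :=
            Finset.sum_congr rfl fun u _ => by
              congr 1
              exact propext ⟨fun h => Subtype.ext h, fun h => congrArg Subtype.val h⟩
        _ = Nat.card G := by rw [Finset.sum_ite_eq' Finset.univ, if_pos (Finset.mem_univ _)]
    exact_mod_cast h2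
  have heq : ∀ χ ∈ (Finset.univ : Finset (IrrCharacter G)), d χ * d χ = d χ * (Nat.card D.U * m χ) :=
    (Finset.sum_eq_sum_iff_of_le fun χ _ => Nat.mul_le_mul_left _ (hle χ)).1 (hs1.trans hs2.symm)
  have h1 := heq ⟨1, isIrr_one⟩ (Finset.mem_univ _)
  have h2 : d ⟨1, isIrr_one⟩ = 1 := by
    have h3 : (1 : ℂ) = (d ⟨1, isIrr_one⟩ : ℂ) := hd ⟨1, isIrr_one⟩
    exact_mod_cast h3.symm
  rw [h2, one_mul, one_mul] at h1
  have h3 := Nat.eq_one_of_mul_eq_one_right h1.symm
  omega

/-- **the Steinberg character** -/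
theorem exists_st [Finite G] : ∃ χ : G → ℂ, IsIrrCharacter G χ ∧ χ 1 = Nat.card D.U ∧
    ∀ z ∈ D.B, z ∈ Subgroup.center G → χ z = χ 1 := by
  classical
  letI := Fintype.ofFinite G
  letI : Fintype D.B := Fintype.ofFinite D.B
  have hn := D.norm_ps (1 : D.B →* ℂˣ) (fun _ _ => rfl)
  have hc := D.isCharacter_ps (1 : D.B →* ℂˣ)
  have h1 : classInner (D.ps (1 : D.B →* ℂˣ)) 1 = 1 := by
    rw [D.ps_def, classInner_indFun D.B _ _ (isIrr_isClassFunction isIrr_one)]
    exact classInner_irr_self (isIrr_one (G := D.B))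
  have hz : ∀ z ∈ D.B, z ∈ Subgroup.center G → D.ps (1 : D.B →* ℂˣ) z = D.ps (1 : D.B →* ℂˣ) 1 := by
    intro z hz hzc
    rw [D.ps_def, Cfsg.Agent.OddOrderCharacters.Clifford.indFun_apply,
      Cfsg.Agent.OddOrderCharacters.Clifford.indFun_apply]
    congr 1
    refine Finset.sum_congr rfl fun x _ => ?_
    have e1 : x⁻¹ * z * x = z := by
      rw [mul_assoc, ← Subgroup.mem_center_iff.1 hzc x, inv_mul_cancel_left]
    have e2 : x⁻¹ * 1 * x = 1 := by group
    rw [e1, e2, ext_apply_mem D.B _ _ hz, ext_apply_mem D.B _ _ D.B.one_mem]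
    rfl
  obtain ⟨χ₁, χ₂, hne, he⟩ := exists_two hc hn
  have key : ∀ χ₁ χ₂ : IrrCharacter G, D.ps (1 : D.B →* ℂˣ) = (χ₁ : G → ℂ) + (χ₂ : G → ℂ) → (χ₁ : G → ℂ) = 1 →
      ∃ χ : G → ℂ, IsIrrCharacter G χ ∧ χ 1 = Nat.card D.U ∧ ∀ z ∈ D.B, z ∈ Subgroup.center G → χ z = χ 1 := by
    intro χ₁ χ₂ he h2
    have hv : ∀ g, (χ₂ : G → ℂ) g = D.ps (1 : D.B →* ℂˣ) g - 1 := by
      intro g
      rw [he, h2, Pi.add_apply, Pi.one_apply]
      ring
    refine ⟨χ₂, χ₂.2, ?_, fun z hz1 hz2 => ?_⟩
    · rw [hv, D.ps_one]; ring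
    · rw [hv, hv, hz z hz1 hz2]
  by_cases h2 : (χ₁ : G → ℂ) = 1
  · exact key χ₁ χ₂ he h2
  · by_cases h3 : (χ₂ : G → ℂ) = 1
    · exact key χ₂ χ₁ (by rw [he, add_comm]) h3
    · exfalso
      rw [he, classInner_add_left, classInner_irr_ne χ₁.2 isIrr_one h2, classInner_irr_ne χ₂.2 isIrr_one h3,
        add_zero] at h1
      exact zero_ne_one h1

end Cfsg.Agent.H113.Two.SplitGen
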