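import Cfsg.Agent.H113.Two.HcOne
import Cfsg.Agent.H113.Two.SplitGen
import Cfsg.Agent.H477.HC.Rk3

/-!
# The split BN pair of rank one of the isometry group of a form of Witt index one (helper113)

`split` : `F = ⟨e, f⟩ ⟂ F'`, `F'` anisotropic with an abelian isometry group;
`cusp_form` : a cuspidal character, of degree divisible by any odd prime `p` with an element of order `p` in `K` fixed by
`σ`; `st_form` : the Steinberg character.
-/

set_option autoImplicit false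
set_option linter.unusedSectionVars false
set_option linter.style.haveILetI false

open scoped ComplexConjugate
open Cfsg

namespace Cfsg.Agent.H113.Two.SplitForm

open Cfsg.Agent.OddOrderCharacters.Clifford Cfsg.Agent.Characters MulAction Module Cfsg.Agent.H53.HC
open Cfsg.Agent.H477.HC Cfsg.Agent.H477.HC.CForm Cfsg.Agent.H749.Two Cfsg.Agent.H113.Two.HcOne Cfsg.Agent.H664.R1

universe u v w

variable {K : Type u} [Field K] {V : Type v} [AddCommGroup V] [Module K V] {X : Type w} [AddCommGroup X] [Module K X]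
variable {F : CForm K V} {F' : CForm K X} {e f : V} {j : X →ₗ[K] V}

/-- **transitivity on the hyperbolic partners**, with the action on `eᗮ` -/
theorem trans_hyp' [FiniteDimensional K V] {e f f' : V} (he : F.Sing e) (hf : F.Sing f) (hf' : F.Sing f')
    (hef : F.B e f = 1) (hef' : F.B e f' = 1) :
    ∃ g : F.iso, (g : V ≃ₗ[K] V) e = e ∧ (g : V ≃ₗ[K] V) f = f' ∧
      ∀ v, F.B v e = 0 → (g : V ≃ₗ[K] V) v - v ∈ Submodule.span K {e} := by
  have hfe : F.B f e = F.ε := by rw [F.B_symm, hef, map_one, mul_one]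
  have hfe' : F.B f' e = F.ε := by rw [F.B_symm, hef', map_one, mul_one]
  obtain ⟨c, hc⟩ : ∃ c, c = F.B f' f := ⟨_, rfl⟩
  obtain ⟨x, hx⟩ : ∃ x, x = f' - f - c • e := ⟨_, rfl⟩
  have hf'x : f' = x + (f + c • e) := by rw [hx]; abel
  have hxe : F.B x e = 0 := by
    rw [hx, F.B_sub_left, F.B_sub_left, F.B_smul_left, he.2, hfe, hfe']
    ring
  have hxf : F.B x f = 0 := by
    rw [hx, F.B_sub_left, F.B_sub_left, F.B_smul_left, hef, hf.2, ← hc]
    ring
  have hex := F.B_eq_zero hxe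
  have hfx := F.B_eq_zero hxf
  have hε := F.ε_ne
  have hσε : F.σ F.ε⁻¹ = F.ε := F.σεi
  -- singularity of `f'`
  have q1 : F.B x x + (c + F.σ c * F.ε) = 0 := by
    have h := hf'.2
    rw [hf'x] at h
    simp only [F.B_add_left, F.B_add_right, F.B_smul_left, F.B_smul_right, hxe, hxf, hex, hfx, hf.2, he.2, hef, hfe,
      mul_zero, zero_add, add_zero, mul_one] at h
    linear_combination h
  have q2 : F.Q x + F.T (F.σ c * F.ε) = 0 := by
    have h := hf'.1
    rw [hf'x, F.Q_add, F.Q_add, F.Q_smul, hf.1, he.1, F.B_add_right, F.B_smul_right, F.B_smul_right, hxf, hxe, hfe,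
      mul_zero, mul_zero, add_zero, F.T_zero, zero_add] at h
    linear_combination h
  obtain ⟨g, hg⟩ := F.exists_siegel he hf hef (y := F.ε⁻¹ • x) (t := c * F.ε⁻¹)
    (by rw [F.B_smul_left, hxe, mul_zero])
    (by
      rw [F.B_smul_left, F.B_smul_right, map_mul, hσε]
      have : F.ε⁻¹ * (F.ε * F.B x x) = F.B x x := by rw [← mul_assoc, inv_mul_cancel₀ hε, one_mul]
      rw [this, mul_assoc c, inv_mul_cancel₀ hε, mul_one]
      linear_combination q1)
    (by
      rw [F.Q_smul, hσε, inv_mul_cancel₀ hε, one_mul, map_mul, hσε]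
      exact q2)
  refine ⟨g, ?_, ?_, fun v hv => ?_⟩
  · rw [hg, he.2, F.B_smul_right, hex]
    simp
  · rw [hg, hfe, F.B_smul_right, hfx, mul_zero, mul_zero, sub_zero, smul_smul, mul_inv_cancel₀ hε, one_smul,
      mul_assoc, inv_mul_cancel₀ hε, mul_one, hf'x]
    abel
  · rw [hg, hv, zero_smul, add_zero, add_sub_cancel_left]
    exact Submodule.smul_mem _ _ (Submodule.mem_span_singleton_self e)

theorem mem_fixP_span {e : V} {g : F.iso} (h : (g : V ≃ₗ[K] V) e = e) : g ∈ fixP F (Submodule.span K {e}) := by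
  intro w hw
  obtain ⟨c, rfl⟩ := Submodule.mem_span_singleton.1 hw
  rw [map_smul, h]

theorem perp_span {e v : V} (h : F.B v e = 0) : v ∈ F.perp (Submodule.span K {e}) := by
  intro w hw
  obtain ⟨c, rfl⟩ := Submodule.mem_span_singleton.1 hw
  rw [F.B_smul_right, h, mul_zero]

/-- conjugates of the radical -/
theorem rad_conj {W₀ W : Submodule K V} {g x : F.iso} (hx : W₀.map (F.iso.subtype x : V →ₗ[K] V) = W)
    (hg : g ∈ rad F W) : x⁻¹ * g * x ∈ rad F W₀ := by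
  refine ⟨fun w hw => ?_, TT_conj hx hg.2⟩
  change ((x⁻¹ : F.iso) : V ≃ₗ[K] V) ((g : V ≃ₗ[K] V) ((x : V ≃ₗ[K] V) w)) = w
  have h1 : (x : V ≃ₗ[K] V) w ∈ W := by
    rw [← hx]
    exact ⟨w, hw, rfl⟩
  rw [hg.1 _ h1]
  exact (x : V ≃ₗ[K] V).symm_apply_apply w

section split

variable (h : Hyp F F' e f j)

include h

theorem B_fe_ne : F.B f e ≠ 0 := by rw [h.hfe]; exact F.ε_ne

/-- decomposition -/
theorem dec3 (v : V) : ∃ x, v = F.B v f • e + (F.B v e * F.ε⁻¹) • f + j x := by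
  have hε := F.ε_ne
  obtain ⟨x, hx⟩ := h.dec (v - F.B v f • e - (F.B v e * F.ε⁻¹) • f)
    (by
      rw [F.B_sub_left, F.B_sub_left, F.B_smul_left, F.B_smul_left, h.he.2, h.hfe, mul_zero, sub_zero, mul_assoc,
        inv_mul_cancel₀ hε, mul_one, sub_self])
    (by
      rw [F.B_sub_left, F.B_sub_left, F.B_smul_left, F.B_smul_left, h.hf.2, h.hef, mul_zero, sub_zero, mul_one, sub_self])
  exact ⟨x, by rw [← hx]; abel⟩

theorem iso_ext {g g' : F.iso} (h1 : (g : V ≃ₗ[K] V) e = (g' : V ≃ₗ[K] V) e)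
    (h2 : (g : V ≃ₗ[K] V) f = (g' : V ≃ₗ[K] V) f) (h3 : ∀ x, (g : V ≃ₗ[K] V) (j x) = (g' : V ≃ₗ[K] V) (j x)) :
    g = g' := by
  apply Subtype.ext
  ext v
  obtain ⟨x, hx⟩ := dec3 h v
  rw [hx, map_add, map_add, map_add, map_add, map_smul, map_smul, map_smul, map_smul, h1, h2, h3]

/-- the action of the torus on the complement -/
theorem torus_j [FiniteDimensional K X] {t : F.iso} {a b : K} (h1 : (t : V ≃ₗ[K] V) e = a • e)
    (h2 : (t : V ≃ₗ[K] V) f = b • f) : ∃ s : F'.iso, ∀ x, (t : V ≃ₗ[K] V) (j x) = j ((s : X ≃ₗ[K] X) x) := by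
  have ha : F.σ a ≠ 0 := by
    rw [Ne, map_eq_zero]
    rintro rfl
    rw [zero_smul] at h1
    exact h.e0 ((t : V ≃ₗ[K] V).map_eq_zero_iff.1 h1)
  have hb : F.σ b ≠ 0 := by
    rw [Ne, map_eq_zero]
    rintro rfl
    rw [zero_smul] at h2
    exact h.f0 ((t : V ≃ₗ[K] V).map_eq_zero_iff.1 h2)
  have hex : ∀ x, ∃ y, (t : V ≃ₗ[K] V) (j x) = j y := by
    intro x
    refine h.dec _ ?_ ?_
    · have := F.iso_B t (j x) e
      rw [h1, F.B_smul_right, h.hje] at this
      exact (mul_eq_zero.1 this).resolve_left ha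
    · have := F.iso_B t (j x) f
      rw [h2, F.B_smul_right, h.hjf] at this
      exact (mul_eq_zero.1 this).resolve_left hb
  choose φ hφ using hex
  let φ' : X →ₗ[K] X :=
    { toFun := φ
      map_add' := fun x y => h.inj (by rw [← hφ, map_add, map_add, map_add, hφ, hφ])
      map_smul' := fun c x => h.inj (by rw [← hφ, map_smul, map_smul, RingHom.id_apply, map_smul, hφ]) }
  obtain ⟨s, hs⟩ := F'.exists_iso φ' (fun x y => by
      change F'.B (φ x) (φ y) = _
      rw [← h.hjB, ← hφ, ← hφ, F.iso_B, h.hjB])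
    (fun x => by
      change F'.Q (φ x) = _
      rw [← h.hjQ, ← hφ, F.iso_Q, h.hjQ])
  exact ⟨s, fun x => by rw [hφ, hs]; rfl⟩

/-- points different from `e` are opposite -/
theorem not_perp (hani : ∀ x, F'.Sing x → x = 0) {x : F.Pt} (hx : x ≠ F.pt e h.e0 h.he) :
    ¬ F.Perp (F.pt e h.e0 h.he) x := by
  obtain ⟨v, h0, hv, rfl⟩ := F.exists_pt x
  rw [F.perp_pt]
  intro h1
  apply hx
  obtain ⟨y, hy⟩ := h.dec_e (F.B_eq_zero h1)
  have h2 := hv
  rw [hy] at h2
  have h3 := hani y (h.sing_ej.1 h2)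
  rw [h3, map_zero, add_zero] at hy
  rw [F.pt_eq_iff]
  refine ⟨F.B v f, ?_, hy⟩
  intro h4
  rw [h4, zero_smul] at hy
  exact h0 hy

theorem ef_not_perp : ¬ F.Perp (F.pt e h.e0 h.he) (F.pt f h.f0 h.hf) := by
  rw [F.perp_pt, h.hef]
  exact one_ne_zero

theorem ef_ne : F.pt e h.e0 h.he ≠ F.pt f h.f0 h.hf := by
  intro h1
  apply ef_not_perp h
  rw [← h1]
  exact F.perp_self _

theorem stab_e {g : F.iso} (hg : g • F.pt e h.e0 h.he = F.pt e h.e0 h.he) : ∃ c : K, c ≠ 0 ∧ (g : V ≃ₗ[K] V) e = c • e := by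
  rw [F.smul_pt, F.pt_eq_iff] at hg
  exact hg

theorem stab_f {g : F.iso} (hg : g • F.pt f h.f0 h.hf = F.pt f h.f0 h.hf) : ∃ c : K, c ≠ 0 ∧ (g : V ≃ₗ[K] V) f = c • f := by
  rw [F.smul_pt, F.pt_eq_iff] at hg
  exact hg

theorem rad_le [FiniteDimensional K V] {g : F.iso} (hg : g ∈ rad F (Submodule.span K {e})) :
    g • F.pt e h.e0 h.he = F.pt e h.e0 h.he := by
  apply Subtype.ext
  exact fixP_le hg.1

theorem mem_rad [FiniteDimensional K V] {g : F.iso} (h1 : (g : V ≃ₗ[K] V) e = e)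
    (h2 : ∀ v, F.B v e = 0 → (g : V ≃ₗ[K] V) v - v ∈ Submodule.span K {e}) : g ∈ rad F (Submodule.span K {e}) := by
  refine ⟨mem_fixP_span h1, F.mem_TT_of (F.TS_span_singleton h.he) fun v hv => ?_⟩
  exact h2 v (hv e (Submodule.mem_span_singleton_self e))

theorem rad_torus [FiniteDimensional K V] {g : F.iso} (hg : g ∈ rad F (Submodule.span K {e})) {c : K}
    (hc : (g : V ≃ₗ[K] V) f = c • f) : g = 1 := by
  have h1 : (g : V ≃ₗ[K] V) e = e := hg.1 e (Submodule.mem_span_singleton_self e)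
  have h2 : c = 1 := by
    have := F.iso_B g e f
    rw [h1, hc, F.B_smul_right, h.hef, mul_one] at this
    have h3 := congrArg F.σ this
    rwa [F.σσ, map_one] at h3
  rw [h2, one_smul] at hc
  refine iso_ext h (by rw [h1]; rfl) (by rw [hc]; rfl) fun x => ?_
  have h3 := hg.2.2 (j x) (perp_span (h.hje x))
  obtain ⟨a, ha⟩ := Submodule.mem_span_singleton.1 h3
  have h4 : (g : V ≃ₗ[K] V) (j x) = j x + a • e := by
    have h5 : a • e = (g : V ≃ₗ[K] V) (j x) - j x := ha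
    rw [h5]; abel
  have h5 := F.iso_B g (j x) f
  rw [h4, hc, F.B_add_left, F.B_smul_left, h.hef, mul_one, h.hjf, zero_add] at h5
  rw [h4, h5, zero_smul, add_zero]
  rfl

/-- **the split BN pair of rank one** -/
noncomputable def split [FiniteDimensional K V] [FiniteDimensional K X] (hani : ∀ x, F'.Sing x → x = 0)
    (hcomm : ∀ a b : F'.iso, a * b = b * a) : Split F.iso where
  B := MulAction.stabilizer F.iso (F.pt e h.e0 h.he)
  U := rad F (Submodule.span K {e})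
  T := MulAction.stabilizer F.iso (F.pt e h.e0 h.he) ⊓ MulAction.stabilizer F.iso (F.pt f h.f0 h.hf)
  w := (F.trans_opp (ef_not_perp h) (fun h1 => ef_not_perp h h1.symm)).choose
  UB := fun g hg => rad_le h hg
  TB := inf_le_left
  nU := by
    intro b hb u hu
    have h1 : b⁻¹ • F.pt e h.e0 h.he = F.pt e h.e0 h.he := by
      rw [inv_smul_eq_iff]; exact (MulAction.mem_stabilizer_iff.1 hb).symm
    have h2 : (Submodule.span K {e}).map (F.iso.subtype b⁻¹ : V →ₗ[K] V) = Submodule.span K {e} := congrArg Subtype.val h1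
    have h3 := rad_conj h2 hu
    rwa [inv_inv] at h3
  dec := by
    intro b hb
    obtain ⟨c, hc0, hc⟩ := stab_e h (MulAction.mem_stabilizer_iff.1 hb)
    have h1 : c * F.B e ((b : V ≃ₗ[K] V) f) = 1 := by
      rw [← F.B_smul_left, ← hc, F.iso_B, h.hef]
    have h2 : F.B e (F.σ c • (b : V ≃ₗ[K] V) f) = 1 := by
      rw [F.B_smul_right, F.σσ, h1]
    obtain ⟨g, hg1, hg2, hg3⟩ := trans_hyp' h.he h.hf (F.sing_smul (F.sing_map b h.hf) _) h.hef h2
    have hsc : F.σ c ≠ 0 := by rwa [Ne, map_eq_zero]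
    refine ⟨g, mem_rad h hg1 hg3, g⁻¹ * b, ⟨?_, ?_⟩, by group⟩
    · refine MulAction.mem_stabilizer_iff.2 ?_
      rw [mul_smul, MulAction.mem_stabilizer_iff.1 hb, inv_smul_eq_iff]
      exact (rad_le h (mem_rad h hg1 hg3)).symm
    · refine MulAction.mem_stabilizer_iff.2 ?_
      rw [mul_smul, inv_smul_eq_iff, F.smul_pt, F.smul_pt, F.pt_eq_iff]
      exact ⟨(F.σ c)⁻¹, inv_ne_zero hsc, by rw [hg2, smul_smul, inv_mul_cancel₀ hsc, one_smul]⟩
  disj := by
    rintro u hu ⟨-, hu2⟩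
    obtain ⟨c, -, hc⟩ := stab_f h (MulAction.mem_stabilizer_iff.1 hu2)
    exact rad_torus h hu hc
  comm := by
    rintro s ⟨hs1, hs2⟩ t ⟨ht1, ht2⟩
    obtain ⟨a, -, ha⟩ := stab_e h (MulAction.mem_stabilizer_iff.1 hs1)
    obtain ⟨b, -, hb⟩ := stab_f h (MulAction.mem_stabilizer_iff.1 hs2)
    obtain ⟨a', -, ha'⟩ := stab_e h (MulAction.mem_stabilizer_iff.1 ht1)
    obtain ⟨b', -, hb'⟩ := stab_f h (MulAction.mem_stabilizer_iff.1 ht2)
    obtain ⟨x, hx⟩ := torus_j h ha hb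
    obtain ⟨y, hy⟩ := torus_j h ha' hb'
    refine iso_ext h ?_ ?_ fun z => ?_
    · change (s : V ≃ₗ[K] V) ((t : V ≃ₗ[K] V) e) = (t : V ≃ₗ[K] V) ((s : V ≃ₗ[K] V) e)
      rw [ha, ha', map_smul, map_smul, ha, ha', smul_smul, smul_smul, mul_comm]
    · change (s : V ≃ₗ[K] V) ((t : V ≃ₗ[K] V) f) = (t : V ≃ₗ[K] V) ((s : V ≃ₗ[K] V) f)
      rw [hb, hb', map_smul, map_smul, hb, hb', smul_smul, smul_smul, mul_comm]
    · change (s : V ≃ₗ[K] V) ((t : V ≃ₗ[K] V) (j z)) = (t : V ≃ₗ[K] V) ((s : V ≃ₗ[K] V) (j z))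
      rw [hy, hx, hx, hy]
      have h1 := hcomm x y
      have h2 : (x : X ≃ₗ[K] X) ((y : X ≃ₗ[K] X) z) = ((x * y : F'.iso) : X ≃ₗ[K] X) z := rfl
      have h3 : (y : X ≃ₗ[K] X) ((x : X ≃ₗ[K] X) z) = ((y * x : F'.iso) : X ≃ₗ[K] X) z := rfl
      rw [h2, h3, h1]
  wT := by
    have hw := (F.trans_opp (ef_not_perp h) (fun h1 => ef_not_perp h h1.symm)).choose_spec
    obtain ⟨w, hw'⟩ : ∃ w, w = (F.trans_opp (ef_not_perp h) (fun h1 => ef_not_perp h h1.symm)).choose := ⟨_, rfl⟩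
    rw [← hw'] at hw ⊢
    rintro t ⟨ht1, ht2⟩
    have ht1' := MulAction.mem_stabilizer_iff.1 ht1
    have ht2' := MulAction.mem_stabilizer_iff.1 ht2
    constructor
    · refine MulAction.mem_stabilizer_iff.2 ?_
      rw [mul_smul, mul_smul, hw.1, ht2', ← hw.1, inv_smul_smul]
    · refine MulAction.mem_stabilizer_iff.2 ?_
      rw [mul_smul, mul_smul, hw.2, ht1', ← hw.2, inv_smul_smul]
  wT' := by
    have hw := (F.trans_opp (ef_not_perp h) (fun h1 => ef_not_perp h h1.symm)).choose_spec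
    obtain ⟨w, hw'⟩ : ∃ w, w = (F.trans_opp (ef_not_perp h) (fun h1 => ef_not_perp h h1.symm)).choose := ⟨_, rfl⟩
    rw [← hw'] at hw ⊢
    have hw1 : w⁻¹ • F.pt f h.f0 h.hf = F.pt e h.e0 h.he := by rw [inv_smul_eq_iff, hw.1]
    have hw2 : w⁻¹ • F.pt e h.e0 h.he = F.pt f h.f0 h.hf := by rw [inv_smul_eq_iff, hw.2]
    rintro t ⟨ht1, ht2⟩
    have ht1' := MulAction.mem_stabilizer_iff.1 ht1
    have ht2' := MulAction.mem_stabilizer_iff.1 ht2
    constructor
    · refine MulAction.mem_stabilizer_iff.2 ?_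
      rw [mul_smul, mul_smul, hw2, ht2', hw.2]
    · refine MulAction.mem_stabilizer_iff.2 ?_
      rw [mul_smul, mul_smul, hw1, ht1', hw.1]
  cap := by
    have hw := (F.trans_opp (ef_not_perp h) (fun h1 => ef_not_perp h h1.symm)).choose_spec
    obtain ⟨w, hw'⟩ : ∃ w, w = (F.trans_opp (ef_not_perp h) (fun h1 => ef_not_perp h h1.symm)).choose := ⟨_, rfl⟩
    rw [← hw'] at hw ⊢
    intro b hb hb'
    refine ⟨hb, ?_⟩
    have h1 := MulAction.mem_stabilizer_iff.1 hb'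
    rw [mul_smul, mul_smul, hw.1, inv_smul_eq_iff, hw.1] at h1
    exact h1
  big := by
    have hw := (F.trans_opp (ef_not_perp h) (fun h1 => ef_not_perp h h1.symm)).choose_spec
    obtain ⟨w, hw'⟩ : ∃ w, w = (F.trans_opp (ef_not_perp h) (fun h1 => ef_not_perp h h1.symm)).choose := ⟨_, rfl⟩
    rw [← hw'] at hw ⊢
    intro x hx
    have h1 : x • F.pt e h.e0 h.he ≠ F.pt e h.e0 h.he := fun h2 => hx (MulAction.mem_stabilizer_iff.2 h2)
    obtain ⟨g, hg1, hg2⟩ := F.trans_opp (ef_not_perp h) (not_perp h hani h1)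
    refine ⟨g, MulAction.mem_stabilizer_iff.2 hg1, w⁻¹ * g⁻¹ * x, ?_, by group⟩
    refine MulAction.mem_stabilizer_iff.2 ?_
    rw [mul_smul, mul_smul, ← hg2, inv_smul_smul, ← hw.1, inv_smul_smul]
  wB := by
    have hw := (F.trans_opp (ef_not_perp h) (fun h1 => ef_not_perp h h1.symm)).choose_spec
    intro h1
    have h2 := MulAction.mem_stabilizer_iff.1 h1
    rw [hw.1] at h2
    exact ef_ne h h2.symm

/-- the sums over the radicals -/
theorem sum_rad [FiniteDimensional K V] [Finite V] {ψ : F.iso → ℂ} (hψ : IsClassFunction _ ψ)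
    (h0 : NoFix (rad F (Submodule.span K {e})) ψ) {U : Submodule K V} (hU : U ∈ F.Om 1) [Fintype (rad F U)] :
    ∑ u : rad F U, ψ u = 0 := by
  classical
  have := finite_iso F
  letI : Fintype (rad F (Submodule.span K {e})) := Fintype.ofFinite _
  rw [← noFix_iff.1 h0]
  obtain ⟨x, hx⟩ := F.trans_Om (F.pt e h.e0 h.he).2 hU
  have hx' : U.map (F.iso.subtype x⁻¹ : V →ₗ[K] V) = Submodule.span K {e} := by
    rw [← hx, ← map_mul_apply, inv_mul_cancel, map_one]
    exact Submodule.map_id _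
  have hback : ∀ g : rad F (Submodule.span K {e}), x * (g : F.iso) * x⁻¹ ∈ rad F U := by
    intro g
    have := rad_conj hx' g.2
    rwa [inv_inv] at this
  let E : rad F U ≃ rad F (Submodule.span K {e}) :=
    { toFun := fun g => ⟨x⁻¹ * g * x, rad_conj hx g.2⟩
      invFun := fun g => ⟨x * g * x⁻¹, hback g⟩
      left_inv := fun g => Subtype.ext (by
        change x * (x⁻¹ * g * x) * x⁻¹ = g
        group)
      right_inv := fun g => Subtype.ext (by
        change x⁻¹ * (x * g * x⁻¹) * x = g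
        group) }
  refine Fintype.sum_equiv E _ _ fun g => ?_
  change ψ g = ψ (x⁻¹ * g * x)
  have h1 := hψ (g : F.iso) x⁻¹
  rw [inv_inv] at h1
  exact h1.symm

theorem one_lt_rad [FiniteDimensional K V] [Finite V] {f' : V} (hf' : F.Sing f') (hef' : F.B e f' = 1)
    (hne : f' ≠ f) : 1 < Nat.card (rad F (Submodule.span K {e})) := by
  have := finite_iso F
  obtain ⟨g, hg1, hg2, hg3⟩ := trans_hyp' h.he h.hf hf' h.hef hef'
  have h1 : Nontrivial (rad F (Submodule.span K {e})) := by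
    refine ⟨⟨⟨g, mem_rad h hg1 hg3⟩, 1, ?_⟩⟩
    intro h2
    have h3 : g = 1 := congrArg Subtype.val h2
    rw [h3] at hg2
    exact hne hg2.symm
  exact Finite.one_lt_card

/-- the torus elements -/
theorem exists_torus [FiniteDimensional K V] {a : K} (ha : a ≠ 0) :
    ∃ t : F.iso, (t : V ≃ₗ[K] V) e = a • e ∧ (t : V ≃ₗ[K] V) f = (F.σ a)⁻¹ • f ∧
      ∀ x, (t : V ≃ₗ[K] V) (j x) = j x := by
  have hW := F.TS_span_singleton h.he
  have hW' := F.TS_span_singleton h.hf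
  obtain ⟨t, h1, h2, h3, -⟩ := F.exists_levi hW hW' (fun w hw hw0 => by
      obtain ⟨c, rfl⟩ := Submodule.mem_span_singleton.1 hw
      have h4 := hw0 f (Submodule.mem_span_singleton_self f)
      rw [F.B_smul_left, h.hef, mul_one] at h4
      rw [h4, zero_smul])
    (fun w hw hw0 => by
      obtain ⟨c, rfl⟩ := Submodule.mem_span_singleton.1 hw
      have h4 := hw0 e (Submodule.mem_span_singleton_self e)
      rw [F.B_smul_right, h.hef, mul_one, map_eq_zero] at h4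
      rw [h4, zero_smul])
    (LinearEquiv.smulOfNeZero K (Submodule.span K {e}) a ha)
  have h1' : (t : V ≃ₗ[K] V) e = a • e := h1 ⟨e, Submodule.mem_span_singleton_self e⟩
  obtain ⟨c, hc⟩ := Submodule.mem_span_singleton.1 (h2 f (Submodule.mem_span_singleton_self f))
  refine ⟨t, h1', ?_, fun x => h3 _ (perp_span (h.hje x)) (perp_span (h.hjf x))⟩
  have h5 := F.iso_B t e f
  rw [h1', ← hc, F.B_smul_left, F.B_smul_right, h.hef, mul_one] at h5
  have h6 : c = (F.σ a)⁻¹ := by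
    have h7 : F.σ c = a⁻¹ := eq_inv_of_mul_eq_one_right h5
    rw [← F.σσ c, h7, map_inv₀]
  rw [← hc, h6]

/-- the radical is a `p`-group -/
theorem rad_isPGroup [FiniteDimensional K V] {p : ℕ} [Fact p.Prime] [CharP K p] :
    IsPGroup p (rad F (Submodule.span K {e})) := by
  rintro ⟨g, hg⟩
  refine ⟨2, ?_⟩
  have hts := F.TS_span_singleton h.he
  have h1' : ∀ w ∈ Submodule.span K {e}, (g : V ≃ₗ[K] V) w = w := hg.1
  have h3 : ∀ v ∈ F.perp (Submodule.span K {e}), (g : V ≃ₗ[K] V) v - v ∈ Submodule.span K {e} := hg.2.2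
  have h4 : ∀ v, (g : V ≃ₗ[K] V) v - v ∈ F.perp (Submodule.span K {e}) := by
    intro v w hw
    rw [F.B_sub_left]
    nth_rewrite 1 [← h1' w hw]
    rw [F.iso_B, sub_self]
  let N : V →ₗ[K] V := ((g : V ≃ₗ[K] V) : V →ₗ[K] V) - LinearMap.id
  have hNv : ∀ v, N v = (g : V ≃ₗ[K] V) v - v := fun v => rfl
  have hN3 : ∀ v, N (N (N v)) = 0 := by
    intro v
    have h5 : N (N v) ∈ Submodule.span K {e} := h3 _ (h4 v)
    rw [hNv, h1' _ h5, sub_self]
  have hcast : ∀ n : ℕ, p ∣ n → ∀ v : V, n • v = 0 := by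
    intro n hn v
    have h6 : (n : K) = 0 := (CharP.cast_eq_zero_iff K p n).2 hn
    have h7 : (n : K) • v = n • v := Nat.cast_smul_eq_nsmul K n v
    rw [← h7, h6, zero_smul]
  have hpp : p.Prime := Fact.out
  have hp2 : 2 ≤ p := hpp.two_le
  apply Subtype.ext
  apply Subtype.ext
  ext v
  change ((g : V ≃ₗ[K] V) ^ (p ^ 2)) v = v
  rw [CForm.pow_unip (g := (g : V ≃ₗ[K] V)) (N := N) (fun v => by rw [hNv]; abel) hN3,
    hcast _ (dvd_pow_self p two_ne_zero),
    hcast _ (hpp.dvd_choose_pow two_ne_zero (by nlinarith)), add_zero, add_zero]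

/-- **the cuspidal character** -/
theorem cusp_form [FiniteDimensional K V] [FiniteDimensional K X] [Finite V] (hani : ∀ x, F'.Sing x → x = 0)
    (hcomm : ∀ a b : F'.iso, a * b = b * a) {f' : V} (hf' : F.Sing f') (hef' : F.B e f' = 1) (hne : f' ≠ f) :
    ∃ ψ : F.iso → ℂ, IsIrrCharacter _ ψ ∧
      (∀ U ∈ F.Om 1, ∀ [Fintype (rad F U)], ∑ u : rad F U, ψ u = 0) ∧
      ∀ p : ℕ, p.Prime → p ≠ 2 → ∀ a : K, a ^ p = 1 → a ≠ 1 → F.σ a = a → ∀ n : ℕ, ψ 1 = n → p ∣ n := by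
  classical
  have := finite_iso F
  have := Fintype.ofFinite F.iso
  obtain ⟨ψ, hψ⟩ := SplitGen.exists_cusp (split h hani hcomm) (one_lt_rad h hf' hef' hne)
  refine ⟨ψ, ψ.2, fun U hU => sum_rad h (Core.isIrr_isClassFunction ψ.2) hψ hU, ?_⟩
  intro p hp hp2 a hap ha1 hσ n hn
  have ha0 : a ≠ 0 := by
    rintro rfl
    rw [zero_pow hp.ne_zero] at hap
    exact zero_ne_one hap
  obtain ⟨t, ht1, ht2, ht3⟩ := exists_torus h ha0
  rw [hσ] at ht2
  have haa : a ≠ a⁻¹ := by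
    intro h1
    have h2 : a ^ 2 = 1 := by rw [sq]; nth_rewrite 2 [h1]; exact mul_inv_cancel₀ ha0
    have h3 : Nat.Coprime 2 p := (Nat.coprime_primes Nat.prime_two hp).2 (Ne.symm hp2)
    have h4 : orderOf a ∣ 1 := by
      rw [← Nat.Coprime.gcd_eq_one h3]
      exact Nat.dvd_gcd (orderOf_dvd_of_pow_eq_one h2) (orderOf_dvd_of_pow_eq_one hap)
    exact ha1 (orderOf_eq_one_iff.1 (Nat.dvd_one.1 h4))
  have hai : a⁻¹ ≠ 1 := by rwa [Ne, inv_eq_one]
  have hpow : ∀ k : ℕ, ((t ^ k : F.iso) : V ≃ₗ[K] V) e = a ^ k • e ∧ ((t ^ k : F.iso) : V ≃ₗ[K] V) f = (a⁻¹) ^ k • f ∧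
      ∀ x, ((t ^ k : F.iso) : V ≃ₗ[K] V) (j x) = j x := by
    intro k
    induction k with
    | zero => simp
    | succ k ih =>
      have e1 : ∀ v, ((t ^ (k + 1) : F.iso) : V ≃ₗ[K] V) v = (t : V ≃ₗ[K] V) (((t ^ k : F.iso) : V ≃ₗ[K] V) v) := by
        intro v
        rw [pow_succ']
        rfl
      refine ⟨?_, ?_, fun x => ?_⟩
      · rw [e1, ih.1, map_smul, ht1, smul_smul, ← pow_succ]
      · rw [e1, ih.2.1, map_smul, ht2, smul_smul, ← pow_succ]
      · rw [e1, ih.2.2, ht3]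
  refine SplitGen.prime_dvd (Core.isIrr_isCharacter ψ.2) hψ hp (t := t) ?_ ?_ ?_ hn
  · have : Fact p.Prime := ⟨hp⟩
    refine orderOf_eq_prime ?_ ?_
    · obtain ⟨h1, h2, h3⟩ := hpow p
      refine iso_ext h ?_ ?_ fun x => ?_
      · rw [h1, hap, one_smul]; rfl
      · rw [h2, inv_pow, hap, inv_one, one_smul]; rfl
      · rw [h3]; rfl
    · intro h1
      rw [h1] at ht1
      have h2 : (a - 1) • e = 0 := by
        rw [sub_smul, one_smul, ← ht1]
        exact sub_self e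
      rcases smul_eq_zero.1 h2 with h3 | h3
      · exact ha1 (sub_eq_zero.1 h3)
      · exact h.e0 h3
  · intro u hu
    have h1 : (Submodule.span K {e}).map (F.iso.subtype t⁻¹ : V →ₗ[K] V) = Submodule.span K {e} := by
      have h2 : t • F.pt e h.e0 h.he = F.pt e h.e0 h.he := by
        rw [F.smul_pt, F.pt_eq_iff]
        exact ⟨a, ha0, ht1⟩
      have h3 : t⁻¹ • F.pt e h.e0 h.he = F.pt e h.e0 h.he := by
        rw [inv_smul_eq_iff]; exact h2.symm
      exact congrArg Subtype.val h3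
    have h3 := rad_conj h1 hu
    rwa [inv_inv] at h3
  · intro u hu htu
    have hue : (u : V ≃ₗ[K] V) e = e := hu.1 e (Submodule.mem_span_singleton_self e)
    -- `z = u f - f`
    obtain ⟨z, hz⟩ : ∃ z, z = (u : V ≃ₗ[K] V) f - f := ⟨_, rfl⟩
    have huf : (u : V ≃ₗ[K] V) f = f + z := by rw [hz]; abel
    have h1 : (t : V ≃ₗ[K] V) ((u : V ≃ₗ[K] V) f) = (u : V ≃ₗ[K] V) ((t : V ≃ₗ[K] V) f) := by
      have := congrArg (fun g : F.iso => (g : V ≃ₗ[K] V) f) htu
      exact this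
    rw [ht2, map_smul, huf, map_add, ht2, smul_add] at h1
    have h2 : (t : V ≃ₗ[K] V) z = a⁻¹ • z := add_left_cancel h1
    have hze : F.B z e = 0 := by
      rw [hz, F.B_sub_left]
      nth_rewrite 1 [← hue]
      rw [F.iso_B, sub_self]
    obtain ⟨x, hx⟩ := h.dec_e hze
    have h3 : F.B z f = 0 := by
      have h4 : (t : V ≃ₗ[K] V) z = (a * F.B z f) • e + j x := by
        rw [hx, map_add, map_smul, ht1, ht3, smul_smul, mul_comm a, ← hx]
      have h5 := congrArg (fun v => F.B v f) (h4.symm.trans h2)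
      simp only [F.B_add_left, F.B_smul_left, h.hef, h.hjf, mul_one, add_zero] at h5
      have h6 : (a - a⁻¹) * F.B z f = 0 := by rw [sub_mul, h5, sub_self]
      exact (mul_eq_zero.1 h6).resolve_left (sub_ne_zero.2 haa)
    rw [h3, zero_smul, zero_add] at hx
    rw [hx, ht3] at h2
    have h7 : (1 - a⁻¹) • j x = 0 := by rw [sub_smul, one_smul, ← h2, sub_self]
    have h8 : j x = 0 := (smul_eq_zero.1 h7).resolve_left (sub_ne_zero.2 (Ne.symm hai))
    rw [hx, h8, add_zero] at huf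
    exact rad_torus h hu (c := 1) (by rw [huf, one_smul])

/-- **the Steinberg character** -/
theorem st_form [FiniteDimensional K V] [FiniteDimensional K X] [Finite V] (hani : ∀ x, F'.Sing x → x = 0)
    (hcomm : ∀ a b : F'.iso, a * b = b * a) {f' : V} (hf' : F.Sing f') (hef' : F.B e f' = 1) (hne : f' ≠ f)
    {p : ℕ} [Fact p.Prime] [CharP K p] :
    ∃ (ψ : F.iso → ℂ) (m : ℕ), IsIrrCharacter _ ψ ∧ 0 < m ∧ ψ 1 = ((p ^ m : ℕ) : ℂ) ∧
      ∀ (z : F.iso) (a : K), (∀ v, (z : V ≃ₗ[K] V) v = a • v) → ψ z = ψ 1 := by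
  classical
  have := finite_iso F
  have := Fintype.ofFinite F.iso
  obtain ⟨ψ, hψ, h1, h2⟩ := SplitGen.exists_st (split h hani hcomm)
  obtain ⟨m, hm⟩ := (IsPGroup.iff_card (p := p)).1 (rad_isPGroup h (p := p))
  refine ⟨ψ, m, hψ, ?_, ?_, ?_⟩
  · rw [Nat.pos_iff_ne_zero]
    rintro rfl
    have h3 := one_lt_rad h hf' hef' hne
    rw [hm, pow_zero] at h3
    exact lt_irrefl _ h3
  · rw [h1, ← hm]
    rfl
  · intro z a hz
    refine h2 z ?_ ?_
    · refine MulAction.mem_stabilizer_iff.2 ?_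
      rw [F.smul_pt, F.pt_eq_iff]
      refine ⟨a, ?_, hz e⟩
      rintro rfl
      have := hz e
      rw [zero_smul] at this
      exact h.e0 ((z : V ≃ₗ[K] V).map_eq_zero_iff.1 this)
    · rw [Subgroup.mem_center_iff]
      intro g
      apply Subtype.ext
      ext v
      change (g : V ≃ₗ[K] V) ((z : V ≃ₗ[K] V) v) = (z : V ≃ₗ[K] V) ((g : V ≃ₗ[K] V) v)
      rw [hz, hz, map_smul]

end split

end Cfsg.Agent.H113.Two.SplitForm
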